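import Mathlib
import Cfsg.Prelude.Def_Characters
import Cfsg.Prelude.Def_Sporadic_a
import Cfsg.Agent.Lib.Helper92.M11Stmt

/-!
# S0420 blueprint (helper68): a simple group of order 7920 is the Mathieu group M11

Exact statements of the pieces, each a `def X : Prop`, universe polymorphic in `u`.
A piece is proved as `theorem main : (hypothesis pieces →) X.{u}` in a file of its own.
-/

set_option autoImplicit false

namespace Cfsg.Agent.Lib.Helper68.M11UStmt

open Cfsg Cfsg.Agent.Lib.Helper92.M11Stmt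

universe u

/-- `t` inverts every element of the subgroup `P`. -/
def Inverts {G : Type u} [Group G] (t : G) (P : Subgroup G) : Prop :=
  ∀ x ∈ P, t * x * t⁻¹ = x⁻¹

/-- `Q` normalizes `P` (elementwise form). -/
def Normalizes {G : Type u} [Group G] (Q P : Subgroup G) : Prop :=
  ∀ q ∈ Q, ∀ x ∈ P, q * x * q⁻¹ ∈ P

/-! ## Part I: local structure of a simple group of order 7920 -/

/-- [INVCONJ] all involutions are conjugate. -/
def InvConj : Prop :=
  ∀ (G : Type u) [Group G] [Finite G] [IsSimpleGroup G], Nat.card G = 7920 →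
    ∀ s t : G, orderOf s = 2 → orderOf t = 2 → IsConj s t

/-- [CENT3] a Sylow 3-subgroup is self-centralizing. -/
def CentSyl3 : Prop :=
  ∀ (G : Type u) [Group G] [Finite G] [IsSimpleGroup G], Nat.card G = 7920 →
    ∀ (P : Sylow 3 G) (g : G), (∀ x ∈ (P : Subgroup G), g * x = x * g) → g ∈ (P : Subgroup G)

/-- [INVERT] some involution inverts a given Sylow 3-subgroup. -/
def InvertT : Prop :=
  ∀ (G : Type u) [Group G] [Finite G] [IsSimpleGroup G], Nat.card G = 7920 →
    ∀ P : Sylow 3 G, ∃ t : G, orderOf t = 2 ∧ Inverts t (P : Subgroup G)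

/-- [INVCOSET] the involutions inverting `P` are exactly the elements of the coset `t P`. -/
def InvCoset : Prop :=
  ∀ (G : Type u) [Group G] [Finite G] [IsSimpleGroup G], Nat.card G = 7920 →
    ∀ (P : Sylow 3 G) (t : G), orderOf t = 2 → Inverts t (P : Subgroup G) →
      ∀ s : G, (orderOf s = 2 ∧ Inverts s (P : Subgroup G)) ↔ ∃ x ∈ (P : Subgroup G), s = t * x

/-- [THREE] every involution inverts exactly three Sylow 3-subgroups. -/
def ThreeInv : Prop :=
  ∀ (G : Type u) [Group G] [Finite G] [IsSimpleGroup G], Nat.card G = 7920 →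
    ∀ t : G, orderOf t = 2 → Nat.card {P : Sylow 3 G // Inverts t (P : Subgroup G)} = 3

/-- [STAB] the centralizer of `t` in the normalizer of a Sylow 3-subgroup inverted by `t`
has order 16. -/
def StabT : Prop :=
  ∀ (G : Type u) [Group G] [Finite G] [IsSimpleGroup G], Nat.card G = 7920 →
    ∀ (P : Sylow 3 G) (t : G), orderOf t = 2 → Inverts t (P : Subgroup G) →
      Nat.card (Subgroup.centralizer ({t} : Set G) ⊓
        Subgroup.normalizer ((P : Subgroup G) : Set G) : Subgroup G) = 16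

/-- [KERQ] the kernel `Q` of the action of `C(t)` on the three Sylow 3-subgroups inverted by
`t` has order 8, and an element `y` of order 3 of `C(t)` acts on it with `C_Q(y) = {1, t}`. -/
def KerQ : Prop :=
  ∀ (G : Type u) [Group G] [Finite G] [IsSimpleGroup G], Nat.card G = 7920 →
    ∀ t : G, orderOf t = 2 → ∃ (Q : Subgroup G) (y : G), Nat.card Q = 8 ∧ t ∈ Q ∧
      (∀ P : Sylow 3 G, Inverts t (P : Subgroup G) → Normalizes Q (P : Subgroup G)) ∧
      orderOf y = 3 ∧ y * t = t * y ∧ (∀ q ∈ Q, y * q * y⁻¹ ∈ Q) ∧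
      (∀ q ∈ Q, y * q * y⁻¹ = q → q = 1 ∨ q = t)

/-- [UNIQ] `t` is the only involution of `Q`: every element of `Q` other than `1, t`
squares to `t` (so `Q` is a quaternion group). -/
def UniqInv : Prop :=
  ∀ (G : Type u) [Group G] [Finite G] [IsSimpleGroup G], Nat.card G = 7920 →
    ∀ (t : G) (Q : Subgroup G) (y : G) (P : Sylow 3 G), orderOf t = 2 → Nat.card Q = 8 →
      t ∈ Q → Inverts t (P : Subgroup G) → Normalizes Q (P : Subgroup G) → orderOf y = 3 →
      (∀ q ∈ Q, y * q * y⁻¹ ∈ Q) → (∀ q ∈ Q, y * q * y⁻¹ = q → q = 1 ∨ q = t) →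
      ∀ q ∈ Q, q ≠ 1 → q ≠ t → q * q = t

/-! ## Part II: general lemmas (pure group theory / representation theory) -/

/-- [CONJCOSET] if `q` normalizes the finite subgroup `P` and centralizes no non-trivial
element of it, then every element of the coset `P q` is conjugate to `q` under `P`. -/
def ConjCoset : Prop :=
  ∀ (G : Type u) [Group G] [Finite G] (P : Subgroup G) (q : G),
    (∀ x ∈ P, q * x * q⁻¹ ∈ P) → (∀ x ∈ P, q * x = x * q → x = 1) →
    ∀ p ∈ P, ∃ g ∈ P, g * q * g⁻¹ = p * q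

/-- [REGQ] a group of order 8 acting freely on the 8 non-trivial elements of a group of
order 9 permutes them transitively. -/
def RegQ : Prop :=
  ∀ (G : Type u) [Group G] [Finite G] (P Q : Subgroup G), Nat.card P = 9 → Nat.card Q = 8 →
    Normalizes Q P → (∀ q ∈ Q, q ≠ 1 → ∀ x ∈ P, q * x = x * q → x = 1) →
    ∀ x ∈ P, ∀ x' ∈ P, x ≠ 1 → x' ≠ 1 → ∃ q ∈ Q, q * x * q⁻¹ = x'

/-- [SUMPROD] sums over the product `P Q` of two subgroups, `Q` normalizing `P`,
`P ∩ Q = 1`. -/
def SumProd : Prop :=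
  ∀ (G : Type u) [Group G] [Finite G] (P Q : Subgroup G), Normalizes Q P →
    (∀ x : G, x ∈ P → x ∈ Q → x = 1) →
    Nat.card (P ⊔ Q : Subgroup G) = Nat.card P * Nat.card Q ∧
    ∀ f : G → ℂ, (∑ᶠ h : (P ⊔ Q : Subgroup G), f (h : G))
      = ∑ᶠ p : P, ∑ᶠ q : Q, f ((p : G) * (q : G))

/-- [MONO] the sum of a character over a subgroup `H` is `|H|` times a natural number
(the dimension of the space of `H`-fixed vectors), and this number decreases with `H`. -/
def Mono : Prop :=
  ∀ (G : Type u) [Group G] [Finite G] (χ : G → ℂ), IsCharacter G χ →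
    ∀ H K : Subgroup G, H ≤ K → ∃ n m : ℕ, m ≤ n ∧
      (∑ᶠ h : H, χ (h : G)) = (Nat.card H : ℂ) * n ∧
      (∑ᶠ k : K, χ (k : G)) = (Nat.card K : ℂ) * m

/-- [FIXVEC] two subgroups `H₁, H₂ ≥ K` whose spaces of fixed vectors (of dimensions
`n₁, n₂`) are too big for the space of `K`-fixed vectors (of dimension `m`) fix a common
non-zero vector; if the character has no trivial constituent, they do not generate `G`. -/
def FixVec : Prop :=
  ∀ (G : Type u) [Group G] [Finite G] (χ : G → ℂ), IsCharacter G χ → (∑ᶠ g : G, χ g) = 0 →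
    ∀ (H₁ H₂ K : Subgroup G) (n₁ n₂ m : ℕ), K ≤ H₁ → K ≤ H₂ →
      (∑ᶠ h : H₁, χ (h : G)) = (Nat.card H₁ : ℂ) * n₁ →
      (∑ᶠ h : H₂, χ (h : G)) = (Nat.card H₂ : ℂ) * n₂ →
      (∑ᶠ k : K, χ (k : G)) = (Nat.card K : ℂ) * m → m < n₁ + n₂ → H₁ ⊔ H₂ ≠ ⊤

/-! ## Part III: values of a character of degree 10 -/

/-- [COL2] some character of degree 10 is positive at a given involution. -/
def Col2 : Prop :=
  ∀ (G : Type u) [Group G] [Finite G] [IsSimpleGroup G], Nat.card G = 7920 →
    ∀ (D : Chars G) (t : G), orderOf t = 2 → ∃ i : Fin 3, 0 < ((D.a i : G → ℂ) t).re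

/-- [CHARP] a character of degree 10 takes the value 1 on the non-trivial elements of a Sylow
3-subgroup all of whose non-trivial elements are conjugate. -/
def CharP : Prop :=
  ∀ (G : Type u) [Group G] [Finite G] [IsSimpleGroup G], Nat.card G = 7920 →
    ∀ (D : Chars G) (i : Fin 3) (P : Sylow 3 G),
      (∀ x ∈ (P : Subgroup G), ∀ x' ∈ (P : Subgroup G), x ≠ 1 → x' ≠ 1 → IsConj x x') →
      ∀ x ∈ (P : Subgroup G), x ≠ 1 → (D.a i : G → ℂ) x = 1

/-- [CHART] a character of degree 10 which is positive at the involution `t` has value 2. -/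
def CharT : Prop :=
  ∀ (G : Type u) [Group G] [Finite G] [IsSimpleGroup G], Nat.card G = 7920 →
    ∀ (D : Chars G) (i : Fin 3) (P : Sylow 3 G) (t : G), orderOf t = 2 →
      Inverts t (P : Subgroup G) →
      (∀ x ∈ (P : Subgroup G), x ≠ 1 → (D.a i : G → ℂ) x = 1) →
      0 < ((D.a i : G → ℂ) t).re → (D.a i : G → ℂ) t = 2

/-- [CHARQ4] the values at a square root `q` of `t` normalizing `P`. -/
def CharQ4 : Prop :=
  ∀ (G : Type u) [Group G] [Finite G] [IsSimpleGroup G], Nat.card G = 7920 →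
    ∀ (D : Chars G) (i : Fin 3) (P : Sylow 3 G) (t q : G), orderOf t = 2 →
      Inverts t (P : Subgroup G) → q * q = t → (∀ x ∈ (P : Subgroup G), q * x * q⁻¹ ∈ (P : Subgroup G)) →
      (∀ x ∈ (P : Subgroup G), x ≠ 1 → (D.a i : G → ℂ) x = 1) → (D.a i : G → ℂ) t = 2 →
      ∃ m : ℕ, m ≤ 2 ∧ (D.a i : G → ℂ) q + (D.a i : G → ℂ) q⁻¹ = 4 * (m : ℂ) - 4

/-- [CHARQ] the sums of the character over `Q` and over `P Q`. -/
def CharQ : Prop :=
  ∀ (G : Type u) [Group G] [Finite G] [IsSimpleGroup G], Nat.card G = 7920 →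
    ∀ (D : Chars G) (i : Fin 3) (P : Sylow 3 G) (t : G) (Q : Subgroup G) (y : G),
      orderOf t = 2 → Inverts t (P : Subgroup G) → Nat.card Q = 8 → t ∈ Q →
      Normalizes Q (P : Subgroup G) → (∀ q ∈ Q, q ≠ 1 → q ≠ t → q * q = t) →
      orderOf y = 3 → y * t = t * y → (∀ q ∈ Q, y * q * y⁻¹ ∈ Q) →
      (∀ q ∈ Q, y * q * y⁻¹ = q → q = 1 ∨ q = t) →
      (∀ x ∈ (P : Subgroup G), x ≠ 1 → (D.a i : G → ℂ) x = 1) → (D.a i : G → ℂ) t = 2 →
      (∑ᶠ q : Q, (D.a i : G → ℂ) (q : G)) = 24 ∧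
      (∑ᶠ h : ((P : Subgroup G) ⊔ Q : Subgroup G), (D.a i : G → ℂ) (h : G)) = 144

/-! ## Part IV: the subgroup of index 11 -/

/-- [MININDEX] a proper subgroup has index at least 11. -/
def MinIndex : Prop :=
  ∀ (G : Type u) [Group G] [Finite G] [IsSimpleGroup G], Nat.card G = 7920 →
    ∀ H : Subgroup G, H ≠ ⊤ → 11 ≤ H.index

/-- [ORDER720] a proper subgroup containing `P₁ Q` and a second Sylow 3-subgroup has
order 720. -/
def Order720 : Prop :=
  ∀ (G : Type u) [Group G] [Finite G] [IsSimpleGroup G], Nat.card G = 7920 →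
    ∀ (P₁ P₂ : Sylow 3 G) (Q H : Subgroup G), P₁ ≠ P₂ → Nat.card Q = 8 →
      Normalizes Q (P₁ : Subgroup G) → (P₁ : Subgroup G) ≤ H → (P₂ : Subgroup G) ≤ H → Q ≤ H →
      H ≠ ⊤ → Nat.card H = 720

/-! ## Part V: the action on the 11 cosets of a subgroup `M` of index 11 -/

/-- [FIX5] an element of order 5 fixes exactly one coset. -/
def Fix5 : Prop :=
  ∀ (G : Type u) [Group G] [Finite G] [IsSimpleGroup G], Nat.card G = 7920 →
    ∀ M : Subgroup G, M.index = 11 → ∀ z : G, orderOf z = 5 →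
      Nat.card (MulAction.fixedBy (G ⧸ M) z) = 1

/-- [TWOTRANS] the action is 2-transitive. -/
def TwoTrans : Prop :=
  ∀ (G : Type u) [Group G] [Finite G] [IsSimpleGroup G], Nat.card G = 7920 →
    ∀ M : Subgroup G, M.index = 11 → ∀ a b a' b' : G ⧸ M, a ≠ b → a' ≠ b' →
      ∃ g : G, g • a = a' ∧ g • b = b'

/-- [FIX3] an element of order 3 fixes exactly two cosets. -/
def Fix3 : Prop :=
  ∀ (G : Type u) [Group G] [Finite G] [IsSimpleGroup G], Nat.card G = 7920 →
    ∀ M : Subgroup G, M.index = 11 → ∀ y : G, orderOf y = 3 →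
      Nat.card (MulAction.fixedBy (G ⧸ M) y) = 2

/-- [STAB3] the stabilizer of three distinct cosets has order 8. -/
def Stab3 : Prop :=
  ∀ (G : Type u) [Group G] [Finite G] [IsSimpleGroup G], Nat.card G = 7920 →
    ∀ M : Subgroup G, M.index = 11 → ∀ a b c : G ⧸ M, a ≠ b → a ≠ c → b ≠ c →
      Nat.card (MulAction.stabilizer G a ⊓ MulAction.stabilizer G b ⊓
        MulAction.stabilizer G c : Subgroup G) = 8

/-- [FIX2] an involution fixes at most three cosets. -/
def Fix2 : Prop :=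
  ∀ (G : Type u) [Group G] [Finite G] [IsSimpleGroup G], Nat.card G = 7920 →
    ∀ M : Subgroup G, M.index = 11 → ∀ t : G, orderOf t = 2 →
      Nat.card (MulAction.fixedBy (G ⧸ M) t) ≤ 3

/-- [FIXLE3] every non-trivial element fixes at most three cosets. -/
def FixLe3 : Prop :=
  ∀ (G : Type u) [Group G] [Finite G] [IsSimpleGroup G], Nat.card G = 7920 →
    ∀ M : Subgroup G, M.index = 11 → ∀ g : G, g ≠ 1 →
      Nat.card (MulAction.fixedBy (G ⧸ M) g) ≤ 3

/-! ## Part VI: sharply 4-transitive groups of degree 11 and Steiner systems -/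

/-- [SHARP4] a group of order 7920 acting on 11 points, non-trivial elements fixing at most
three points, is sharply 4-transitive. -/
def Sharp4 : Prop :=
  ∀ (G : Type u) [Group G] [Finite G] (Ω : Type u) [Fintype Ω] [MulAction G Ω],
    Nat.card G = 7920 → Fintype.card Ω = 11 →
    (∀ g : G, g ≠ 1 → Nat.card (MulAction.fixedBy Ω g) ≤ 3) →
    ∀ p p' : Fin 4 → Ω, Function.Injective p → Function.Injective p' →
      ∃! g : G, ∀ i, g • p i = p' i

/-- [THIRD] in a sharply 4-transitive group of degree 11: the fifth point `e s` of the block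
through a 4-set `s`. -/
def Third : Prop :=
  ∀ (G : Type u) [Group G] (Ω : Type u) [Fintype Ω] [DecidableEq Ω] [MulAction G Ω],
    Fintype.card Ω = 11 →
    (∀ p p' : Fin 4 → Ω, Function.Injective p → Function.Injective p' →
      ∃! g : G, ∀ i, g • p i = p' i) →
    ∃ e : Finset Ω → Ω, (∀ s : Finset Ω, s.card = 4 → e s ∉ s) ∧
      (∀ s : Finset Ω, s.card = 4 → ∀ d ∈ s, e (insert (e s) (s.erase d)) = d) ∧
      (∀ (g : G) (s : Finset Ω), s.card = 4 → e (s.image (fun x => g • x)) = g • e s)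

/-- [STEINER] the blocks `s ∪ {e s}` form a `G`-invariant Steiner system `S(4, 5, 11)`. -/
def SteinerOfThird : Prop :=
  ∀ (G : Type u) [Group G] (Ω : Type u) [Fintype Ω] [DecidableEq Ω] [MulAction G Ω]
    (e : Finset Ω → Ω), (∀ s : Finset Ω, s.card = 4 → e s ∉ s) →
    (∀ s : Finset Ω, s.card = 4 → ∀ d ∈ s, e (insert (e s) (s.erase d)) = d) →
    (∀ (g : G) (s : Finset Ω), s.card = 4 → e (s.image (fun x => g • x)) = g • e s) →
    ∃ B : Set (Finset Ω), IsSteinerSystem 4 5 B ∧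
      ∀ g : G, ∀ b ∈ B, b.image (fun x => g • x) ∈ B

end Cfsg.Agent.Lib.Helper68.M11UStmt
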