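import Mathlib

/-!
# S4017 (two-prime conclusion) -- piece statements for the team call

Every piece is a `Prop`; a piece file proves `theorem main : MixStmt.<PIECE>.{u}` (or
`theorem main (h : MixStmt.<EARLIER>.{u}) ... : MixStmt.<PIECE>.{u}` taking earlier pieces as
explicit hypotheses).  Paper proofs are in the docstrings.  Throughout, in the "boundary" context
`BCtx G p a Q y`:  `N := normalizer Q`, `C := centralizer Q`, `Q#` := nonidentity elements of `Q`.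
-/

set_option autoImplicit false

namespace Cfsg.Agent.Lib.Helper68.MixStmt

universe u

open Subgroup

/-- `n` is a `{p,q}`-number. -/
def PQNum (p q n : ℕ) : Prop := ∀ r : ℕ, r.Prime → r ∣ n → r = p ∨ r = q

/-- The hypotheses of S4017, bundled. -/
def Hyp (G : Type u) [Group G] [Finite G] (p q : ℕ) : Prop :=
  p.Prime ∧ q.Prime ∧ p ≠ q ∧ p ≠ 2 ∧ p ∣ Nat.card G ∧ q ∣ Nat.card G ∧
  (∀ H : Subgroup G, H ≠ ⊤ → ¬ IsPGroup q H → q ∣ Nat.card H → p ∣ Nat.card H) ∧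
  (q ^ (Nat.card G).factorization q - 1 < p ∨
      (p = q ^ (Nat.card G).factorization q - 1 ∧ ∀ P : Sylow p G, IsMulCommutative P))

/-- Induction hypothesis: S4017 for all groups (in `Type u`) of order `< n`. -/
def IH (n : ℕ) : Prop :=
  ∀ (H : Type u) [Group H] [Finite H] (p q : ℕ), Nat.card H < n → Hyp H p q →
    PQNum p q (Nat.card H)

/-- (E): every proper subgroup of order divisible by `q` is a `{p,q}`-group. -/
def EvenPQ (G : Type u) [Group G] (p q : ℕ) : Prop :=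
  ∀ H : Subgroup G, H ≠ ⊤ → q ∣ Nat.card H → PQNum p q (Nat.card H)

/-- `y` is a `p`-element. -/
def IsPElt {G : Type u} [Group G] (p : ℕ) (y : G) : Prop := ∃ k : ℕ, orderOf y = p ^ k

/-- `X` has a normal `p`-subgroup `V` of index `2^a` (a normal 2-complement, when `|X|_2 = 2^a`). -/
def HasNPC {G : Type u} [Group G] (p a : ℕ) (X : Subgroup G) : Prop :=
  ∃ V : Subgroup G, V ≤ X ∧ IsPGroup p V ∧ (∀ g ∈ X, ∀ v ∈ V, g * v * g⁻¹ ∈ V) ∧
    Nat.card X = 2 ^ a * Nat.card V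

/-- The boundary context: `p = 2^a - 1` prime, `a ≥ 2`, `Q` a Sylow 2-subgroup of order `2^a`,
`y` a `p`-element normalizing `Q` and transitive on `Q#`, every proper subgroup of even order is a
`{2,p}`-group, Sylow `p`-subgroups abelian, `O_p(G) = 1`, and `|G|` is NOT a `{2,p}`-number.
(Goal of the boundary pieces: this is contradictory.) -/
structure BCtx (G : Type u) [Group G] [Finite G] (p a : ℕ) (Q : Subgroup G) (y : G) : Prop where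
  hp : p.Prime
  hpa : p + 1 = 2 ^ a
  ha : 2 ≤ a
  hQ : Nat.card Q = 2 ^ a
  hfac : (Nat.card G).factorization 2 = a
  hyQ : y ∈ normalizer (Q : Set G)
  htrans : ∀ s ∈ Q, s ≠ 1 → ∀ t ∈ Q, t ≠ 1 → ∃ k : ℕ, y ^ k * s * (y ^ k)⁻¹ = t
  hy : IsPElt p y
  hE : EvenPQ G p 2
  hpG : p ∣ Nat.card G
  hab : ∀ P : Sylow p G, IsMulCommutative P
  hOp : ∀ A : Subgroup G, A.Normal → IsPGroup p A → A = ⊥
  hnot : ¬ PQNum p 2 (Nat.card G)

/-! ## General part -/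

/-- SUB. `Hyp` passes to subgroups of order divisible by `p` and `q`.
hmix: map `K ≤ H` into `G` (`K.map H.subtype`), same card, proper.  hlarge: `a' ≤ a` for the
`q`-exponents; if `a' < a` then `q^a' - 1 < q^a - 1 ≤ p` (first disjunct); if `a' = a` keep the
disjunct, Sylow `p` of `H` maps into a (commutative) Sylow `p` of `G`. -/
def SUB : Prop := ∀ (G : Type u) [Group G] [Finite G] (p q : ℕ), Hyp G p q →
  ∀ H : Subgroup G, p ∣ Nat.card H → q ∣ Nat.card H → Hyp H p q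

/-- EVEN (uses SUB). `H` proper, `q ∣ |H|`: if `p ∣ |H|` then `Hyp H p q` (SUB) and IH; otherwise
hmix (contrapositive) makes `H` a `q`-group. -/
def EVEN : Prop := ∀ (G : Type u) [Group G] [Finite G] (p q : ℕ), Hyp G p q →
  IH.{u} (Nat.card G) → EvenPQ G p q

/-- QUO. `Hyp` passes to `G ⧸ A`, `A` a normal `p`-subgroup with `p ∣ |G/A|`.
hmix for `H̄ < G/A` not a `q`-group, `q ∣ |H̄|`: some prime `ℓ ≠ q` divides `|H̄|`; the preimage is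
proper of order `|A||H̄|` divisible by `q`, so a `{p,q}`-number by `EvenPQ`; hence `ℓ = p`.
hlarge: same `q`-part; a Sylow `p` of `G/A` is the image of a `p`-subgroup of `G` (preimage),
which sits in a commutative Sylow `p` of `G`. -/
def QUO : Prop := ∀ (G : Type u) [Group G] [Finite G] (p q : ℕ), Hyp G p q → EvenPQ G p q →
  ∀ (A : Subgroup G) [A.Normal], IsPGroup p A → p ∣ Nat.card (G ⧸ A) → Hyp (G ⧸ A) p q

/-- OP (uses QUO). No nontrivial normal `p`-subgroup `A`.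
If `p ∣ |G/A|`: QUO + IH give `PQNum p 2 |G/A|`, hence `PQNum p 2 |G|`, contradiction.
Else `A` is a normal Sylow `p`, so `y ∈ A` and `y s y⁻¹ s⁻¹ ∈ Q ∩ A = 1` for `s ∈ Q`. -/
def OP : Prop := ∀ (G : Type u) [Group G] [Finite G] (p : ℕ) (Q : Subgroup G) (y : G),
  Hyp G p 2 → EvenPQ G p 2 → IH.{u} (Nat.card G) → ¬ PQNum p 2 (Nat.card G) →
  IsPGroup 2 Q → y ∈ normalizer (Q : Set G) → IsPElt p y → y ∉ centralizer (Q : Set G) →
  ∀ A : Subgroup G, A.Normal → IsPGroup p A → A = ⊥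

/-- FROB1. No normal `q`-complement `K`: some prime `r ∉ {p,q}` divides `|K|`; `R ∈ Syl_r(K)`;
Frattini `G = K N_G(R)` so `N_G(R)` contains a Sylow `q`-subgroup `S'` of `G`; `R S'` is a proper
subgroup (`p ∤`) of order divisible by `q` and `r`, contradicting `EvenPQ`. -/
def FROB1 : Prop := ∀ (G : Type u) [Group G] [Finite G] (p q : ℕ), p.Prime → q.Prime → p ≠ q →
  p ∣ Nat.card G → q ∣ Nat.card G → EvenPQ G p q → ¬ PQNum p q (Nat.card G) →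
  ∀ (S : Sylow q G) (K : Subgroup G), K.Normal → K.IsComplement' (S : Subgroup G) → False

/-- FROB2. `g` a `q'`-element normalizing, not centralizing the `q`-group `Q₁`: some primary part
`g'` (a power of `g`, of `ℓ`-power order) does not centralize `Q₁`.  If `ℓ ≠ p` then `Q₁⟨g'⟩` is a
proper (`p ∤`) subgroup of order divisible by `q` and `ℓ`: contradiction with `EvenPQ`. -/
def FROB2 : Prop := ∀ (G : Type u) [Group G] [Finite G] (p q : ℕ), p.Prime → q.Prime → p ≠ q →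
  p ∣ Nat.card G → EvenPQ G p q →
  ∀ (Q₁ : Subgroup G) (g : G), IsPGroup q Q₁ → g ∈ normalizer (Q₁ : Set G) →
    Nat.Coprime (orderOf g) q → g ∉ centralizer (Q₁ : Set G) →
    ∃ y : G, IsPElt p y ∧ y ∈ normalizer (Q₁ : Set G) ∧ y ∉ centralizer (Q₁ : Set G)

/-- ORB. `⟨y⟩` acts on `Q₁` by conjugation; an orbit of a non-fixed point has `p`-power size `> 1`
inside `Q₁ \ {1}`.  If `|Q₁| = p + 1` that orbit is all of `Q₁ \ {1}`. -/
def ORB : Prop := ∀ (G : Type u) [Group G] [Finite G] (p : ℕ) (Q₁ : Subgroup G) (y : G),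
  p.Prime → IsPElt p y → y ∈ normalizer (Q₁ : Set G) → y ∉ centralizer (Q₁ : Set G) →
  p + 1 ≤ Nat.card Q₁ ∧
  (Nat.card Q₁ = p + 1 → ∀ s ∈ Q₁, s ≠ 1 → ∀ t ∈ Q₁, t ≠ 1 →
    ∃ k : ℕ, y ^ k * s * (y ^ k)⁻¹ = t)

/-- FIT (pure group theory; tools `Cfsg.Agent.S0144.result` (Burnside p^a q^b ⟹ solvable) and
`Cfsg.Agent.S0044.result` (`C(F(M)) ≤ F(M)` for solvable `M`, `Cfsg.fittingSubgroup`)).
`M` a `{2,p}`-group, `W` an abelian Sylow `p` centralizing every normal 2-subgroup of `M`.  Then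
`W ⊴ M`:  `F(M) = O_2 × O_p`, `O_p ≤ W`, so `W ≤ C(F(M)) ≤ F(M)`, `W = O_p(M)`. -/
def FIT : Prop := ∀ (M : Type u) [Group M] [Finite M] (p : ℕ) (W : Sylow p M), p.Prime → p ≠ 2 →
  PQNum p 2 (Nat.card M) → IsMulCommutative W →
  (∀ O : Subgroup M, O.Normal → IsPGroup 2 O → ∀ w ∈ W, ∀ o ∈ O, w * o = o * w) →
  (W : Subgroup M).Normal

/-! ## Boundary part: basic facts -/

/-- CONJ. The boundary context is invariant under conjugation. -/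
def CONJ : Prop := ∀ (G : Type u) [Group G] [Finite G] (p a : ℕ) (Q : Subgroup G) (y : G),
  BCtx G p a Q y → ∀ h : G, BCtx G p a (Q.map (MulAut.conj h).toMonoidHom) (h * y * h⁻¹)

/-- EXP. `Q` has exponent 2 (Cauchy gives one involution in `Q`; `y` is transitive on `Q#`). -/
def EXP : Prop := ∀ (G : Type u) [Group G] [Finite G] (p a : ℕ) (Q : Subgroup G) (y : G),
  BCtx G p a Q y → ∀ s ∈ Q, s * s = 1

/-- NTOP. `Q` is not normal: else for `r ∉ {2,p}` prime dividing `|G|` and `R ∈ Syl_r(G)`, `QR`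
is a proper (`p ∤`) subgroup of even order divisible by `r`. -/
def NTOP : Prop := ∀ (G : Type u) [Group G] [Finite G] (p a : ℕ) (Q : Subgroup G) (y : G),
  BCtx G p a Q y → normalizer (Q : Set G) ≠ ⊤

/-- INVN. 2-elements of `N` lie in `Q` (`Q` is a normal Sylow 2-subgroup of `N`). -/
def INVN : Prop := ∀ (G : Type u) [Group G] [Finite G] (p a : ℕ) (Q : Subgroup G) (y : G),
  BCtx G p a Q y → ∀ w ∈ normalizer (Q : Set G), (∃ k : ℕ, orderOf w = 2 ^ k) → w ∈ Q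

/-- INVCONJ. Every involution is conjugate into `Q` (Sylow; `|Q| = 2^a` is the full 2-part). -/
def INVCONJ : Prop := ∀ (G : Type u) [Group G] [Finite G] (p a : ℕ) (Q : Subgroup G) (y : G),
  BCtx G p a Q y → ∀ w : G, orderOf w = 2 → ∃ g : G, g * w * g⁻¹ ∈ Q

/-- SIMPLE. `G` is simple.  Let `N₀ ⊴ G`, `N₀ ≠ ⊥, ⊤`, `r ∉ {2,p}` prime dividing `|G|`.
`|N₀|` even: `Q' ∈ Syl_2(N₀)`, Frattini ⟹ `r ∣ |N_G(Q')|` ⟹ `N_G(Q') = ⊤` (hE) ⟹ `Q'R'`
(`R' ∈ Syl_r(G)`) is an even subgroup divisible by `r`, so `= ⊤`, but `p ∤ |Q'R'|`.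
`|N₀|` odd: a prime `s ≠ p` dividing `|N₀|`, `S₀ ∈ Syl_s(N₀)`: Frattini ⟹ `|N_G(S₀)|` even ⟹
`N_G(S₀) = ⊤` ⟹ `S₀Q` even with `s ∣` ⟹ `= ⊤`, `p ∤`: contradiction.  So `N₀` is a `p`-group,
`= ⊥` by hOp. -/
def SIMPLE : Prop := ∀ (G : Type u) [Group G] [Finite G] (p a : ℕ) (Q : Subgroup G) (y : G),
  BCtx G p a Q y → IsSimpleGroup G

/-- NCENT. `n ∈ N` commuting with some `t ∈ Q#` centralizes `Q`.
`|N| = 2^a p^b` (hE, NTOP).  `n = n₂ n_p` (commuting powers of `n`); `n₂ ∈ Q` (INVN), `Q`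
abelian (EXP).  `n_p` lies in a Sylow `p` of `N`, which is abelian (inside a Sylow `p` of `G`)
and contains an `N`-conjugate `y'` of `y`; `y'` is still transitive on `Q#` and commutes with
`n_p`, and `n_p` fixes `t`, so `n_p` fixes all of `Q#`. -/
def NCENT : Prop := ∀ (G : Type u) [Group G] [Finite G] (p a : ℕ) (Q : Subgroup G) (y : G),
  BCtx G p a Q y → ∀ n ∈ normalizer (Q : Set G), ∀ t ∈ Q, t ≠ 1 → n * t = t * n →
    n ∈ centralizer (Q : Set G)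

/-- TRANS. Every `n ∈ N \ C` is transitive on `Q#`: by NCENT the stabilizer in `⟨n⟩` of any
`s ∈ Q#` is `⟨n⟩ ∩ C`, so all `⟨n⟩`-orbits on `Q#` have the same size `m > 1`, and `m ∣ |Q#| = p`. -/
def TRANS : Prop := ∀ (G : Type u) [Group G] [Finite G] (p a : ℕ) (Q : Subgroup G) (y : G),
  BCtx G p a Q y → ∀ n ∈ normalizer (Q : Set G), n ∉ centralizer (Q : Set G) →
    ∀ s ∈ Q, s ≠ 1 → ∀ t ∈ Q, t ≠ 1 → ∃ k : ℕ, n ^ k * s * (n ^ k)⁻¹ = t

/-- CQY. `p`-elements of `C` commute with `y`: `C ≤ N`, `|C| = 2^a p^c`, `Q ≤ Z(C)`, so the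
Sylow `p` `P₁` of `C` is normal in `C`, hence characteristic, hence normal in `N`; `P₁⟨y⟩` is a
`p`-subgroup, inside an abelian Sylow `p` of `G`. -/
def CQY : Prop := ∀ (G : Type u) [Group G] [Finite G] (p a : ℕ) (Q : Subgroup G) (y : G),
  BCtx G p a Q y → ∀ x ∈ centralizer (Q : Set G), IsPElt p x → x * y = y * x

/-- BURN. Burnside normal-complement (Mathlib `MonoidHom.ker_transferSylow_isComplement'`,
applied in the group `↥X` to the Sylow 2-subgroup `Q.subgroupOf X`).  `X` is proper of even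
order, so `|X| = 2^a p^m` (hE); the kernel of the transfer is the normal `p`-subgroup. -/
def BURN : Prop := ∀ (G : Type u) [Group G] [Finite G] (p a : ℕ) (Q : Subgroup G) (y : G),
  BCtx G p a Q y → ∀ X : Subgroup G, X ≠ ⊤ → Q ≤ X →
    X ⊓ normalizer (Q : Set G) ≤ centralizer (Q : Set G) → HasNPC p a X

/-- CT (BURN + NCENT). `C_G(t) ≠ ⊤` for `t ∈ Q#` (`y` moves `t`), `Q ≤ C_G(t)` (`Q` abelian),
`C_G(t) ∩ N ≤ C` by NCENT; apply BURN. -/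
def CT : Prop := ∀ (G : Type u) [Group G] [Finite G] (p a : ℕ) (Q : Subgroup G) (y : G),
  BCtx G p a Q y → ∀ t ∈ Q, t ≠ 1 →
    centralizer ({t} : Set G) ≠ ⊤ ∧ HasNPC p a (centralizer ({t} : Set G))

/-- LEMM (FIT + BURN + TRANS).  `X` proper, `Q ≤ X`: `|X| = 2^a p^m`.  Let `W ∈ Syl_p(X)`
(abelian: inside a Sylow `p` of `G`).  If `W` centralizes every normal 2-subgroup of `X`: FIT
(in `↥X`) ⟹ `W ⊴ X` ⟹ `HasNPC`.  Otherwise there is a normal 2-subgroup `O ≠ 1` of `X`, `O ≤ Q`.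
If `X ∩ N ≤ C`: BURN.  Else some `n ∈ X ∩ N`, `n ∉ C`, is transitive on `Q#` (TRANS) and
normalizes `O`, so `O = Q ⊴ X`, i.e. `X ≤ N`. -/
def LEMM : Prop := ∀ (G : Type u) [Group G] [Finite G] (p a : ℕ) (Q : Subgroup G) (y : G),
  BCtx G p a Q y → ∀ X : Subgroup G, X ≠ ⊤ → Q ≤ X →
    X ≤ normalizer (Q : Set G) ∨ HasNPC p a X

/-- LEMY (LEMM).  If moreover `y ∈ X` then `X ≤ N`: otherwise `V ⊴ X` is the Sylow `p` of `X`,
`y ∈ V`, and `y s y⁻¹ s⁻¹ ∈ Q ∩ V = 1` for all `s ∈ Q`, but `y` moves points of `Q#`. -/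
def LEMY : Prop := ∀ (G : Type u) [Group G] [Finite G] (p a : ℕ) (Q : Subgroup G) (y : G),
  BCtx G p a Q y → ∀ X : Subgroup G, X ≠ ⊤ → Q ≤ X → y ∈ X → X ≤ normalizer (Q : Set G)

/-! ## Case A: `C_G(t) ≤ N` for all `t ∈ Q#` -/

/-- Case A hypothesis. -/
def CaseA {G : Type u} [Group G] (Q : Subgroup G) : Prop :=
  ∀ t ∈ Q, t ≠ 1 → centralizer ({t} : Set G) ≤ normalizer (Q : Set G)

/-- Sharp 3-transitivity on `G ⧸ N` (first two conclusions of `Cfsg.Agent.S1229.result`). -/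
def Sharp3 (G : Type u) [Group G] (N : Subgroup G) : Prop :=
  (∀ x₁ x₂ x₃ y₁ y₂ y₃ : G ⧸ N, x₁ ≠ x₂ → x₁ ≠ x₃ → x₂ ≠ x₃ → y₁ ≠ y₂ → y₁ ≠ y₃ → y₂ ≠ y₃ →
    ∃ g : G, g • x₁ = y₁ ∧ g • x₂ = y₂ ∧ g • x₃ = y₃) ∧
  (∀ g : G, ∀ x₁ x₂ x₃ : G ⧸ N, x₁ ≠ x₂ → x₁ ≠ x₃ → x₂ ≠ x₃ →
    g • x₁ = x₁ → g • x₂ = x₂ → g • x₃ = x₃ → g = 1)

/-- A1T. Case A with `C = Q`: apply `Cfsg.Agent.S1229.result` to `T := Q` as a Sylow 2-subgroup
(`¬IsCyclic`: exponent 2, order ≥ 4; not normal: NTOP; for an involution `t`, conjugate into `Q#`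
(INVCONJ), `C_G(t') ≤ N` (Case A) so `= C` (NCENT) `= Q` (no `p`-elements, `|C| ∣ |N| = 2^a p^b`)).
The third conclusion of S1229 (regularity of `T` off the base point) gives `|G/N| = 2^a + 1`. -/
def A1T : Prop := ∀ (G : Type u) [Group G] [Finite G] (p a : ℕ) (Q : Subgroup G) (y : G),
  BCtx G p a Q y → CaseA Q → (∀ x ∈ centralizer (Q : Set G), IsPElt p x → x = 1) →
    Sharp3 G (normalizer (Q : Set G)) ∧ Nat.card (G ⧸ normalizer (Q : Set G)) = 2 ^ a + 1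

/-- A1F3. `a ≥ 3` (so `p ≠ 3`, at least 9 points): pick distinct points `x₁,x₂,x₃`; `g` with
`x₁→x₂→x₃→x₁` has order 3 (sharpness), `τ` with `x₁↔x₂`, `x₃` fixed has order 2; both lie in the
setwise stabilizer of `{x₁,x₂,x₃}`, a proper subgroup of order divisible by 2 and 3: contradicts
hE. -/
def A1F3 : Prop := ∀ (G : Type u) [Group G] [Finite G] (p a : ℕ) (Q : Subgroup G) (y : G),
  BCtx G p a Q y → Sharp3 G (normalizer (Q : Set G)) →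
    Nat.card (G ⧸ normalizer (Q : Set G)) = 2 ^ a + 1 → 3 ≤ a → False

/-- A1F2 (may use SIMPLE). `a = 2`, `p = 3`, five points `x₁..x₅`.  `τ₁`: `x₁↔x₂`, `x₅` fixed
(so `τ₁ = (12)(34)`), `τ₂`: `x₁↔x₃`, `x₄` fixed (`= (13)(25)`); `k = τ₁τ₂` is a 5-cycle, so
`k^5 = 1 ≠ k`, and `τ₁ k τ₁⁻¹ = k⁻¹`.  `N_G(⟨k⟩)` has order divisible by 10; proper (else `⟨k⟩`
normal of order 5 in the simple group `G` of even order): contradicts hE. -/
def A1F2 : Prop := ∀ (G : Type u) [Group G] [Finite G] (p : ℕ) (Q : Subgroup G) (y : G),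
  BCtx G p 2 Q y → Sharp3 G (normalizer (Q : Set G)) →
    Nat.card (G ⧸ normalizer (Q : Set G)) = 2 ^ 2 + 1 → False

/-- A2N (CQY + LEMY). For a `p`-element `x ≠ 1` of `C`: `N_G(⟨x⟩) ⊇ C_G(x) ⊇ Q, y` (CQY), and
`N_G(⟨x⟩) ≠ ⊤` (hOp), so `N_G(⟨x⟩) ≤ N` by LEMY. -/
def A2N : Prop := ∀ (G : Type u) [Group G] [Finite G] (p a : ℕ) (Q : Subgroup G) (y : G),
  BCtx G p a Q y → ∀ x ∈ centralizer (Q : Set G), IsPElt p x → x ≠ 1 →
    normalizer ((zpowers x : Subgroup G) : Set G) ≤ normalizer (Q : Set G)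

/-- A2a (A2N, CONJ, INVN, INVCONJ, NCENT). Case A with a `p`-element `x₀ ≠ 1` in `C`: no
involution `w` normalizes a Sylow `p`-subgroup `P`.  Conjugate so that `x₁ := g x₀ g⁻¹ ∈ P`;
`P` abelian so `P ≤ C_G(x₁) ≤ N^g` (A2N for the conjugate context).
If `C_P(w) = 1`: `w` inverts `P`, so `w ∈ N_G(⟨x₁⟩) ≤ N^g`, `w ∈ Q^g` (INVN), `w` commutes with
`x₁ ∈ C^g`: `x₁ = x₁⁻¹`, contradiction.
Else `z ∈ P`, `z ≠ 1`, `wz = zw`; `w = h t h⁻¹`, `t ∈ Q#`; `C_G(w) = C^h` (Case A + NCENT), so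
`z ∈ C^h`, `P ≤ C_G(z) ≤ N^h` (A2N), `w ∈ Q^h`, `[w,P] ≤ P ∩ Q^h = 1`, `P ≤ C_G(w) = C^h`.  So the
Sylow `p`-subgroup `P^{h⁻¹}` of `N` lies in `C ⊴ N`, hence so does `y`: contradiction. -/
def A2a : Prop := ∀ (G : Type u) [Group G] [Finite G] (p a : ℕ) (Q : Subgroup G) (y : G),
  BCtx G p a Q y → CaseA Q → (∃ x ∈ centralizer (Q : Set G), IsPElt p x ∧ x ≠ 1) →
    ∀ (P : Sylow p G) (w : G), orderOf w = 2 → w ∉ normalizer ((P : Subgroup G) : Set G)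

/-- A2b (A2N, CONJ, INVN, INVCONJ, NCENT, NTOP, EXP). Case A, and no involution normalizes a
Sylow `p`: contradiction.  Some involution `u ∉ N` exists (else all involutions lie in `Q`, so
`Q ⊴ G`).  Fix `t ∈ Q#`, `k := t u`.  `|k|` is odd (else the central involution `i` of `⟨t,u⟩`
lies in `C_G(t) = C`, so `i ∈ Q` and `u ∈ C_G(i) = C ≤ N`).  `⟨t,u⟩` is proper (order `2|k|`,
`4 ∤`), even ⟹ `k` is a `p`-element `≠ 1`, inverted by `u`.  No involution `w` centralizes `k`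
(`w = h t' h⁻¹`, `k ∈ C_G(w) = C^h`, `u ∈ N_G(⟨k⟩) ≤ N^h` (A2N), `u ∈ Q^h` commutes with `k`).
`N_G(⟨k⟩)` is proper (hOp), even, so `C_G(k)` is a `p`-group containing (abelian) a Sylow `p`
`P' ∋ k`: `C_G(k) = P'` is normalized by `u`. -/
def A2b : Prop := ∀ (G : Type u) [Group G] [Finite G] (p a : ℕ) (Q : Subgroup G) (y : G),
  BCtx G p a Q y → CaseA Q →
    (∀ (P : Sylow p G) (w : G), orderOf w = 2 → w ∉ normalizer ((P : Subgroup G) : Set G)) →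
    False

/-! ## Case B: `C_G(t₀) ≰ N` for some `t₀ ∈ Q#` -/

/-- The data produced by BV. -/
def VData {G : Type u} [Group G] (p a : ℕ) (Q : Subgroup G) (t₀ : G) (V : Sylow p G) : Prop :=
  Q ≤ normalizer ((V : Subgroup G) : Set G) ∧
  Nat.card (normalizer ((V : Subgroup G) : Set G)) = 2 ^ a * Nat.card V ∧
  (∀ x : G, x * t₀ = t₀ * x → IsPElt p x → x ∈ V) ∧
  ∃ v ∈ V, v ≠ 1 ∧ v * t₀ = t₀ * v

/-- The uniqueness statement produced by BSTAR. -/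
def Star (G : Type u) [Group G] (p : ℕ) : Prop :=
  ∀ (W₁ W₂ : Sylow p G) (e s : G), e ∈ W₁ → e ∈ W₂ → e ≠ 1 → orderOf s = 2 → e * s = s * e →
    W₁ = W₂

/-- BV (CT + LEMM). `C_G(t₀) = K ⋊ Q` (CT), `K ≠ 1` (else `C_G(t₀) = Q ≤ N`).  `X := N_G(K)` is
proper (hOp), contains `C_G(t₀) ⊇ Q`, `X ≰ N`; LEMM ⟹ normal Sylow `p` `V₁ ⊇ K` of `X`.
`X₁ := N_G(V₁) ⊇ X` is proper, `≰ N`, contains a Sylow `p` of `G` (abelian, `⊇ V₁`); LEMM ⟹ its
normal Sylow `p` `V` is a Sylow `p` of `G`, `Q ≤ X₁ ≤ N_G(V)`.  `N_G(V)` proper, `≰ N`; LEMM ⟹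
`|N_G(V)| = 2^a |V|`.  `p`-elements of `C_G(t₀)` lie in `K ≤ V`. -/
def BV : Prop := ∀ (G : Type u) [Group G] [Finite G] (p a : ℕ) (Q : Subgroup G) (y : G),
  BCtx G p a Q y → ∀ t₀ ∈ Q, t₀ ≠ 1 →
    ¬ (centralizer ({t₀} : Set G) ≤ normalizer (Q : Set G)) → ∃ V : Sylow p G, VData p a Q t₀ V

/-- BP1 (LEMY + CQY). With `V` as in BV, `C` has no `p`-element `x ≠ 1`: `x` commutes with `t₀`
so `x ∈ V`, `V ≤ C_G(x)` (abelian), `C_G(x) ⊇ Q, y` is proper (hOp) so `≤ N` (LEMY); then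
`[Q,V] ≤ Q ∩ V = 1`, the Sylow `p`-subgroup `V` of `N` lies in `C ⊴ N`, so `y ∈ C`. -/
def BP1 : Prop := ∀ (G : Type u) [Group G] [Finite G] (p a : ℕ) (Q : Subgroup G) (y : G),
  BCtx G p a Q y → ∀ t₀ ∈ Q, t₀ ≠ 1 → ∀ V : Sylow p G, VData p a Q t₀ V →
    ∀ x ∈ centralizer (Q : Set G), IsPElt p x → x = 1

/-- BSTAR (FIT, LEMM, NCENT, INVN, CONJ, SIMPLE/NTOP). `M := C_G(e) ⊇ W₁, W₂, s`; proper (hOp),
even, so a `{2,p}`-group.  If `W₁` and `W₂` centralize every normal 2-subgroup of `M`: FIT ⟹ both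
normal Sylow in `M`, equal.  Else `O ⊴ M` a 2-group not centralized by (say) `W₁`; `O ≤ Q^h`;
`X := N_G(O) ⊇ M, Q^h` proper; LEMM (conjugate context) ⟹ `X ≤ N^h` or `HasNPC X`; in the latter
case `[W₁,O] ≤ V_X ∩ O = 1`, contradiction; so `e, s ∈ N^h`, `s ∈ Q^h` (INVN), `e ∈ C^h` (NCENT),
`e = 1` (no `p`-elements in `C^h`). -/
def BSTAR : Prop := ∀ (G : Type u) [Group G] [Finite G] (p a : ℕ) (Q : Subgroup G) (y : G),
  BCtx G p a Q y → (∀ x ∈ centralizer (Q : Set G), IsPElt p x → x = 1) → Star G p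

/-- BSIG (EXP). For `s ∈ Q#`, `s ≠ t₀`: `C_V(s) = 1`.  (If `e ∈ V#` commutes with `s = y^j t₀ y^-j`
then `e ∈ V ∩ y^j V y^-j`, Star ⟹ `y^j ∈ N_G(V)` ⟹ `y^j ∈ V` ⟹ `[Q,y^j] ≤ Q ∩ V = 1` ⟹ `s = t₀`.)
So `s` inverts the abelian group `V` (`v · s v s⁻¹` is fixed by `s`).  If `a ≥ 3` there are
`s₁, s₂, s₁s₂ ∈ Q \ {1,t₀}`, all inverting `V`: `V = 1`, contradiction.  So `a = 2` and
`t₀ = s₁ s₂` centralizes `V`. -/
def BSIG : Prop := ∀ (G : Type u) [Group G] [Finite G] (p a : ℕ) (Q : Subgroup G) (y : G),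
  BCtx G p a Q y → ∀ t₀ ∈ Q, t₀ ≠ 1 → ∀ V : Sylow p G, VData p a Q t₀ V → Star G p →
    a = 2 ∧ (∀ v ∈ V, t₀ * v = v * t₀) ∧
    (∀ s ∈ Q, s ≠ 1 → s ≠ t₀ → ∀ v ∈ V, s * v * s⁻¹ = v⁻¹)

/-- BFIN. `a = 2`, `p = 3`: apply `Cfsg.Agent.S4018.result` with `P := V`:
`|N_G(V)| = 4|V|`; `C_G(V) = V × ⟨t₀⟩` of order `2|V|`; `C_G(V)` is TI (`x = v t₀^ε ∈ C_G(V)`,
`g x g⁻¹ ∈ C_G(V)`: if `v ≠ 1`, `g v² g⁻¹ ∈ V ∩ gVg⁻¹` commutes with `t₀`, Star ⟹ `g ∈ N_G(V)`;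
if `x = t₀` then `g t₀ g⁻¹ = t₀` and `gVg⁻¹` consists of `p`-elements of `C_G(t₀)`, so `⊆ V`);
proper even subgroups have order dividing `4|V|` (hE). -/
def BFIN : Prop := ∀ (G : Type u) [Group G] [Finite G] (p : ℕ) (Q : Subgroup G) (y : G),
  BCtx G p 2 Q y → ∀ t₀ ∈ Q, t₀ ≠ 1 → ∀ V : Sylow p G, VData p 2 Q t₀ V → Star G p →
    (∀ v ∈ V, t₀ * v = v * t₀) →
    (∀ s ∈ Q, s ≠ 1 → s ≠ t₀ → ∀ v ∈ V, s * v * s⁻¹ = v⁻¹) → ¬ IsSimpleGroup G

end Cfsg.Agent.Lib.Helper68.MixStmt
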