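import Cfsg.Agent.Lib.Helper68.MixStmt

/-!
# S4017 piece CONJ: the boundary context is invariant under conjugation
-/

set_option autoImplicit false

namespace Cfsg.Agent.Lib.Helper68.MixCONJ

open Cfsg.Agent.Lib.Helper68.MixStmt

universe u

theorem mem_conj_iff {G : Type u} [Group G] (Q : Subgroup G) (h x : G) :
    x ∈ Q.map (MulAut.conj h).toMonoidHom ↔ h⁻¹ * x * h ∈ Q := by
  rw [Subgroup.mem_map]
  constructor
  · rintro ⟨s, hs, rfl⟩
    have : h⁻¹ * ((MulAut.conj h).toMonoidHom s) * h = s := by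
      simp [MulAut.conj_apply, mul_assoc]
    rw [this]; exact hs
  · intro hx
    refine ⟨h⁻¹ * x * h, hx, ?_⟩
    simp [MulAut.conj_apply, mul_assoc]

theorem main : CONJ.{u} := by
  intro G _ _ p a Q y hB h
  have hcard : Nat.card (Q.map (MulAut.conj h).toMonoidHom) = Nat.card Q :=
    Subgroup.card_map_of_injective (MulAut.conj h).injective
  refine
    { hp := hB.hp
      hpa := hB.hpa
      ha := hB.ha
      hQ := by rw [hcard]; exact hB.hQ
      hfac := hB.hfac
      hyQ := ?_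
      htrans := ?_
      hy := ?_
      hE := hB.hE
      hpG := hB.hpG
      hab := hB.hab
      hOp := hB.hOp
      hnot := hB.hnot }
  · rw [Subgroup.mem_normalizer_iff]
    intro x
    rw [mem_conj_iff, mem_conj_iff]
    have h1 := (Subgroup.mem_normalizer_iff.mp hB.hyQ) (h⁻¹ * x * h)
    have h2 : h⁻¹ * (h * y * h⁻¹ * x * (h * y * h⁻¹)⁻¹) * h = y * (h⁻¹ * x * h) * y⁻¹ := by
      group
    rw [h2]
    exact h1
  · intro s hs hs1 t ht ht1
    rw [mem_conj_iff] at hs ht
    have hs1' : h⁻¹ * s * h ≠ 1 := by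
      intro he
      apply hs1
      have : s = h * (h⁻¹ * s * h) * h⁻¹ := by group
      rw [this, he]; group
    have ht1' : h⁻¹ * t * h ≠ 1 := by
      intro he
      apply ht1
      have : t = h * (h⁻¹ * t * h) * h⁻¹ := by group
      rw [this, he]; group
    obtain ⟨k, hk⟩ := hB.htrans _ hs hs1' _ ht ht1'
    refine ⟨k, ?_⟩
    rw [conj_pow]
    have : h * y ^ k * h⁻¹ * s * (h * y ^ k * h⁻¹)⁻¹
        = h * (y ^ k * (h⁻¹ * s * h) * (y ^ k)⁻¹) * h⁻¹ := by group
    rw [this, hk]; group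
  · obtain ⟨k, hk⟩ := hB.hy
    refine ⟨k, ?_⟩
    rw [← hk]
    have := (MulAut.conj h).orderOf_eq y
    simpa [MulAut.conj_apply] using this

end Cfsg.Agent.Lib.Helper68.MixCONJ
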