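import Mathlib
import Cfsg.Prelude.Def_OddOrderLocal
import Cfsg.Agent.Lib.Helper68.Wielandt
import Cfsg.Agent.S4108

/-!
TI subgroups `H` that are Hall subgroups of their normalizer: normal complements in the
normalizer versus normal complements in the whole group.
-/

set_option autoImplicit false
open Cfsg

namespace Cfsg.Agent.Lib.Helper68.TIHall

universe u

section

variable {G : Type u} [Group G] (H : Subgroup G)

theorem pow_index_mem_of_mem_normalizer (z : G) (hz : z ∈ Subgroup.normalizer (H : Set G)) :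
    z ^ (H.subgroupOf (Subgroup.normalizer (H : Set G))).index ∈ H := by
  have := Subgroup.pow_index_mem (H.subgroupOf (Subgroup.normalizer (H : Set G)))
    (⟨z, hz⟩ : Subgroup.normalizer (H : Set G))
  rw [Subgroup.mem_subgroupOf] at this
  simpa using this

/-- Elements of the normalizer whose order is coprime to the index of `H` lie in `H`. -/
theorem mem_of_coprime_order [Finite G] (z : G) (hz : z ∈ Subgroup.normalizer (H : Set G))
    (hc : (orderOf z).Coprime (H.subgroupOf (Subgroup.normalizer (H : Set G))).index) :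
    z ∈ H := by
  have h1 := pow_index_mem_of_mem_normalizer H z hz
  have h2 : z ∈ Subgroup.zpowers (z ^ (H.subgroupOf (Subgroup.normalizer (H : Set G))).index) :=
    mem_zpowers_pow_iff.2 hc.symm
  exact (Subgroup.zpowers_le.2 h1) h2

theorem mem_normalizer_of_TI (hTI : Cfsg.IsTISubset (H : Set G)) {g x : G} (hx : x ∈ H)
    (hx1 : x ≠ 1) (hg : g * x * g⁻¹ ∈ H) : g ∈ Subgroup.normalizer (H : Set G) := by
  by_contra h
  exact hx1 (hTI g h x hx hg)

/-- A TI subgroup that is a Hall subgroup of its normalizer and has a normal complement there has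
a normal complement in the whole group. -/
theorem exists_normal_complement [Finite G] (hTI : Cfsg.IsTISubset (H : Set G))
    (hHall : (Nat.card H).Coprime (H.subgroupOf (Subgroup.normalizer (H : Set G))).index)
    (K : Subgroup (Subgroup.normalizer (H : Set G))) [hKn : K.Normal]
    (hK : K.IsComplement' (H.subgroupOf (Subgroup.normalizer (H : Set G)))) :
    ∃ N : Subgroup G, N.Normal ∧ N.IsComplement' H := by
  have hHL : H ≤ Subgroup.normalizer (H : Set G) := Subgroup.le_normalizer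
  have hcardHn : Nat.card (H.subgroupOf (Subgroup.normalizer (H : Set G))) = Nat.card H :=
    Nat.card_congr (Subgroup.subgroupOfEquivOfLe hHL).toEquiv
  have hcardK : Nat.card K = (H.subgroupOf (Subgroup.normalizer (H : Set G))).index :=
    hK.index_eq_card.symm
  have hidxK : K.index = Nat.card H := by
    rw [← hcardHn]; exact hK.symm.index_eq_card
  have hpowK : ∀ z : Subgroup.normalizer (H : Set G),
      z ∈ K ↔ z ^ (H.subgroupOf (Subgroup.normalizer (H : Set G))).index = 1 := by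
    intro z
    constructor
    · intro hz
      have h1 : (⟨z, hz⟩ : K) ^ Nat.card K = 1 := pow_card_eq_one'
      rw [hcardK] at h1
      have h2 := congrArg Subtype.val h1
      simpa using h2
    · intro hz
      rw [← QuotientGroup.eq_one_iff]
      have h1 : (z : Subgroup.normalizer (H : Set G) ⧸ K) ^
          (H.subgroupOf (Subgroup.normalizer (H : Set G))).index = 1 := by
        rw [← QuotientGroup.mk_pow, hz, QuotientGroup.mk_one]
      have h2 : (z : Subgroup.normalizer (H : Set G) ⧸ K) ^ Nat.card H = 1 := by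
        rw [← hidxK]; exact pow_card_eq_one'
      have h3 := pow_gcd_eq_one.2 ⟨h2, h1⟩
      rwa [Nat.Coprime.gcd_eq_one hHall, pow_one] at h3
  have hP1 : ∀ x : Subgroup.normalizer (H : Set G), x ∉ K → ∀ g : G,
      g⁻¹ * (x : G) * g ∈ Subgroup.normalizer (H : Set G) →
      g ∈ Subgroup.normalizer (H : Set G) := by
    intro x hx g hg
    by_contra hgL
    have hgL' : g⁻¹ ∉ Subgroup.normalizer (H : Set G) :=
      fun h => hgL (by simpa using (Subgroup.normalizer (H : Set G)).inv_mem h)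
    have h1 := pow_index_mem_of_mem_normalizer H x x.2
    have h2 := pow_index_mem_of_mem_normalizer H _ hg
    have h3 : g⁻¹ * (x : G) ^ (H.subgroupOf (Subgroup.normalizer (H : Set G))).index * g⁻¹⁻¹ ∈ H := by
      rw [← conj_pow, inv_inv]; exact h2
    have h4 := hTI g⁻¹ hgL' _ h1 h3
    apply hx
    rw [hpowK]
    exact Subtype.ext (by simpa using h4)
  obtain ⟨M, hMn, hML, hMge⟩ := Wielandt.exists_kernel (Subgroup.normalizer (H : Set G)) K hP1
  have hcard := Wielandt.card_ge (Subgroup.normalizer (H : Set G)) K M hMge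
  have hdisj : Disjoint M H := by
    rw [Subgroup.disjoint_def]
    intro g hgM hgH
    have hgK := hML g hgM (hHL hgH)
    have hgHn : (⟨g, hHL hgH⟩ : Subgroup.normalizer (H : Set G)) ∈
        H.subgroupOf (Subgroup.normalizer (H : Set G)) := Subgroup.mem_subgroupOf.2 hgH
    have := Subgroup.disjoint_def.1 hK.disjoint hgK hgHn
    exact congrArg Subtype.val this
  refine ⟨M, hMn, Subgroup.isComplement'_of_card_mul_and_disjoint ?_ hdisj⟩
  apply le_antisymm
  · have hinj := Subgroup.mul_injective_of_disjoint hdisj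
    have := Nat.card_le_card_of_injective _ hinj
    rwa [Nat.card_prod] at this
  · have h1 : Nat.card K * Nat.card (H.subgroupOf (Subgroup.normalizer (H : Set G))) =
        Nat.card (Subgroup.normalizer (H : Set G)) := hK.card_mul_card
    have h2 : (Subgroup.normalizer (H : Set G)).index * Nat.card (Subgroup.normalizer (H : Set G)) =
        Nat.card G := Subgroup.index_mul_card _
    rw [← h2, ← h1, hcardHn, ← mul_assoc]
    exact Nat.mul_le_mul_right _ hcard

/-- Conversely a normal complement in the group gives one in the normalizer. -/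
theorem normalizer_complement_of_complement (N : Subgroup G) [N.Normal] (hN : N.IsComplement' H) :
    ∃ K : Subgroup (Subgroup.normalizer (H : Set G)), K.Normal ∧
      K.IsComplement' (H.subgroupOf (Subgroup.normalizer (H : Set G))) := by
  refine ⟨N.subgroupOf _, Subgroup.normal_subgroupOf, ?_⟩
  apply Subgroup.isComplement'_of_disjoint_and_mul_eq_univ
  · rw [Subgroup.disjoint_def]
    intro x hxN hxH
    have := Subgroup.disjoint_def.1 hN.disjoint (Subgroup.mem_subgroupOf.1 hxN)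
      (Subgroup.mem_subgroupOf.1 hxH)
    exact Subtype.ext this
  · rw [Set.eq_univ_iff_forall]
    intro x
    obtain ⟨⟨n, h⟩, hnh⟩ := hN.2 (x : G)
    have hnh' : (n : G) * (h : G) = (x : G) := hnh
    have hhL : (h : G) ∈ Subgroup.normalizer (H : Set G) := Subgroup.le_normalizer h.2
    have hnL : (n : G) ∈ Subgroup.normalizer (H : Set G) := by
      have : (n : G) = (x : G) * (h : G)⁻¹ := by rw [← hnh']; group
      rw [this]
      exact Subgroup.mul_mem _ x.2 (Subgroup.inv_mem _ hhL)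
    exact Set.mem_mul.2 ⟨⟨n, hnL⟩, Subgroup.mem_subgroupOf.2 n.2, ⟨h, hhL⟩,
      Subgroup.mem_subgroupOf.2 h.2, Subtype.ext hnh'⟩

end

section Part2

open Cfsg.Agent.Lib.Helper71

theorem mem_normalizer_of_conj_mem {G : Type*} [Group G] [Finite G] (H : Subgroup G) (g : G)
    (h : ∀ x ∈ H, g * x * g⁻¹ ∈ H) : g ∈ Subgroup.normalizer (H : Set G) := by
  rw [Subgroup.mem_normalizer_iff]
  intro x
  refine ⟨h x, fun hx => ?_⟩
  let f : H → H := fun y => ⟨g * y * g⁻¹, h y y.2⟩
  have hinj : Function.Injective f := by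
    intro a b hab
    have h1 : g * (a : G) * g⁻¹ = g * (b : G) * g⁻¹ := congrArg Subtype.val hab
    exact Subtype.ext (by simpa using h1)
  obtain ⟨y, hy⟩ := (Finite.injective_iff_surjective.1 hinj) ⟨_, hx⟩
  have h1 : g * (y : G) * g⁻¹ = g * x * g⁻¹ := congrArg Subtype.val hy
  have hxy : (y : G) = x := by simpa using h1
  rw [← hxy]; exact y.2

/-- A finite group acting on a set so that every non-identity element has exactly one fixed
point has a global fixed point. -/
theorem exists_fixed_point {X : Type*} [Group X] [Finite X] {Ω : Type*} [MulAction X Ω]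
    (hU : ∀ x : X, x ≠ 1 → ∃! ω : Ω, x • ω = ω) (hX : ∃ x : X, x ≠ 1) :
    ∃ ω : Ω, ∀ x : X, x • ω = ω := by
  classical
  obtain ⟨x₁, hx₁⟩ := hX
  obtain ⟨ω₁, hω₁, -⟩ := hU x₁ hx₁
  by_contra hno
  push Not at hno
  have hconj : ∀ (ω : Ω) (g y : X),
      g⁻¹ * y * g ∈ MulAction.stabilizer X ω ↔ y • (g • ω) = g • ω := by
    intro ω g y
    rw [MulAction.mem_stabilizer_iff]
    constructor
    · intro h
      calc y • (g • ω) = g • ((g⁻¹ * y * g) • ω) := by
            simp only [mul_smul, smul_inv_smul]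
        _ = g • ω := by rw [h]
    · intro h
      rw [mul_smul, mul_smul, h, inv_smul_smul]
  have key : ∀ ω : Ω, (∃ x : X, x ≠ 1 ∧ x • ω = ω) →
      Cfsg.IsFrobeniusComplement (MulAction.stabilizer X ω) := by
    rintro ω ⟨x, hx1, hxω⟩
    refine ⟨?_, ?_, ?_⟩
    · intro h
      have : x ∈ MulAction.stabilizer X ω := hxω
      rw [h, Subgroup.mem_bot] at this
      exact hx1 this
    · intro h
      obtain ⟨y, hy⟩ := hno ω
      have : y ∈ MulAction.stabilizer X ω := by rw [h]; exact Subgroup.mem_top y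
      exact hy this
    · intro g hg
      rw [eq_bot_iff]
      rintro y ⟨hy1, hy2⟩
      rw [Subgroup.mem_bot]
      by_contra hy
      have h1 : y • ω = ω := hy1
      have h2 : y • (g • ω) = g • ω := (hconj ω g y).1 ((Frobenius.mem_conj_iff g y _).1 hy2)
      obtain ⟨ω', -, huniq⟩ := hU y hy
      have : g • ω = ω := (huniq _ h2).trans (huniq _ h1).symm
      exact hg this
  have hidx : ∀ ω : Ω, Cfsg.IsFrobeniusComplement (MulAction.stabilizer X ω) →
      2 * (MulAction.stabilizer X ω).index ≤ Nat.card X ∧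
      2 ≤ (MulAction.stabilizer X ω).index := by
    intro ω hF
    have h1 : (MulAction.stabilizer X ω).index * Nat.card (MulAction.stabilizer X ω) =
        Nat.card X := Subgroup.index_mul_card _
    have h2 : 2 ≤ Nat.card (MulAction.stabilizer X ω) :=
      (Subgroup.one_lt_card_iff_ne_bot _).2 hF.1
    have h3 : 2 ≤ (MulAction.stabilizer X ω).index := by
      have h4 : (MulAction.stabilizer X ω).index ≠ 1 :=
        fun h => hF.2.1 (Subgroup.index_eq_one.1 h)
      have h5 : (MulAction.stabilizer X ω).index ≠ 0 := Subgroup.index_ne_zero_of_finite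
      omega
    refine ⟨?_, h3⟩
    calc 2 * (MulAction.stabilizer X ω).index
        ≤ Nat.card (MulAction.stabilizer X ω) * (MulAction.stabilizer X ω).index :=
          Nat.mul_le_mul_right _ h2
      _ = Nat.card X := by rw [mul_comm]; exact h1
  have hF1 := key ω₁ ⟨x₁, hx₁, hω₁⟩
  have hk1 := Frobenius.card_kernel (MulAction.stabilizer X ω₁) hF1
  obtain ⟨y, hyk, hy1⟩ : ∃ y ∈ Cfsg.frobeniusKernel (MulAction.stabilizer X ω₁), y ≠ 1 := by
    by_contra hcon
    push Not at hcon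
    have hs : Subsingleton (Cfsg.frobeniusKernel (MulAction.stabilizer X ω₁)) :=
      ⟨fun a b => Subtype.ext ((hcon a a.2).trans (hcon b b.2).symm)⟩
    have hle : Nat.card (Cfsg.frobeniusKernel (MulAction.stabilizer X ω₁)) ≤ 1 :=
      Finite.card_le_one_iff_subsingleton.2 hs
    have := (hidx ω₁ hF1).2
    omega
  obtain ⟨ω₂, hω₂, -⟩ := hU y hy1
  have hF2 := key ω₂ ⟨y, hy1, hω₂⟩
  have hk2 := Frobenius.card_kernel (MulAction.stabilizer X ω₂) hF2
  have horb : ∀ g : X, g • ω₁ ≠ ω₂ := by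
    intro g hg
    rcases (Frobenius.mem_kernel_iff _ y).1 hyk with h | h
    · exact hy1 h
    · apply h g
      rw [hconj, hg]; exact hω₂
  have hsub : (Cfsg.frobeniusKernel (MulAction.stabilizer X ω₁))ᶜ ⊆
      Cfsg.frobeniusKernel (MulAction.stabilizer X ω₂) \ {1} := by
    intro z hz
    rw [Set.mem_compl_iff, Frobenius.mem_kernel_iff, not_or] at hz
    obtain ⟨hz1, hz2⟩ := hz
    push Not at hz2
    obtain ⟨g, hg⟩ := hz2
    refine ⟨?_, hz1⟩
    rw [Frobenius.mem_kernel_iff]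
    right
    intro g' hg'
    have h1 := (hconj ω₁ g z).1 hg
    have h2 := (hconj ω₂ g' z).1 hg'
    obtain ⟨ω', -, huniq⟩ := hU z hz1
    have h3 : g • ω₁ = g' • ω₂ := (huniq _ h1).trans (huniq _ h2).symm
    apply horb (g'⁻¹ * g)
    rw [mul_smul, h3, inv_smul_smul]
  have hc1 : (Cfsg.frobeniusKernel (MulAction.stabilizer X ω₁))ᶜ.ncard =
      Nat.card X - (MulAction.stabilizer X ω₁).index := by
    rw [Set.ncard_compl, ← Nat.card_coe_set_eq, hk1]
  have hc2 : (Cfsg.frobeniusKernel (MulAction.stabilizer X ω₂) \ {1}).ncard =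
      (MulAction.stabilizer X ω₂).index - 1 := by
    rw [Set.ncard_sdiff_singleton_of_mem (Frobenius.one_mem_kernel _), ← Nat.card_coe_set_eq, hk2]
  have hle := Set.ncard_le_ncard hsub (Set.toFinite _)
  rw [hc1, hc2] at hle
  have := hidx ω₁ hF1
  have := hidx ω₂ hF2
  omega

variable {G : Type u} [Group G] (H : Subgroup G)

/-- `H` is a Hall subgroup of `G`. -/
theorem coprime_index [Finite G] (hTI : Cfsg.IsTISubset (H : Set G))
    (hHall : (Nat.card H).Coprime (H.subgroupOf (Subgroup.normalizer (H : Set G))).index) :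
    (Nat.card H).Coprime H.index := by
  apply Nat.coprime_of_dvd
  intro p hp hpH hpI
  have : Fact p.Prime := ⟨hp⟩
  obtain ⟨P⟩ : Nonempty (Sylow p H) := inferInstance
  have hPcard : Nat.card P = p ^ (Nat.card H).factorization p := P.card_eq_multiplicity
  have hP'card : Nat.card ((P : Subgroup H).map H.subtype) =
      p ^ (Nat.card H).factorization p := by
    rw [Subgroup.card_map_of_injective H.subtype_injective, hPcard]
  have hk1 : 0 < (Nat.card H).factorization p :=
    hp.factorization_pos_of_dvd Nat.card_pos.ne' hpH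
  have hdvdG : p ^ ((Nat.card H).factorization p + 1) ∣ Nat.card G := by
    rw [← Subgroup.index_mul_card H, pow_succ, mul_comm]
    exact Nat.mul_dvd_mul hpI (Nat.ordProj_dvd _ _)
  have h1 := Sylow.prime_pow_dvd_card_normalizer hdvdG hP'card
  have hle : Subgroup.normalizer (((P : Subgroup H).map H.subtype : Subgroup G) : Set G) ≤
      Subgroup.normalizer (H : Set G) := by
    intro g hg
    have hne : ((P : Subgroup H).map H.subtype) ≠ ⊥ := by
      intro h
      rw [h, Subgroup.card_bot] at hP'card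
      have : 1 < p ^ (Nat.card H).factorization p := Nat.one_lt_pow (by omega) hp.one_lt
      omega
    obtain ⟨x, hx, hx1⟩ : ∃ x : G, x ∈ (P : Subgroup H).map H.subtype ∧ x ≠ 1 := by
      obtain ⟨x, hx1⟩ := Subgroup.ne_bot_iff_exists_ne_one.1 hne
      exact ⟨(x : G), x.2, fun h => hx1 (Subtype.ext h)⟩
    have hxH : x ∈ H := Subgroup.map_subtype_le _ hx
    have hgx : g * x * g⁻¹ ∈ (P : Subgroup H).map H.subtype :=
      (Subgroup.mem_normalizer_iff.1 hg x).1 hx
    exact mem_normalizer_of_TI H hTI hxH hx1 (Subgroup.map_subtype_le _ hgx)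
  have h2 : p ^ ((Nat.card H).factorization p + 1) ∣
      Nat.card (Subgroup.normalizer (H : Set G)) := h1.trans (Subgroup.card_dvd_of_le hle)
  have h3 : (H.subgroupOf (Subgroup.normalizer (H : Set G))).index * Nat.card H =
      Nat.card (Subgroup.normalizer (H : Set G)) := by
    have := Subgroup.index_mul_card (H.subgroupOf (Subgroup.normalizer (H : Set G)))
    rwa [Nat.card_congr (Subgroup.subgroupOfEquivOfLe Subgroup.le_normalizer).toEquiv] at this
  rw [← h3] at h2
  have hcop : (p ^ ((Nat.card H).factorization p + 1)).Coprime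
      (H.subgroupOf (Subgroup.normalizer (H : Set G))).index := by
    apply Nat.Coprime.pow_left
    rw [Nat.Prime.coprime_iff_not_dvd hp]
    intro hd
    have := Nat.dvd_gcd hpH hd
    rw [hHall] at this
    exact hp.one_lt.ne' (Nat.dvd_one.1 this)
  have h4 := hcop.dvd_of_dvd_mul_left h2
  exact Nat.pow_succ_factorization_not_dvd Nat.card_pos.ne' hp h4

theorem orderOf_conj' (g x : G) : orderOf (g⁻¹ * x * g) = orderOf x := by
  have := (MulAut.conj g⁻¹ : G ≃* G).orderOf_eq x
  simpa [MulAut.conj_apply] using this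

/-- Every nonidentity element whose order divides `|H|` is conjugate into `H`. -/
theorem exists_conj_mem [Finite G] (hTI : Cfsg.IsTISubset (H : Set G))
    (hHall : (Nat.card H).Coprime (H.subgroupOf (Subgroup.normalizer (H : Set G))).index)
    (x : G) (hx1 : x ≠ 1) (hx : orderOf x ∣ Nat.card H) : ∃ g : G, g⁻¹ * x * g ∈ H := by
  have hG := coprime_index H hTI hHall
  have ho : orderOf x ≠ 1 := fun h => hx1 (orderOf_eq_one_iff.1 h)
  obtain ⟨p, hp, hpx⟩ := Nat.exists_prime_and_dvd ho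
  have : Fact p.Prime := ⟨hp⟩
  have hpH : p ∣ Nat.card H := hpx.trans hx
  have hyo : orderOf (x ^ (orderOf x / p)) = p :=
    orderOf_pow_orderOf_div (orderOf_pos x).ne' hpx
  obtain ⟨P⟩ : Nonempty (Sylow p H) := inferInstance
  have hP'card : Nat.card ((P : Subgroup H).map H.subtype) =
      p ^ (Nat.card G).factorization p := by
    rw [Subgroup.card_map_of_injective H.subtype_injective, P.card_eq_multiplicity]
    congr 1
    rw [← Subgroup.index_mul_card H,
      Nat.factorization_mul Subgroup.index_ne_zero_of_finite Nat.card_pos.ne']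
    have : H.index.factorization p = 0 := by
      apply Nat.factorization_eq_zero_of_not_dvd
      intro hd
      have := Nat.dvd_gcd hpH hd
      rw [hG] at this
      exact hp.one_lt.ne' (Nat.dvd_one.1 this)
    simp [this]
  have hyp : IsPGroup p (Subgroup.zpowers (x ^ (orderOf x / p))) :=
    IsPGroup.of_card (n := 1) (by rw [Nat.card_zpowers, hyo, pow_one])
  obtain ⟨S, hS⟩ := hyp.exists_le_sylow
  obtain ⟨g, hg⟩ := MulAction.exists_smul_eq G (Sylow.ofCard _ hP'card) S
  have h1 : x ^ (orderOf x / p) ∈ (S : Subgroup G) := hS (Subgroup.mem_zpowers _)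
  rw [← hg, Sylow.coe_subgroup_smul, Subgroup.mem_pointwise_smul_iff_inv_smul_mem] at h1
  have h2 : g⁻¹ * x ^ (orderOf x / p) * g ∈ (P : Subgroup H).map H.subtype := by
    have e : (MulAut.conj g)⁻¹ • x ^ (orderOf x / p) = g⁻¹ * x ^ (orderOf x / p) * g := by
      rw [MulAut.smul_def, MulAut.conj_inv_apply]
    rw [← e]; exact h1
  have h3 : g⁻¹ * x ^ (orderOf x / p) * g ∈ H := Subgroup.map_subtype_le _ h2
  refine ⟨g, ?_⟩
  have hz1 : g⁻¹ * x ^ (orderOf x / p) * g ≠ 1 := by
    intro h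
    have h0 : orderOf (g⁻¹ * x ^ (orderOf x / p) * g) = p := by rw [orderOf_conj', hyo]
    rw [h, orderOf_one] at h0
    exact hp.one_lt.ne h0
  have hcomm : (g⁻¹ * x * g) * (g⁻¹ * x ^ (orderOf x / p) * g) * (g⁻¹ * x * g)⁻¹ =
      g⁻¹ * x ^ (orderOf x / p) * g := by
    have hc : x * x ^ (orderOf x / p) = x ^ (orderOf x / p) * x :=
      ((Commute.refl x).pow_right _).eq
    calc (g⁻¹ * x * g) * (g⁻¹ * x ^ (orderOf x / p) * g) * (g⁻¹ * x * g)⁻¹
        = g⁻¹ * (x * x ^ (orderOf x / p)) * x⁻¹ * g := by group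
      _ = g⁻¹ * (x ^ (orderOf x / p) * x) * x⁻¹ * g := by rw [hc]
      _ = g⁻¹ * x ^ (orderOf x / p) * g := by group
  have hcL : g⁻¹ * x * g ∈ Subgroup.normalizer (H : Set G) :=
    mem_normalizer_of_TI H hTI h3 hz1 (by rw [hcomm]; exact h3)
  apply mem_of_coprime_order H _ hcL
  rw [orderOf_conj']
  exact Nat.Coprime.coprime_dvd_left hx hHall

/-- Every subgroup all of whose elements have order dividing `|H|` is conjugate into `H`. -/
theorem exists_conj_le [Finite G] (hTI : Cfsg.IsTISubset (H : Set G))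
    (hHall : (Nat.card H).Coprime (H.subgroupOf (Subgroup.normalizer (H : Set G))).index)
    (H₁ : Subgroup G) (hH₁ : ∀ x ∈ H₁, orderOf x ∣ Nat.card H) :
    ∃ g : G, ∀ x ∈ H₁, g⁻¹ * x * g ∈ H := by
  by_cases htriv : ∀ x ∈ H₁, x = 1
  · exact ⟨1, fun x hx => by rw [htriv x hx]; simp⟩
  push Not at htriv
  obtain ⟨x₀, hx₀, hx₀1⟩ := htriv
  have hfix : ∀ (x : H₁) (g : G),
      x • (g : G ⧸ Subgroup.normalizer (H : Set G)) = (g : G ⧸ Subgroup.normalizer (H : Set G)) ↔
      g⁻¹ * (x : G) * g ∈ Subgroup.normalizer (H : Set G) := by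
    intro x g
    have h0 : x • (g : G ⧸ Subgroup.normalizer (H : Set G)) =
        ((x : G) • (g : G ⧸ Subgroup.normalizer (H : Set G))) := rfl
    rw [h0, MulAction.Quotient.smul_mk, QuotientGroup.eq]
    have e : ((x : G) • g)⁻¹ * g = (g⁻¹ * (x : G) * g)⁻¹ := by
      rw [smul_eq_mul]; group
    rw [e, inv_mem_iff]
  have hfix' : ∀ (x : H₁) (g : G), g⁻¹ * (x : G) * g ∈ Subgroup.normalizer (H : Set G) ↔
      g⁻¹ * (x : G) * g ∈ H := by
    intro x g
    constructor
    · intro h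
      apply mem_of_coprime_order H _ h
      rw [orderOf_conj']
      exact Nat.Coprime.coprime_dvd_left (hH₁ x x.2) hHall
    · exact fun h => Subgroup.le_normalizer h
  have hU : ∀ x : H₁, x ≠ 1 →
      ∃! ω : G ⧸ Subgroup.normalizer (H : Set G), x • ω = ω := by
    intro x hx
    have hx' : (x : G) ≠ 1 := fun h => hx (Subtype.ext h)
    obtain ⟨g, hg⟩ := exists_conj_mem H hTI hHall (x : G) hx' (hH₁ x x.2)
    refine ⟨(g : G ⧸ Subgroup.normalizer (H : Set G)),
      (hfix x g).2 (Subgroup.le_normalizer hg), ?_⟩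
    intro ω hω
    obtain ⟨g', rfl⟩ := QuotientGroup.mk_surjective ω
    have hg' := (hfix' x g').1 ((hfix x g').1 hω)
    have hz1 : g⁻¹ * (x : G) * g ≠ 1 := by
      intro h
      have h0 := orderOf_conj' g (x : G)
      rw [h, orderOf_one] at h0
      exact hx' (orderOf_eq_one_iff.1 h0.symm)
    have hmem : g'⁻¹ * g ∈ Subgroup.normalizer (H : Set G) := by
      apply mem_normalizer_of_TI H hTI hg hz1
      have : (g'⁻¹ * g) * (g⁻¹ * (x : G) * g) * (g'⁻¹ * g)⁻¹ = g'⁻¹ * (x : G) * g' := by group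
      rw [this]; exact hg'
    exact QuotientGroup.eq.2 hmem
  obtain ⟨ω, hω⟩ := exists_fixed_point hU ⟨⟨x₀, hx₀⟩, fun h => hx₀1 (congrArg Subtype.val h)⟩
  obtain ⟨g, rfl⟩ := QuotientGroup.mk_surjective ω
  exact ⟨g, fun x hx => (hfix' ⟨x, hx⟩ g).1 ((hfix ⟨x, hx⟩ g).1 (hω ⟨x, hx⟩))⟩

/-- For each prime `q` there is an `H`-invariant Sylow `q`-subgroup of the normal complement. -/
theorem exists_invariant_sylow [Finite G] (hTI : Cfsg.IsTISubset (H : Set G))
    (hHall : (Nat.card H).Coprime (H.subgroupOf (Subgroup.normalizer (H : Set G))).index)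
    (M : Subgroup G) [hMn : M.Normal] (hM : M.IsComplement' H) (q : ℕ) [Fact q.Prime] :
    ∃ Q : Subgroup G, Q ≤ M ∧ IsPGroup q Q ∧ Nat.card Q = q ^ (Nat.card M).factorization q ∧
      ∀ h ∈ H, ∀ x ∈ Q, h * x * h⁻¹ ∈ Q := by
  have hG := coprime_index H hTI hHall
  have hMcard : H.index = Nat.card M := hM.index_eq_card
  have hMidx : M.index = Nat.card H := hM.symm.index_eq_card
  obtain ⟨Q₀⟩ : Nonempty (Sylow q M) := inferInstance
  have hfr : Subgroup.normalizer (((Q₀ : Subgroup M).map M.subtype : Subgroup G) : Set G) ⊔ M = ⊤ :=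
    Sylow.normalizer_sup_eq_top Q₀
  have hBidx : (M.subgroupOf
      (Subgroup.normalizer (((Q₀ : Subgroup M).map M.subtype : Subgroup G) : Set G))).index =
      Nat.card H := by
    have h1 := Subgroup.relIndex_sup_right
      (Subgroup.normalizer (((Q₀ : Subgroup M).map M.subtype : Subgroup G) : Set G)) M
    rw [hfr, Subgroup.relIndex_top_right] at h1
    rw [← hMidx, h1]; rfl
  have hBcard : Nat.card (M.subgroupOf
      (Subgroup.normalizer (((Q₀ : Subgroup M).map M.subtype : Subgroup G) : Set G))) ∣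
      Nat.card M := by
    apply Subgroup.card_dvd_of_injective
      (((Subgroup.normalizer (((Q₀ : Subgroup M).map M.subtype : Subgroup G) : Set G)).subtype.comp
        (M.subgroupOf (Subgroup.normalizer
          (((Q₀ : Subgroup M).map M.subtype : Subgroup G) : Set G))).subtype).codRestrict M
        (fun b => Subgroup.mem_subgroupOf.1 b.2))
    intro a b hab
    have h1 := congrArg (fun z : M => (z : G)) hab
    exact Subtype.ext (Subtype.ext h1)
  have hcop : (Nat.card (M.subgroupOf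
      (Subgroup.normalizer (((Q₀ : Subgroup M).map M.subtype : Subgroup G) : Set G)))).Coprime
      (M.subgroupOf
      (Subgroup.normalizer (((Q₀ : Subgroup M).map M.subtype : Subgroup G) : Set G))).index := by
    rw [hBidx]
    exact Nat.Coprime.coprime_dvd_left hBcard (by rw [← hMcard]; exact hG.symm)
  obtain ⟨H₁', hH₁'⟩ := Subgroup.exists_right_complement'_of_coprime hcop
  have hH₁'card : Nat.card H₁' = Nat.card H := by
    rw [← hBidx]; exact hH₁'.symm.index_eq_card.symm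
  have hH₁card : Nat.card (H₁'.map
      (Subgroup.normalizer (((Q₀ : Subgroup M).map M.subtype : Subgroup G) : Set G)).subtype) =
      Nat.card H := by
    rw [Subgroup.card_map_of_injective (Subgroup.subtype_injective _), hH₁'card]
  have hH₁X : H₁'.map
      (Subgroup.normalizer (((Q₀ : Subgroup M).map M.subtype : Subgroup G) : Set G)).subtype ≤
      Subgroup.normalizer (((Q₀ : Subgroup M).map M.subtype : Subgroup G) : Set G) :=
    Subgroup.map_subtype_le _
  obtain ⟨g, hg⟩ := exists_conj_le H hTI hHall _ (fun x hx => by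
    rw [← hH₁card]
    have := orderOf_dvd_natCard (⟨x, hx⟩ : H₁'.map
      (Subgroup.normalizer (((Q₀ : Subgroup M).map M.subtype : Subgroup G) : Set G)).subtype)
    rwa [Subgroup.orderOf_mk] at this)
  have hsurj : ∀ h ∈ H, ∃ x ∈ H₁'.map
      (Subgroup.normalizer (((Q₀ : Subgroup M).map M.subtype : Subgroup G) : Set G)).subtype,
      g⁻¹ * x * g = h := by
    have hinj : Function.Injective (fun x : H₁'.map
        (Subgroup.normalizer (((Q₀ : Subgroup M).map M.subtype : Subgroup G) : Set G)).subtype =>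
        (⟨g⁻¹ * (x : G) * g, hg x x.2⟩ : H)) := by
      intro a b hab
      have h1 : g⁻¹ * (a : G) * g = g⁻¹ * (b : G) * g := congrArg Subtype.val hab
      exact Subtype.ext (by simpa using h1)
    have hbij := (Nat.bijective_iff_injective_and_card _).2 ⟨hinj, hH₁card⟩
    intro h hh
    obtain ⟨x, hx⟩ := hbij.2 ⟨h, hh⟩
    exact ⟨x, x.2, congrArg Subtype.val hx⟩
  refine ⟨((Q₀ : Subgroup M).map M.subtype).map (MulAut.conj g⁻¹ : G ≃* G).toMonoidHom,
    ?_, ?_, ?_, ?_⟩
  · rintro _ ⟨y, hy, rfl⟩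
    have hyM : y ∈ M := Subgroup.map_subtype_le _ hy
    show (MulAut.conj g⁻¹) y ∈ M
    rw [MulAut.conj_apply]
    exact hMn.conj_mem y hyM g⁻¹
  · exact (Q₀.isPGroup'.map M.subtype).map _
  · rw [Subgroup.card_map_of_injective (MulAut.conj g⁻¹ : G ≃* G).injective,
      Subgroup.card_map_of_injective M.subtype_injective]
    exact Q₀.card_eq_multiplicity
  · rintro h hh _ ⟨y, hy, rfl⟩
    obtain ⟨x, hx, rfl⟩ := hsurj h hh
    have hxy : x * y * x⁻¹ ∈ (Q₀ : Subgroup M).map M.subtype :=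
      (Subgroup.mem_normalizer_iff.1 (hH₁X hx) y).1 hy
    refine ⟨x * y * x⁻¹, hxy, ?_⟩
    show (MulAut.conj g⁻¹) (x * y * x⁻¹) =
      g⁻¹ * x * g * (MulAut.conj g⁻¹) y * (g⁻¹ * x * g)⁻¹
    simp only [MulAut.conj_apply]; group

/-- Construction of the Frobenius group `TH / Z`. -/
theorem exists_frobenius_aux [Finite G] (M : Subgroup G)
    (hdisj : ∀ y, y ∈ M → y ∈ H → y = 1) (Q : Subgroup G) (hQM : Q ≤ M)
    (Z T : Subgroup G) (hZQ : Z ≤ Q) (hTQ : T ≤ Q)
    (hXZ : T ⊔ H ≤ Subgroup.normalizer (Z : Set G))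
    (hXT : T ⊔ H ≤ Subgroup.normalizer (T : Set G))
    (hF : ∀ h ∈ H, h ≠ 1 → ∀ t ∈ T, h * t * h⁻¹ * t⁻¹ ∈ Z → t ∈ Z)
    (hT : ∃ t₀ ∈ T, t₀ ∉ Z) (hH : H ≠ ⊥) :
    ∃ (F : Type u) (_ : Group F) (_ : Finite F) (C : Subgroup F),
      Cfsg.IsFrobeniusComplement C ∧ Nonempty (H ≃* C) := by
  have hTX : T ≤ T ⊔ H := le_sup_left
  have hHX : H ≤ T ⊔ H := le_sup_right
  have hZ'n : (Z.subgroupOf (T ⊔ H)).Normal := Subgroup.normal_subgroupOf_of_le_normalizer hXZ
  have hT'n : (T.subgroupOf (T ⊔ H)).Normal := Subgroup.normal_subgroupOf_of_le_normalizer hXT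
  have hNn : ((T.subgroupOf (T ⊔ H)).map (QuotientGroup.mk' (Z.subgroupOf (T ⊔ H)))).Normal :=
    hT'n.map _ (QuotientGroup.mk'_surjective _)
  have hsup : (T.subgroupOf (T ⊔ H)).map (QuotientGroup.mk' (Z.subgroupOf (T ⊔ H))) ⊔
      (H.subgroupOf (T ⊔ H)).map (QuotientGroup.mk' (Z.subgroupOf (T ⊔ H))) = ⊤ := by
    rw [← Subgroup.map_sup, ← Subgroup.subgroupOf_sup hTX hHX, Subgroup.subgroupOf_self,
      Subgroup.map_top_of_surjective _ (QuotientGroup.mk'_surjective _)]
  have hint : ∀ y, y ∈ (T.subgroupOf (T ⊔ H)).map (QuotientGroup.mk' (Z.subgroupOf (T ⊔ H))) →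
      y ∈ (H.subgroupOf (T ⊔ H)).map (QuotientGroup.mk' (Z.subgroupOf (T ⊔ H))) → y = 1 := by
    rintro y ⟨t, ht, rfl⟩ ⟨h, hh, hth⟩
    have h1 : h⁻¹ * t ∈ Z.subgroupOf (T ⊔ H) := QuotientGroup.eq.1 hth
    have hhH : (h : G) ∈ H := Subgroup.mem_subgroupOf.1 hh
    have htT : (t : G) ∈ T := Subgroup.mem_subgroupOf.1 ht
    have h2 : (h : G)⁻¹ * (t : G) ∈ Z := by simpa using Subgroup.mem_subgroupOf.1 h1
    have hhM : (h : G) ∈ M := by
      have : (h : G) = (t : G) * ((h : G)⁻¹ * (t : G))⁻¹ := by group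
      rw [this]; exact M.mul_mem (hQM (hTQ htT)) (M.inv_mem (hQM (hZQ h2)))
    have hh1 : h = 1 := Subtype.ext (hdisj _ hhM hhH)
    rw [← hth, hh1, map_one]
  have hfpf : ∀ c ∈ (H.subgroupOf (T ⊔ H)).map (QuotientGroup.mk' (Z.subgroupOf (T ⊔ H))),
      c ≠ 1 → ∀ n ∈ (T.subgroupOf (T ⊔ H)).map (QuotientGroup.mk' (Z.subgroupOf (T ⊔ H))),
      n * c = c * n → n = 1 := by
    rintro c ⟨h, hh, rfl⟩ hc1 n ⟨t, ht, rfl⟩ hcomm
    have h1 : (t * h)⁻¹ * (h * t) ∈ Z.subgroupOf (T ⊔ H) := by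
      apply QuotientGroup.eq.1
      rw [QuotientGroup.mk_mul, QuotientGroup.mk_mul]; exact hcomm
    have hhH : (h : G) ∈ H := Subgroup.mem_subgroupOf.1 hh
    have htT : (t : G) ∈ T := Subgroup.mem_subgroupOf.1 ht
    have hh1 : (h : G)⁻¹ ≠ 1 := by
      intro h0
      apply hc1
      have : h = 1 := Subtype.ext (by simpa using h0)
      rw [this, map_one]
    have h2 : (h : G)⁻¹ * (t : G)⁻¹ * ((h : G)⁻¹)⁻¹ * ((t : G)⁻¹)⁻¹ ∈ Z := by
      have h3 := Subgroup.mem_subgroupOf.1 h1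
      have e : (((t * h)⁻¹ * (h * t) : (T ⊔ H : Subgroup G)) : G) =
          (h : G)⁻¹ * (t : G)⁻¹ * ((h : G)⁻¹)⁻¹ * ((t : G)⁻¹)⁻¹ := by
        simp only [Subgroup.coe_mul, Subgroup.coe_inv]; group
      rwa [e] at h3
    have h3 := hF _ (H.inv_mem hhH) hh1 _ (T.inv_mem htT) h2
    have h4 : t ∈ Z.subgroupOf (T ⊔ H) :=
      Subgroup.mem_subgroupOf.2 (by simpa using Z.inv_mem h3)
    exact (QuotientGroup.eq_one_iff t).2 h4
  have hN : (T.subgroupOf (T ⊔ H)).map (QuotientGroup.mk' (Z.subgroupOf (T ⊔ H))) ≠ ⊥ := by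
    intro h
    obtain ⟨t₀, ht₀T, ht₀Z⟩ := hT
    have hm : (QuotientGroup.mk' (Z.subgroupOf (T ⊔ H))) ⟨t₀, hTX ht₀T⟩ ∈
        (T.subgroupOf (T ⊔ H)).map (QuotientGroup.mk' (Z.subgroupOf (T ⊔ H))) :=
      ⟨_, Subgroup.mem_subgroupOf.2 ht₀T, rfl⟩
    rw [h, Subgroup.mem_bot] at hm
    exact ht₀Z (Subgroup.mem_subgroupOf.1 ((QuotientGroup.eq_one_iff _).1 hm))
  have hC : (H.subgroupOf (T ⊔ H)).map (QuotientGroup.mk' (Z.subgroupOf (T ⊔ H))) ≠ ⊥ := by
    intro h
    obtain ⟨h₀, hh₀, hh₀1⟩ : ∃ h₀ : G, h₀ ∈ H ∧ h₀ ≠ 1 := by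
      obtain ⟨x, hx1⟩ := Subgroup.ne_bot_iff_exists_ne_one.1 hH
      exact ⟨(x : G), x.2, fun h => hx1 (Subtype.ext h)⟩
    have hm : (QuotientGroup.mk' (Z.subgroupOf (T ⊔ H))) ⟨h₀, hHX hh₀⟩ ∈
        (H.subgroupOf (T ⊔ H)).map (QuotientGroup.mk' (Z.subgroupOf (T ⊔ H))) :=
      ⟨_, Subgroup.mem_subgroupOf.2 hh₀, rfl⟩
    rw [h, Subgroup.mem_bot] at hm
    have hz : h₀ ∈ Z := Subgroup.mem_subgroupOf.1 ((QuotientGroup.eq_one_iff _).1 hm)
    exact hh₀1 (hdisj _ (hQM (hZQ hz)) hh₀)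
  have hFrob := (Cfsg.Agent.S4108.frobenius_of_fpf _ _ hsup hint hfpf hN hC).1
  refine ⟨(T ⊔ H : Subgroup G) ⧸ Z.subgroupOf (T ⊔ H), inferInstance, inferInstance,
    (H.subgroupOf (T ⊔ H)).map (QuotientGroup.mk' (Z.subgroupOf (T ⊔ H))), hFrob, ?_⟩
  have hφC : ∀ h : H, ((QuotientGroup.mk' (Z.subgroupOf (T ⊔ H))).comp (Subgroup.inclusion hHX)) h ∈
      (H.subgroupOf (T ⊔ H)).map (QuotientGroup.mk' (Z.subgroupOf (T ⊔ H))) :=
    fun h => ⟨Subgroup.inclusion hHX h, Subgroup.mem_subgroupOf.2 h.2, rfl⟩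
  have hinj : Function.Injective
      (((QuotientGroup.mk' (Z.subgroupOf (T ⊔ H))).comp (Subgroup.inclusion hHX)).codRestrict
        ((H.subgroupOf (T ⊔ H)).map (QuotientGroup.mk' (Z.subgroupOf (T ⊔ H)))) hφC) := by
    rw [injective_iff_map_eq_one]
    intro h hh
    have h1 : (QuotientGroup.mk' (Z.subgroupOf (T ⊔ H))) (Subgroup.inclusion hHX h) = 1 :=
      congrArg Subtype.val hh
    have h2 : Subgroup.inclusion hHX h ∈ Z.subgroupOf (T ⊔ H) := (QuotientGroup.eq_one_iff _).1 h1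
    have h3 : (h : G) ∈ Z := Subgroup.mem_subgroupOf.1 h2
    exact Subtype.ext (hdisj _ (hQM (hZQ h3)) h.2)
  have hsurj : Function.Surjective
      (((QuotientGroup.mk' (Z.subgroupOf (T ⊔ H))).comp (Subgroup.inclusion hHX)).codRestrict
        ((H.subgroupOf (T ⊔ H)).map (QuotientGroup.mk' (Z.subgroupOf (T ⊔ H)))) hφC) := by
    rintro ⟨c, x, hx, rfl⟩
    exact ⟨⟨(x : G), Subgroup.mem_subgroupOf.1 hx⟩, Subtype.ext rfl⟩
  exact ⟨MulEquiv.ofBijective _ ⟨hinj, hsurj⟩⟩

/-- If `H` is a non-normal TI subgroup, Hall in its normalizer, with a normal complement `M` in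
`G`, then `H` is isomorphic to a Frobenius complement (in a section of `G`). -/
theorem exists_frobenius [Finite G] (hTI : Cfsg.IsTISubset (H : Set G))
    (hHall : (Nat.card H).Coprime (H.subgroupOf (Subgroup.normalizer (H : Set G))).index)
    (M : Subgroup G) [hMn : M.Normal] (hM : M.IsComplement' H) (hHn : ¬ H.Normal) :
    ∃ (F : Type u) (_ : Group F) (_ : Finite F) (C : Subgroup F),
      Cfsg.IsFrobeniusComplement C ∧ Nonempty (H ≃* C) := by
  have hG := coprime_index H hTI hHall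
  have hMcard : H.index = Nat.card M := hM.index_eq_card
  have hdisj : ∀ y, y ∈ M → y ∈ H → y = 1 :=
    fun y h1 h2 => Subgroup.disjoint_def.1 hM.disjoint h1 h2
  have hML : ¬ M ≤ Subgroup.normalizer (H : Set G) := by
    intro hle
    apply hHn
    have htop : Subgroup.normalizer (H : Set G) = ⊤ := by
      rw [eq_top_iff, ← hM.sup_eq_top]
      exact sup_le hle Subgroup.le_normalizer
    exact Subgroup.normalizer_eq_top_iff.1 htop
  obtain ⟨q, hq, Q, hQM, hQp, hQcard, hQH, hQL⟩ : ∃ (q : ℕ) (_ : Fact q.Prime) (Q : Subgroup G),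
      Q ≤ M ∧ IsPGroup q Q ∧ Nat.card Q = q ^ (Nat.card M).factorization q ∧
      (∀ h ∈ H, ∀ x ∈ Q, h * x * h⁻¹ ∈ Q) ∧ ¬ Q ≤ Subgroup.normalizer (H : Set G) := by
    by_contra hcon
    push Not at hcon
    apply hML
    have hdvd : Nat.card M ∣ Nat.card (M ⊓ Subgroup.normalizer (H : Set G) : Subgroup G) := by
      rw [Nat.dvd_iff_prime_pow_dvd_dvd]
      intro p k hp hpk
      have : Fact p.Prime := ⟨hp⟩
      obtain ⟨Q, hQM, hQp, hQcard, hQH⟩ := exists_invariant_sylow H hTI hHall M hM p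
      have hQL := hcon p ⟨hp⟩ Q hQM hQp hQcard hQH
      have h1 : Nat.card Q ∣ Nat.card (M ⊓ Subgroup.normalizer (H : Set G) : Subgroup G) :=
        Subgroup.card_dvd_of_le (le_inf hQM hQL)
      have h2 : p ^ k ∣ Nat.card Q := by
        rw [hQcard]
        apply pow_dvd_pow
        exact (hp.pow_dvd_iff_le_factorization Nat.card_pos.ne').1 hpk
      exact h2.trans h1
    have hle := Nat.le_of_dvd Nat.card_pos hdvd
    have := Subgroup.eq_of_le_of_card_ge
      (inf_le_left : M ⊓ Subgroup.normalizer (H : Set G) ≤ M) hle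
    rw [← this]; exact inf_le_right
  have hqH : ¬ q ∣ Nat.card H := by
    intro hd
    have hQne : Q ≠ ⊥ := by rintro rfl; exact hQL bot_le
    have h1 : q ∣ Nat.card Q := by
      obtain ⟨k, hk⟩ := (IsPGroup.iff_card.1 hQp)
      rw [hk]
      rcases Nat.eq_zero_or_pos k with h0 | h0
      · exfalso; rw [h0, pow_zero] at hk; exact hQne (Subgroup.card_eq_one.1 hk)
      · exact dvd_pow_self q h0.ne'
    have h2 : q ∣ H.index := by rw [hMcard]; exact h1.trans (Subgroup.card_dvd_of_le hQM)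
    have := Nat.dvd_gcd hd h2
    rw [hG] at this
    exact hq.out.one_lt.ne' (Nat.dvd_one.1 this)
  have hZQ : Q ⊓ Subgroup.normalizer (H : Set G) ≤ Q := inf_le_left
  have hZne : Q ⊓ Subgroup.normalizer (H : Set G) ≠ Q := fun h => hQL (h ▸ inf_le_right)
  have hcent : ∀ h ∈ H, ∀ z ∈ Q ⊓ Subgroup.normalizer (H : Set G), h * z = z * h := by
    intro h hh z hz
    have hzM : z ∈ M := hQM hz.1
    have hzL : z ∈ Subgroup.normalizer (H : Set G) := hz.2
    have h1 : z * h * z⁻¹ * h⁻¹ ∈ H :=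
      H.mul_mem ((Subgroup.mem_normalizer_iff.1 hzL h).1 hh) (H.inv_mem hh)
    have h2 : z * h * z⁻¹ * h⁻¹ ∈ M := by
      have : z * h * z⁻¹ * h⁻¹ = z * (h * z⁻¹ * h⁻¹) := by group
      rw [this]
      exact M.mul_mem hzM (hMn.conj_mem _ (M.inv_mem hzM) h)
    have h3 := hdisj _ h2 h1
    calc h * z = (z * h * z⁻¹ * h⁻¹)⁻¹ * (z * h) := by group
      _ = z * h := by rw [h3]; group
  have hnil : Group.IsNilpotent Q := hQp.isNilpotent
  obtain ⟨t₀, ht₀Q, ht₀N, ht₀Z⟩ : ∃ t₀ ∈ Q,
      (∀ z ∈ Q ⊓ Subgroup.normalizer (H : Set G), t₀ * z * t₀⁻¹ ∈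
        Q ⊓ Subgroup.normalizer (H : Set G)) ∧ t₀ ∉ Q ⊓ Subgroup.normalizer (H : Set G) := by
    have hlt : (Q ⊓ Subgroup.normalizer (H : Set G)).subgroupOf Q < ⊤ := by
      rw [lt_top_iff_ne_top]
      intro h
      rw [Subgroup.subgroupOf_eq_top] at h
      exact hZne (le_antisymm hZQ h)
    have h1 := Group.normalizerCondition_of_isNilpotent (G := Q) _ hlt
    obtain ⟨t, htN, htZ⟩ := SetLike.exists_of_lt h1
    refine ⟨(t : G), t.2, ?_, fun h => htZ (Subgroup.mem_subgroupOf.2 h)⟩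
    intro z hz
    have := (Subgroup.mem_normalizer_iff.1 htN ⟨z, hZQ hz⟩).1 (Subgroup.mem_subgroupOf.2 hz)
    exact Subgroup.mem_subgroupOf.1 this
  -- the key fixed-point-freeness
  have hF : ∀ h ∈ H, h ≠ 1 → ∀ t ∈ Q,
      h * t * h⁻¹ * t⁻¹ ∈ Q ⊓ Subgroup.normalizer (H : Set G) →
      t ∈ Q ⊓ Subgroup.normalizer (H : Set G) := by
    intro h hh hh1 t ht hu
    have hhu : h * (h * t * h⁻¹ * t⁻¹) = (h * t * h⁻¹ * t⁻¹) * h := hcent h hh _ hu
    have hpow : ∀ k : ℕ, h ^ k * t * (h ^ k)⁻¹ = (h * t * h⁻¹ * t⁻¹) ^ k * t := by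
      intro k
      induction k with
      | zero => simp
      | succ k ih =>
        have hc : h * (h * t * h⁻¹ * t⁻¹) ^ k = (h * t * h⁻¹ * t⁻¹) ^ k * h :=
          ((show Commute h (h * t * h⁻¹ * t⁻¹) from hhu).pow_right k).eq
        calc h ^ (k + 1) * t * (h ^ (k + 1))⁻¹ = h * (h ^ k * t * (h ^ k)⁻¹) * h⁻¹ := by
              rw [pow_succ']; group
          _ = h * ((h * t * h⁻¹ * t⁻¹) ^ k * t) * h⁻¹ := by rw [ih]
          _ = (h * (h * t * h⁻¹ * t⁻¹) ^ k) * (t * h⁻¹) := by group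
          _ = (h * t * h⁻¹ * t⁻¹) ^ k * h * (t * h⁻¹) := by rw [hc]
          _ = (h * t * h⁻¹ * t⁻¹) ^ k * (h * t * h⁻¹ * t⁻¹) * t := by group
          _ = (h * t * h⁻¹ * t⁻¹) ^ (k + 1) * t := by rw [← pow_succ]
    have h1 := hpow (orderOf h)
    rw [pow_orderOf_eq_one] at h1
    have h2 : (h * t * h⁻¹ * t⁻¹) ^ orderOf h = 1 := by
      have h1' : t = (h * t * h⁻¹ * t⁻¹) ^ orderOf h * t := by simpa using h1
      exact mul_eq_right.1 h1'.symm
    obtain ⟨j, hj⟩ := (IsPGroup.iff_orderOf.1 hQp) ⟨h * t * h⁻¹ * t⁻¹, hZQ hu⟩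
    rw [Subgroup.orderOf_mk] at hj
    have h3 : orderOf (h * t * h⁻¹ * t⁻¹) ∣ orderOf h := orderOf_dvd_of_pow_eq_one h2
    have h4 : orderOf h ∣ Nat.card H := by
      have := orderOf_dvd_natCard (⟨h, hh⟩ : H); rwa [Subgroup.orderOf_mk] at this
    have h5 : h * t * h⁻¹ * t⁻¹ = 1 := by
      rcases Nat.eq_zero_or_pos j with h0 | h0
      · rw [h0, pow_zero] at hj; exact orderOf_eq_one_iff.1 hj
      · exfalso
        apply hqH
        have : q ∣ orderOf (h * t * h⁻¹ * t⁻¹) := by rw [hj]; exact dvd_pow_self q h0.ne'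
        exact this.trans (h3.trans h4)
    have h6 : t * h * t⁻¹ = h := by
      calc t * h * t⁻¹ = (h * t * h⁻¹ * t⁻¹)⁻¹ * h := by group
        _ = h := by rw [h5]; group
    have h7 : t ∈ Subgroup.normalizer (H : Set G) :=
      mem_normalizer_of_TI H hTI hh hh1 (by rw [h6]; exact hh)
    exact ⟨ht, h7⟩
  -- the section
  have hHZ : H ≤ Subgroup.normalizer
      ((Q ⊓ Subgroup.normalizer (H : Set G) : Subgroup G) : Set G) := by
    intro h hh
    apply mem_normalizer_of_conj_mem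
    intro z hz
    have : h * z * h⁻¹ = z := by rw [hcent h hh z hz]; group
    rw [this]; exact hz
  have hHT : H ≤ Subgroup.normalizer
      ((Q ⊓ Subgroup.normalizer ((Q ⊓ Subgroup.normalizer (H : Set G) : Subgroup G) : Set G) :
        Subgroup G) : Set G) := by
    intro h hh
    apply mem_normalizer_of_conj_mem
    intro t ht
    exact ⟨hQH h hh t ht.1,
      Subgroup.mul_mem _ (Subgroup.mul_mem _ (hHZ hh) ht.2) (Subgroup.inv_mem _ (hHZ hh))⟩
  have hXZ : (Q ⊓ Subgroup.normalizer ((Q ⊓ Subgroup.normalizer (H : Set G) : Subgroup G) : Set G))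
      ⊔ H ≤ Subgroup.normalizer ((Q ⊓ Subgroup.normalizer (H : Set G) : Subgroup G) : Set G) :=
    sup_le inf_le_right hHZ
  have hXT : (Q ⊓ Subgroup.normalizer ((Q ⊓ Subgroup.normalizer (H : Set G) : Subgroup G) : Set G))
      ⊔ H ≤ Subgroup.normalizer
      ((Q ⊓ Subgroup.normalizer ((Q ⊓ Subgroup.normalizer (H : Set G) : Subgroup G) : Set G) :
        Subgroup G) : Set G) :=
    sup_le Subgroup.le_normalizer hHT
  exact exists_frobenius_aux H M hdisj Q hQM (Q ⊓ Subgroup.normalizer (H : Set G))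
    (Q ⊓ Subgroup.normalizer ((Q ⊓ Subgroup.normalizer (H : Set G) : Subgroup G) : Set G))
    hZQ inf_le_left hXZ hXT
    (fun h hh hh1 t ht hu => hF h hh hh1 t ht.1 hu)
    ⟨t₀, ⟨ht₀Q, mem_normalizer_of_conj_mem _ t₀ ht₀N⟩, ht₀Z⟩
    (by
      intro h
      apply hHn
      rw [h]
      infer_instance)

end Part2

end Cfsg.Agent.Lib.Helper68.TIHall
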