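import Mathlib

/-!
Small combinatorial lemmas on finite sums used for the character degrees of the simple group
of order 7920.
-/

set_option autoImplicit false

namespace Cfsg.Agent.Lib.Helper68.M11Comb

/-- A sum of nonzero integer squares equal to `2`. -/
theorem two_cases {ι : Type*} [DecidableEq ι] (S : Finset ι) (c : ι → ℤ)
    (hne : ∀ i ∈ S, c i ≠ 0) (hsum : ∑ i ∈ S, c i ^ 2 = 2) :
    ∃ a b, a ≠ b ∧ S = {a, b} ∧ (c a = 1 ∨ c a = -1) ∧ (c b = 1 ∨ c b = -1) := by
  have hsmall : ∀ i ∈ S, c i ^ 2 ≤ 2 := by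
    intro i hi
    have h1 : c i ^ 2 ≤ ∑ j ∈ S, c j ^ 2 :=
      Finset.single_le_sum (f := fun j => c j ^ 2) (fun j _ => sq_nonneg (c j)) hi
    rwa [hsum] at h1
  have hone : ∀ i ∈ S, c i = 1 ∨ c i = -1 := by
    intro i hi
    have h1 := hsmall i hi
    have h2 := hne i hi
    have h3 : -2 < c i := by nlinarith
    have h4 : c i < 2 := by nlinarith
    omega
  have hcard : S.card = 2 := by
    have h1 : ∑ i ∈ S, c i ^ 2 = ∑ i ∈ S, (1 : ℤ) :=
      Finset.sum_congr rfl (fun i hi => by rcases hone i hi with h | h <;> rw [h] <;> norm_num)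
    rw [hsum, Finset.sum_const, nsmul_eq_mul, mul_one] at h1
    exact_mod_cast h1.symm
  obtain ⟨a, b, hab, hS⟩ := Finset.card_eq_two.mp hcard
  exact ⟨a, b, hab, hS, hone a (by rw [hS]; simp), hone b (by rw [hS]; simp)⟩

theorem sum_four {ι R : Type*} [DecidableEq ι] [AddCommMonoid R] (a b d e : ι) (hab : a ≠ b)
    (had : a ≠ d) (hae : a ≠ e) (hbd : b ≠ d) (hbe : b ≠ e) (hde : d ≠ e) (F : ι → R) :
    ∑ x ∈ ({a, b, d, e} : Finset ι), F x = F a + F b + F d + F e := by
  rw [Finset.sum_insert (by simp [hab, had, hae]), Finset.sum_insert (by simp [hbd, hbe]),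
    Finset.sum_pair hde]
  abel

/-- Splitting a sum over a finite type into the trivial element, the support of `M` away from
it, a pair `θ 0, θ 1` (where `M` vanishes) and the rest. -/
theorem master_split {I : Type*} [Fintype I] [DecidableEq I] {R : Type*} [AddCommMonoid R]
    (T : I) (θ : Fin 2 → I) (hθinj : Function.Injective θ) (hθT : ∀ i, θ i ≠ T)
    (M : I → ℤ) (hMθ : ∀ i, M (θ i) = 0) (F : I → R) :
    ∑ ψ, F ψ = F T + ∑ ψ ∈ (Finset.univ.erase T).filter (fun ψ => M ψ ≠ 0), F ψ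
      + (F (θ 0) + F (θ 1))
      + ∑ ψ ∈ ((Finset.univ.erase T).filter (fun ψ => ¬ M ψ ≠ 0)).filter
          (fun ψ => ∀ i, θ i ≠ ψ), F ψ := by
  rw [← Finset.add_sum_erase Finset.univ F (Finset.mem_univ T),
    ← Finset.sum_filter_add_sum_filter_not (Finset.univ.erase T) (fun ψ => M ψ ≠ 0) F,
    ← Finset.sum_filter_add_sum_filter_not
      ((Finset.univ.erase T).filter (fun ψ => ¬ M ψ ≠ 0)) (fun ψ => ∀ i, θ i ≠ ψ) F]
  have hpair : ((Finset.univ.erase T).filter (fun ψ => ¬ M ψ ≠ 0)).filter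
      (fun ψ => ¬ ∀ i, θ i ≠ ψ) = {θ 0, θ 1} := by
    ext ψ
    simp only [Finset.mem_filter, Finset.mem_erase, Finset.mem_univ, and_true,
      Finset.mem_insert, Finset.mem_singleton, not_forall, not_not]
    constructor
    · rintro ⟨-, i, hi⟩
      fin_cases i
      · left; exact hi.symm
      · right; exact hi.symm
    · rintro (h | h)
      · subst h; exact ⟨⟨hθT 0, hMθ 0⟩, 0, rfl⟩
      · subst h; exact ⟨⟨hθT 1, hMθ 1⟩, 1, rfl⟩
  have h01 : θ 0 ≠ θ 1 := fun h => absurd (hθinj h) (by decide)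
  rw [hpair, Finset.sum_pair h01]
  abel

theorem perm1 {ι : Type*} [DecidableEq ι] (a b d e : ι) :
    ({a, b, d, e} : Finset ι) = {b, a, d, e} := by
  ext ψ
  simp only [Finset.mem_insert, Finset.mem_singleton]
  tauto

theorem perm2 {ι : Type*} [DecidableEq ι] (a b d e : ι) :
    ({a, b, d, e} : Finset ι) = {d, a, b, e} := by
  ext ψ
  simp only [Finset.mem_insert, Finset.mem_singleton]
  tauto

theorem perm3 {ι : Type*} [DecidableEq ι] (a b d e : ι) :
    ({a, b, d, e} : Finset ι) = {e, a, b, d} := by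
  ext ψ
  simp only [Finset.mem_insert, Finset.mem_singleton]
  tauto

end Cfsg.Agent.Lib.Helper68.M11Comb
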