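import Mathlib
import Cfsg.Agent.Lib.Helper17.ExcCor
import Cfsg.Agent.Lib.Helper17.ExcSimple

/-!
Exceptional characters for a self-centralizing subgroup of order `11` with normalizer of
order `55`: the shape needed for the simple group of order `7920`.
-/

set_option autoImplicit false
set_option linter.style.haveILetI false

namespace Cfsg.Agent.Lib.Helper68.M11Exc

open Cfsg Subgroup MulAction
open Cfsg.Agent.Lib.CT.FrobRec Cfsg.Agent.Lib.CT.LinChar Cfsg.Agent.Lib.CT.Orth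
open Cfsg.Agent.Lib.CT.Wedderburn Cfsg.Agent.Lib.Helper17.ExcOrb Cfsg.Agent.Lib.Helper17.ExcInd
open Cfsg.Agent.Lib.Helper17.ExcMain Cfsg.Agent.Lib.Helper17.ExcCor
open scoped ComplexConjugate

universe u

theorem charDegree_trivIrr {G : Type u} [Group G] : charDegree ((trivIrr G : IrrCharacter G) : G → ℂ) = 1 := by
  have h1 := deg_eq (trivIrr G)
  rw [trivIrr_apply] at h1
  exact_mod_cast h1.symm

theorem exc11 {G : Type u} [Group G] [Fintype G] [Fintype (IrrCharacter G)]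
    (P : Subgroup G) (hP : Nat.card P = 11)
    (hC : centralizer (P : Set G) ≤ P) (hN : Nat.card (normalizer (P : Set G)) = 11 * 5) :
    ∃ (θ : Fin 2 → IrrCharacter G) (M : IrrCharacter G → ℤ) (η : ℤ),
      Function.Injective θ ∧ M (trivIrr G) = 1 ∧ (∀ i, θ i ≠ trivIrr G) ∧ (∀ i, M (θ i) = 0) ∧
      ∑ ψ, M ψ ^ 2 = 5 ∧ (η = 1 ∨ η = -1) ∧
      (∀ ψ, (∀ i, θ i ≠ ψ) → ∃ a : ℤ, (charDegree (ψ : G → ℂ) : ℤ) = M ψ + 11 * a) ∧
      (∀ ψ, (∀ i, θ i ≠ ψ) → ∀ y : G, y ∈ P → y ≠ 1 → (ψ : G → ℂ) y = (M ψ : ℂ)) ∧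
      (∀ i j, charDegree ((θ i : IrrCharacter G) : G → ℂ)
        = charDegree ((θ j : IrrCharacter G) : G → ℂ)) ∧
      ∑ ψ : IrrCharacter G, (charDegree (ψ : G → ℂ) : ℤ) * M ψ
        = η * charDegree ((θ 0 : IrrCharacter G) : G → ℂ) := by
  classical
  have hp : Nat.Prime 11 := by norm_num
  obtain ⟨n, ε, b, θ, M, i₀, hn, hε, hθinj, hMT, hθT, hMexc, hsq, hdeg, hval, hθvan, hθone,
    hform⟩ := exceptional P (p := 11) (e := 5) hp hP hC hN (by norm_num)
  have hn2 : n = 2 := by omega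
  subst hn2
  have hε2 : ε * ε = 1 := by rcases hε with h | h <;> rw [h] <;> norm_num
  obtain ⟨y, hyP, hy1⟩ := exists_mem_ne_one P hp hP
  have horth : ∑ ψ : IrrCharacter G, (ψ : G → ℂ) 1 * conj ((ψ : G → ℂ) y) = 0 :=
    second_orthogonality_sum_of_not_isConj (1 : G) y
      (fun hc => hy1 (isConj_one_left.mp hc.symm))
  have hsplit : ∑ ψ, M ψ ^ 2 = 1 + ∑ ψ ∈ Finset.univ.erase (trivIrr G), M ψ ^ 2 := by
    rw [← Finset.add_sum_erase Finset.univ _ (Finset.mem_univ (trivIrr G)), hMT]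
    norm_num
  have hrest : 0 ≤ ∑ ψ ∈ Finset.univ.erase (trivIrr G), M ψ ^ 2 :=
    Finset.sum_nonneg (fun ψ _ => sq_nonneg _)
  obtain ⟨c, hc⟩ : ∃ c : ℤ, c = ε * b := ⟨_, rfl⟩
  have hbc : b = ε * c := by rw [hc, ← mul_assoc, hε2, one_mul]
  have hc2 : b ^ 2 = c ^ 2 := by
    rw [hbc, mul_pow, pow_two ε, hε2, one_mul]
  have hsq' : ∑ ψ, M ψ ^ 2 + 2 * c ^ 2 = 5 + 2 * c := by
    rw [← hc2, hc]
    push_cast at hsq
    linarith
  have hθdeg : ∀ i j, (fun ψ : IrrCharacter G => (ψ : G → ℂ) 1) (θ i)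
      = (fun ψ : IrrCharacter G => (ψ : G → ℂ) 1) (θ j) := fun i j => hθone i j
  have hθd : ∀ i j, charDegree ((θ i : IrrCharacter G) : G → ℂ)
        = charDegree ((θ j : IrrCharacter G) : G → ℂ) := by
    intro i j
    unfold charDegree
    rw [hθone i j]
  have hdegeq : ∑ ψ : IrrCharacter G, (charDegree (ψ : G → ℂ) : ℤ) * M ψ
      = (ε - 2 * b) * charDegree ((θ 0 : IrrCharacter G) : G → ℂ) := by
    have h1 := hform y hyP hy1 (fun ψ => (ψ : G → ℂ) 1) hθdeg
    rw [horth] at h1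
    simp only [deg_eq] at h1
    rw [hθd i₀ 0] at h1
    have h2 : ((∑ ψ : IrrCharacter G, (charDegree (ψ : G → ℂ) : ℤ) * M ψ : ℤ) : ℂ)
        = (((ε - 2 * b) * charDegree ((θ 0 : IrrCharacter G) : G → ℂ) : ℤ) : ℂ) := by
      push_cast
      push_cast at h1
      linear_combination -h1
    exact_mod_cast h2
  have hc_lo : -1 ≤ c := by
    by_contra h
    push Not at h
    nlinarith
  have hc_hi : c ≤ 2 := by
    by_contra h
    push Not at h
    nlinarith
  have hcases : c = -1 ∨ c = 0 ∨ c = 1 ∨ c = 2 := by omega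
  have hbad : c = -1 ∨ c = 2 → False := by
    intro hbad
    have hrest0 : ∑ ψ ∈ Finset.univ.erase (trivIrr G), M ψ ^ 2 = 0 := by
      rcases hbad with h | h <;> rw [h] at hsq' <;> linarith
    have hzero : ∀ ψ, ψ ≠ trivIrr G → M ψ = 0 := by
      intro ψ h1
      apply forall_zero_of_sq_sum (Finset.univ.erase (trivIrr G)) M (by linarith)
      exact Finset.mem_erase.mpr ⟨h1, Finset.mem_univ _⟩
    have hsum1 : ∑ ψ : IrrCharacter G, (charDegree (ψ : G → ℂ) : ℤ) * M ψ = 1 := by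
      rw [Finset.sum_eq_single (trivIrr G) (fun ψ _ h => by rw [hzero ψ h, mul_zero])
        (fun h => absurd (Finset.mem_univ _) h), hMT, charDegree_trivIrr]
      norm_num
    rw [hsum1, hbc] at hdegeq
    rcases hbad with h | h <;> rcases hε with h' | h' <;> rw [h, h'] at hdegeq <;> omega
  have hc01 : c = 0 ∨ c = 1 := by
    rcases hcases with h | h | h | h
    · exact absurd (Or.inl h) hbad
    · exact Or.inl h
    · exact Or.inr h
    · exact absurd (Or.inr h) hbad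
  have hM5 : ∑ ψ, M ψ ^ 2 = 5 := by
    rcases hc01 with h | h <;> rw [h] at hsq' <;> linarith
  have hη : ε - 2 * b = 1 ∨ ε - 2 * b = -1 := by
    rcases hc01 with h | h
    · have hb0 : b = 0 := by rw [hbc, h, mul_zero]
      rw [hb0]
      simpa using hε
    · have hbε : b = ε := by rw [hbc, h, mul_one]
      rw [hbε]
      rcases hε with h' | h' <;> rw [h'] <;> norm_num
  exact ⟨θ, M, ε - 2 * b, hθinj, hMT, hθT, hMexc, hM5, hη, hdeg, hval, hθd, hdegeq⟩

end Cfsg.Agent.Lib.Helper68.M11Exc
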