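import Mathlib

/-!
Arithmetic for the character degrees of a simple group of order 7920.
-/

set_option autoImplicit false

namespace Cfsg.Agent.Lib.Helper68.M11Num

/-- Possible degrees congruent to `±1` modulo `11`. -/
theorem deg_cases11 : ∀ D ∈ Nat.divisors 7920, D ≠ 1 → D * D < 7920 →
    (D % 11 = 1 → D = 12 ∨ D = 45) ∧ (D % 11 = 10 → D = 10) := by
  decide +kernel

/-- The case of a single character with value `±2` on the elements of order `11`. -/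
theorem two_case : ∀ D ∈ Nat.divisors 7920,
    (D % 11 = 2 → (1 + 2 * D) ∣ 7920 → D = 2) ∧ (D % 11 = 9 → ¬ (2 * D - 1) ∣ 7920) := by
  decide +kernel

def L : List ℤ := [12, 45, -10]

def Dθ : List ℤ := [1, 2, 3, 4, 5, 6, 8, 9, 10, 11, 12, 15, 16, 18, 20, 22, 24, 30, 33, 36, 40,
  44, 45, 48, 55, 60]

theorem mem_Dθ : ∀ c ∈ Nat.divisors 7920, c ≤ 62 → (c : ℤ) ∈ Dθ := by
  decide +kernel

set_option synthInstance.maxSize 4096 in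
set_option synthInstance.maxHeartbeats 400000 in
theorem numeric11 : ∀ v₁ ∈ L, ∀ v₂ ∈ L, ∀ v₃ ∈ L, ∀ v₄ ∈ L, ∀ t ∈ Dθ,
    (1 + v₁ + v₂ + v₃ + v₄ = t ∨ 1 + v₁ + v₂ + v₃ + v₄ = -t) →
    1 + v₁ * v₁ + v₂ * v₂ + v₃ * v₃ + v₄ * v₄ + 2 * (t * t) ≤ 7920 →
    (t = 16 ∧ ((v₁ = 45 ∧ v₂ = -10 ∧ v₃ = -10 ∧ v₄ = -10) ∨
        (v₁ = -10 ∧ v₂ = 45 ∧ v₃ = -10 ∧ v₄ = -10) ∨
        (v₁ = -10 ∧ v₂ = -10 ∧ v₃ = 45 ∧ v₄ = -10) ∨
        (v₁ = -10 ∧ v₂ = -10 ∧ v₃ = -10 ∧ v₄ = 45))) ∨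
    (t = 5 ∧ (v₁ = 12 ∨ v₂ = 12 ∨ v₃ = 12 ∨ v₄ = 12) ∧
      (v₁ = -10 ∨ v₂ = -10 ∨ v₃ = -10 ∨ v₄ = -10)) := by
  decide +kernel

/-- Degrees divisible by `11` and congruent to `±1` modulo `5`. -/
theorem deg_cases5 : ∀ D ∈ Nat.divisors 7920, 11 ∣ D → D * D < 7920 →
    (D % 5 = 1 → D = 11 ∨ D = 66) ∧ (D % 5 = 4 → D = 44) := by
  decide +kernel

theorem deg55 : ∀ D ∈ Nat.divisors 7920, 55 ∣ D → D * D ≤ 7920 → D = 55 := by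
  decide +kernel

theorem mem_L (D : ℕ) (δ : ℤ) (hD : D ∈ Nat.divisors 7920) (hD1 : D ≠ 1) (hDD : D * D < 7920)
    (hδ : δ = 1 ∨ δ = -1) (a : ℤ) (ha : (D : ℤ) = δ + 11 * a) :
    δ * D ∈ L ∧ ((δ * D = 12 → D = 12) ∧ (δ * D = 45 → D = 45) ∧ (δ * D = -10 → D = 10)) := by
  obtain ⟨h1, h2⟩ := deg_cases11 D hD hD1 hDD
  rcases hδ with h | h
  · subst h
    have : D % 11 = 1 := by omega
    rcases h1 this with h' | h' <;> subst h' <;> simp [L]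
  · subst h
    have : D % 11 = 10 := by omega
    have h' := h2 this
    subst h'
    simp [L]

end Cfsg.Agent.Lib.Helper68.M11Num
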