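import Mathlib
import Cfsg.Agent.Lib.Helper3.Spectral
import Cfsg.Agent.Lib.Helper80.Deg2p
import Cfsg.Agent.Lib.Helper69.InvDet
import Cfsg.Agent.Lib.Helper17.ExcSimple
import Cfsg.Agent.Lib.Helper17.EvenInv
import Cfsg.Agent.S4478

/-!
In a simple group whose order is divisible by `5` exactly once and which has an irreducible
character of degree `10`, no involution commutes with an element of order `5`.
(The character has `5`-defect zero, so on the cyclic group generated by the product all
eigenvalue multiplicities are determined by its value at the involution, which is `±10` by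
the determinant.)
-/

set_option autoImplicit false
set_option linter.style.haveILetI false

namespace Cfsg.Agent.Lib.Helper68.M11Inv

open Cfsg Subgroup
open Cfsg.Agent.Lib.Helper3.Spectral Cfsg.Agent.Lib.Helper17.ExcMain
open Cfsg.Agent.Lib.Helper17.ExcCor Cfsg.Agent.Lib.Helper17.ExcSimple

universe u

theorem no_invol_five {G : Type u} [Group G] [Finite G] [IsSimpleGroup G]
    (hG : ¬ IsMulCommutative G) (h5 : (Nat.card G).factorization 5 = 1)
    (χ : IrrCharacter G) (hdeg : charDegree (χ : G → ℂ) = 10)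
    (x t : G) (hx : orderOf x = 5) (ht : orderOf t = 2) (hxt : Commute x t) : False := by
  classical
  have hperf := commutator_eq_top hG
  have hχ1 : (χ : G → ℂ) 1 = 10 := by rw [deg_eq, hdeg]; norm_num
  have hχT : χ ≠ trivIrr G := by
    intro h0
    rw [h0, trivIrr_apply] at hχ1
    norm_num at hχ1
  have hvan : ∀ g : G, 5 ∣ orderOf g → (χ : G → ℂ) g = 0 := fun g hg =>
    Cfsg.Agent.S4478.vanish χ 5 (by norm_num) (by rw [h5, hdeg]; norm_num) g hg
  have ht2 : t * t = 1 := by rw [← pow_two, ← ht]; exact pow_orderOf_eq_one t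
  have ht1 : t ≠ 1 := by
    rintro rfl
    rw [orderOf_one] at ht
    omega
  have hx5 : x ^ 5 = 1 := by rw [← hx]; exact pow_orderOf_eq_one x
  obtain ⟨n, ρ, hirr, hρ⟩ := χ.2
  have hchar : ∀ g, (χ : G → ℂ) g = LinearMap.trace ℂ (Fin n → ℂ) (ρ g) := by
    intro g
    rw [← hρ]
    rfl
  obtain ⟨z, hz⟩ : ∃ z : G, z = x * t := ⟨_, rfl⟩
  have hzo : orderOf z = 10 := by
    rw [hz, hxt.orderOf_mul_eq_mul_orderOf_of_coprime (by rw [hx, ht]; norm_num), hx, ht]
  obtain ⟨b, μ, hb, hμ⟩ := exists_eigenbasis ρ z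
  rw [hzo] at hμ
  have hpow : ∀ k : ℕ, (χ : G → ℂ) (z ^ k) = ∑ i, μ i ^ k := by
    intro k
    rw [hchar, map_pow]
    exact trace_eq_sum_of_eigenbasis b _ _
      (fun i => Cfsg.Agent.Lib.Helper80.Deg2p.pow_apply_eigen _ _ _ (hb i) k)
  have hz5 : z ^ 5 = t := by
    rw [hz, hxt.mul_pow, hx5, one_mul]
    have ht2' : t ^ 2 = 1 := by rw [pow_two]; exact ht2
    calc t ^ 5 = (t ^ 2) ^ 2 * t := by rw [← pow_mul, ← pow_succ]
      _ = t := by rw [ht2']; simp
  have hzk : ∀ k : ℕ, 0 < k → k < 10 → k ≠ 5 → (χ : G → ℂ) (z ^ k) = 0 := by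
    intro k hk0 hk10 hk5
    apply hvan
    rw [orderOf_pow' z hk0.ne', hzo]
    interval_cases k <;> first | exact absurd rfl hk5 | decide
  have hm1 := Cfsg.Agent.Lib.Helper80.Deg2p.sum_pow_eq_card (r := 10) (by norm_num) μ hμ (-1)
    (by norm_num)
  have hp1 := Cfsg.Agent.Lib.Helper80.Deg2p.sum_pow_eq_card (r := 10) (by norm_num) μ hμ 1
    (by norm_num)
  simp only [← hpow] at hm1 hp1
  have e0 : (χ : G → ℂ) (z ^ 0) = 10 := by rw [pow_zero, hχ1]
  have e1 := hzk 1 (by norm_num) (by norm_num) (by norm_num)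
  have e2 := hzk 2 (by norm_num) (by norm_num) (by norm_num)
  have e3 := hzk 3 (by norm_num) (by norm_num) (by norm_num)
  have e4 := hzk 4 (by norm_num) (by norm_num) (by norm_num)
  have e5 : (χ : G → ℂ) (z ^ 5) = (χ : G → ℂ) t := by rw [hz5]
  have e6 := hzk 6 (by norm_num) (by norm_num) (by norm_num)
  have e7 := hzk 7 (by norm_num) (by norm_num) (by norm_num)
  have e8 := hzk 8 (by norm_num) (by norm_num) (by norm_num)
  have e9 := hzk 9 (by norm_num) (by norm_num) (by norm_num)
  simp only [Finset.sum_range_succ, Finset.sum_range_zero, e0, e1, e2, e3, e4, e5, e6, e7, e8,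
    e9] at hm1 hp1
  obtain ⟨cm, hcm⟩ : ∃ c : ℕ, c = (Finset.univ.filter fun i => μ i = -1).card := ⟨_, rfl⟩
  obtain ⟨cp, hcp⟩ : ∃ c : ℕ, c = (Finset.univ.filter fun i => μ i = 1).card := ⟨_, rfl⟩
  rw [← hcm] at hm1
  rw [← hcp] at hp1
  have hm1' : 10 - (χ : G → ℂ) t = 10 * (cm : ℂ) := by
    have h1 : ((-1 : ℂ))⁻¹ = -1 := by norm_num
    rw [h1] at hm1
    push_cast at hm1
    linear_combination hm1
  have hp1' : 10 + (χ : G → ℂ) t = 10 * (cp : ℂ) := by
    have h1 : ((1 : ℂ))⁻¹ = 1 := by norm_num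
    rw [h1] at hp1
    push_cast at hp1
    linear_combination hp1
  obtain ⟨m, hm⟩ := Cfsg.Agent.Lib.Helper69.InvDet.char_invol hperf
    (⟨n, ρ, hρ⟩ : IsCharacter G (χ : G → ℂ)) t ht2
  rw [hχ1] at hm
  have hsum : cm + cp = 2 := by
    have h1 : ((cm + cp : ℕ) : ℂ) = ((2 : ℕ) : ℂ) := by
      push_cast
      linear_combination (-(1 : ℂ) / 10) * hm1' - (1 : ℂ) / 10 * hp1'
    exact_mod_cast h1
  have hcm2 : 2 * m = 5 * cm := by
    have h1 : ((2 * m : ℕ) : ℂ) = ((5 * cm : ℕ) : ℂ) := by
      push_cast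
      rw [hm] at hm1'
      linear_combination (1 : ℂ) / 2 * hm1'
    exact_mod_cast h1
  have hcases : cm = 0 ∨ cm = 2 := by omega
  rcases hcases with hc | hc
  · -- χ t = χ 1
    rw [hc] at hm1'
    have hχt : (χ : G → ℂ) t = (χ : G → ℂ) 1 := by
      rw [hχ1]
      linear_combination -hm1'
    exact ht1 (Cfsg.Agent.Lib.Helper17.EvenInv.faithful_of_simple hG χ hχT t hχt)
  · -- χ t = -χ 1: t acts as -1, so t is central
    rw [hc] at hm1'
    have hχt : (χ : G → ℂ) t = -10 := by
      push_cast at hm1'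
      linear_combination -hm1'
    obtain ⟨b', μ', hb', hμ'⟩ := exists_eigenbasis ρ t
    rw [ht] at hμ'
    have htr : (χ : G → ℂ) t = ∑ i, μ' i := by
      rw [hchar]
      exact trace_eq_sum_of_eigenbasis b' _ _ hb'
    have hd : (∑ _i : Fin (Module.finrank ℂ (Fin n → ℂ)), (1 : ℂ)) = 10 := by
      have := hpow 0
      rw [e0] at this
      rw [this]
      simp
    have hpm : ∀ i, μ' i = 1 ∨ μ' i = -1 := by
      intro i
      have h1 : (μ' i - 1) * (μ' i + 1) = 0 := by linear_combination hμ' i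
      rcases mul_eq_zero.mp h1 with h | h
      · left; linear_combination h
      · right; linear_combination h
    have hzero : ∑ i, (μ' i + 1).re = 0 := by
      rw [← Complex.re_sum, Finset.sum_add_distrib, ← htr, hχt, hd]
      norm_num
    have hnn : ∀ i ∈ (Finset.univ : Finset (Fin (Module.finrank ℂ (Fin n → ℂ)))),
        0 ≤ (μ' i + 1).re := by
      intro i _
      rcases hpm i with h | h <;> rw [h] <;> norm_num
    have hall : ∀ i, μ' i = -1 := by
      intro i
      have h1 := (Finset.sum_eq_zero_iff_of_nonneg hnn).mp hzero i (Finset.mem_univ i)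
      rcases hpm i with h | h
      · rw [h] at h1
        norm_num at h1
      · exact h
    have hρt : ∀ v, ρ t v = -v := by
      intro v
      have h1 : ρ t = -LinearMap.id := by
        apply b'.ext
        intro i
        rw [hb' i, hall i]
        simp
      rw [h1]
      simp
    have hinv : t⁻¹ = t := inv_eq_of_mul_eq_one_right ht2
    have hcent : ∀ g : G, t * g = g * t := by
      intro g
      have h1 : (χ : G → ℂ) (t * g * t⁻¹ * g⁻¹) = (χ : G → ℂ) 1 := by
        rw [hchar, hchar]
        congr 1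
        apply LinearMap.ext
        intro v
        rw [hinv, map_mul, map_mul, map_mul, map_one, Module.End.mul_apply,
          Module.End.mul_apply, Module.End.mul_apply, hρt, hρt, map_neg, neg_neg,
          ← Module.End.mul_apply, ← map_mul, mul_inv_cancel, map_one]
      have h3 := Cfsg.Agent.Lib.Helper17.EvenInv.faithful_of_simple hG χ hχT _ h1
      calc t * g = (t * g * t⁻¹ * g⁻¹) * (g * t) := by group
        _ = g * t := by rw [h3, one_mul]
    have htc : t ∈ center G := by
      rw [Subgroup.mem_center_iff]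
      intro g
      exact (hcent g).symm
    rcases (inferInstance : (center G).Normal).eq_bot_or_eq_top with h | h
    · rw [h, Subgroup.mem_bot] at htc
      exact ht1 htc
    · apply hG
      refine ⟨⟨fun a b => ?_⟩⟩
      have hb : b ∈ center G := by rw [h]; exact Subgroup.mem_top b
      exact (Subgroup.mem_center_iff.mp hb a)

end Cfsg.Agent.Lib.Helper68.M11Inv
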