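import Mathlib
import Cfsg.Agent.Lib.Helper17.CentFix
import Cfsg.Agent.Lib.Helper17.Commuting
import Cfsg.Agent.Lib.Helper17.Sylow2
import Cfsg.Agent.Lib.Helper17.ExcSimple

/-!
Order 7920 = 2^4 * 3^2 * 5 * 11: a Sylow 11-subgroup of a simple group of this order is
self-centralizing with normalizer of order 55.
-/

set_option autoImplicit false
set_option linter.style.haveILetI false

namespace Cfsg.Agent.Lib.Helper68.M11Syl

open Cfsg Subgroup MulAction
open Cfsg.Agent.Lib.Helper17.Sylow Cfsg.Agent.Lib.Helper17.Sylow2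
open Cfsg.Agent.Lib.Helper17.CentFix Cfsg.Agent.Lib.Helper17.Commuting

variable {G : Type*} [Group G] [Finite G]

theorem key11 : ∀ n ∈ Nat.divisors 720, n % 11 = 1 → n = 1 ∨ n = 12 ∨ n = 45 ∨ n = 144 := by
  decide +kernel

/-- In a simple group of order 7920, a Sylow 11-subgroup is self-centralizing with normalizer
of order 55. -/
theorem sylow11 [IsSimpleGroup G] (hG : ¬ IsMulCommutative G) (h : Nat.card G = 7920)
    (P : Sylow 11 G) :
    Nat.card (P : Subgroup G) = 11 ∧ Nat.card (centralizer ((P : Subgroup G) : Set G)) = 11 ∧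
    Nat.card (normalizer ((P : Subgroup G) : Set G)) = 55 := by
  haveI : Fact (Nat.Prime 11) := ⟨by norm_num⟩
  haveI : Fact (Nat.Prime 3) := ⟨by norm_num⟩
  haveI : Fact (Nat.Prime 2) := ⟨by norm_num⟩
  have hP : Nat.card (P : Subgroup G) = 11 := by
    have := card_sylow_subgroup (p := 11) (k := 1) (m := 720) (h.trans (by norm_num))
      (by norm_num) P
    simpa using this
  refine ⟨hP, ?_⟩
  obtain ⟨r, hr1, hr10, hCN, h11C⟩ := sylow_prime_centralizer hG P hP
  have hNn := card_normalizer_mul_card_sylow P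
  rw [h] at hNn
  have hn_dvd : Nat.card (Sylow 11 G) ∣ 720 :=
    card_sylow_dvd (p := 11) (k := 1) (m := 720) (h.trans (by norm_num)) (by norm_num)
  have hn_mod := card_sylow_mod (G := G) 11
  have hn_ne := card_sylow_ne_one hG (p := 11) (by rw [h]; norm_num)
  have hcases := key11 _ (Nat.mem_divisors.mpr ⟨hn_dvd, by norm_num⟩) hn_mod
  have hidx : (normalizer ((P : Subgroup G) : Set G)).index = Nat.card (Sylow 11 G) :=
    (P.card_eq_index_normalizer).symm
  have hX : Nat.card (G ⧸ normalizer ((P : Subgroup G) : Set G)) = Nat.card (Sylow 11 G) := hidx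
  have hr : r = 2 ∨ r = 5 ∨ r = 10 := by
    have h1 : r ∣ 10 := hr10
    have h2 : r ∈ Nat.divisors 10 := Nat.mem_divisors.mpr ⟨h1, by norm_num⟩
    have h3 : ∀ r ∈ Nat.divisors 10, r = 1 ∨ r = 2 ∨ r = 5 ∨ r = 10 := by decide
    rcases h3 r h2 with h | h | h | h
    · exact absurd h hr1
    · exact Or.inl h
    · exact Or.inr (Or.inl h)
    · exact Or.inr (Or.inr h)
  have hNtop : normalizer ((P : Subgroup G) : Set G) ≠ ⊤ :=
    normalizer_sylow_ne_top hG (by rw [h]; norm_num) P
  rcases hcases with hn | hn | hn | hn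
  · exact absurd hn hn_ne
  · -- n = 12
    exfalso
    rw [hn] at hNn hidx hX
    have hN : Nat.card (normalizer ((P : Subgroup G) : Set G)) = 660 := by omega
    rw [hN] at hCN
    have h3 : 3 ∣ Nat.card (centralizer ((P : Subgroup G) : Set G)) := by
      rcases hr with h' | h' | h' <;> rw [h'] at hCN <;> omega
    obtain ⟨y, hyC, hy3⟩ := exists_mem_orderOf_eq_prime
      (centralizer ((P : Subgroup G) : Set G)) 3 h3
    have h1 := card_fixedBy_mod_of_mem_centralizer P hP y hyC
    have hy1 : y ≠ 1 := by
      intro h0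
      rw [h0, orderOf_one] at hy3
      omega
    have h2 := card_fixedBy_lt_index (normalizer ((P : Subgroup G) : Set G)) hNtop y hy1
    have h4 := card_modEq_card_fixedBy (X := G ⧸ normalizer ((P : Subgroup G) : Set G))
      (p := 3) (n := 1) y (by rw [pow_one, ← hy3]; exact pow_orderOf_eq_one y)
    rw [hX] at h4
    rw [hidx] at h2
    unfold Nat.ModEq at h4
    omega
  · -- n = 45
    exfalso
    rw [hn] at hNn hidx hX
    have hN : Nat.card (normalizer ((P : Subgroup G) : Set G)) = 176 := by omega
    rw [hN] at hCN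
    have hC : Nat.card (centralizer ((P : Subgroup G) : Set G)) = 88 := by
      rcases hr with h' | h' | h' <;> rw [h'] at hCN <;> omega
    obtain ⟨K, hKC, hK⟩ := exists_subgroup_le_card_pow_prime
      (centralizer ((P : Subgroup G) : Set G)) 2 3 (by rw [hC]; norm_num)
    have hfix : ∀ u ∈ K, u ≠ 1 →
        Nat.card (fixedBy (G ⧸ normalizer ((P : Subgroup G) : Set G)) u) = 1 := by
      intro u hu hu1
      have hord : orderOf u ∣ 8 := by
        have := orderOf_dvd_card_of_mem hu
        rwa [hK] at this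
      have ho1 : orderOf u ≠ 1 := fun h0 => hu1 (orderOf_eq_one_iff.mp h0)
      have hmem : orderOf u ∈ Nat.divisors 8 := Nat.mem_divisors.mpr ⟨hord, by norm_num⟩
      have hdiv : ∀ d ∈ Nat.divisors 8, d = 1 ∨ d = 2 ∨ d = 4 ∨ d = 8 := by decide
      have ho : orderOf u = 2 * (orderOf u / 2) := by
        rcases hdiv _ hmem with h' | h' | h' | h' <;> omega
      have hpos : 0 < orderOf u / 2 := by
        rcases hdiv _ hmem with h' | h' | h' | h' <;> omega
      set t := u ^ (orderOf u / 2) with ht
      have hto : orderOf t = 2 := by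
        rw [ht, orderOf_pow' u hpos.ne', Nat.gcd_eq_right (⟨2, by omega⟩ : orderOf u / 2 ∣ orderOf u)]
        exact Nat.div_eq_of_eq_mul_left hpos (by omega)
      have htC : t ∈ centralizer ((P : Subgroup G) : Set G) := hKC (K.pow_mem hu _)
      obtain ⟨k, hk1, hk2, hk3⟩ := involution_fix_data hG P hP t hto htC
      rw [hidx] at hk2 hk3
      have hft : Nat.card (fixedBy (G ⧸ normalizer ((P : Subgroup G) : Set G)) t) = 1 := by
        omega
      have hsub : fixedBy (G ⧸ normalizer ((P : Subgroup G) : Set G)) u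
          ⊆ fixedBy (G ⧸ normalizer ((P : Subgroup G) : Set G)) t := by
        have := fixedBy_subset_fixedBy_zpow (G ⧸ normalizer ((P : Subgroup G) : Set G)) u
          ((orderOf u / 2 : ℕ) : ℤ)
        rwa [zpow_natCast] at this
      have hle : Nat.card (fixedBy (G ⧸ normalizer ((P : Subgroup G) : Set G)) u) ≤ 1 := by
        rw [← hft]
        exact Nat.card_mono (Set.toFinite _) hsub
      have hmod := card_fixedBy_mod_of_mem_centralizer P hP u (hKC hu)
      omega
    have := index_modEq_one_of_cent_subgroup P K hKC hfix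
    rw [hidx, hK] at this
    unfold Nat.ModEq at this
    omega
  · -- n = 144
    rw [hn] at hNn
    have hN : Nat.card (normalizer ((P : Subgroup G) : Set G)) = 55 := by omega
    refine ⟨?_, hN⟩
    rw [hN] at hCN
    rcases hr with h' | h' | h' <;> rw [h'] at hCN <;> omega

end Cfsg.Agent.Lib.Helper68.M11Syl
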