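import Mathlib
import Cfsg.Agent.Lib.Helper68.M11Syl
import Cfsg.Agent.Lib.Helper68.M11Inv
import Cfsg.Agent.Lib.Helper17.FixedPoints

/-!
Order 7920: if the simple group has an irreducible character of degree 10, a Sylow
5-subgroup is self-centralizing with normalizer of order 20.
-/

set_option autoImplicit false
set_option linter.style.haveILetI false

namespace Cfsg.Agent.Lib.Helper68.M11Syl5

open Cfsg Subgroup MulAction
open Cfsg.Agent.Lib.Helper17.Sylow Cfsg.Agent.Lib.Helper17.Sylow2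
open Cfsg.Agent.Lib.Helper17.CentFix Cfsg.Agent.Lib.Helper17.FixedPoints
open Cfsg.Agent.Lib.Helper17.ExcSimple

universe u

theorem key5 : ∀ c ∈ Nat.divisors 7920, c % 2 = 1 → c % 5 = 0 → c % 11 ≠ 0 →
    ((7920 / (c * 2)) % 5 ≠ 1) ∧ ((7920 / (c * 4)) % 5 = 1 → c = 5) := by
  decide +kernel

theorem fact7920 : (7920 : ℕ).factorization 5 = 1 := by
  have h : (7920 : ℕ) = 5 ^ 1 * 1584 := by norm_num
  rw [h, Nat.factorization_mul (by norm_num) (by norm_num), Nat.Prime.factorization_pow (by norm_num)]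
  simp
  exact Nat.factorization_eq_zero_of_not_dvd (by norm_num)

theorem sylow5 {G : Type u} [Group G] [Finite G] [IsSimpleGroup G] (hG : ¬ IsMulCommutative G)
    (h : Nat.card G = 7920) (χ : IrrCharacter G) (hdeg : charDegree (χ : G → ℂ) = 10)
    (Q : Sylow 5 G) :
    Nat.card (Q : Subgroup G) = 5 ∧ Nat.card (centralizer ((Q : Subgroup G) : Set G)) = 5 ∧
    Nat.card (normalizer ((Q : Subgroup G) : Set G)) = 20 := by
  haveI : Fact (Nat.Prime 11) := ⟨by norm_num⟩
  haveI : Fact (Nat.Prime 5) := ⟨by norm_num⟩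
  haveI : Fact (Nat.Prime 2) := ⟨by norm_num⟩
  have hQ : Nat.card (Q : Subgroup G) = 5 := by
    have := card_sylow_subgroup (p := 5) (k := 1) (m := 1584) (h.trans (by norm_num))
      (by norm_num) Q
    simpa using this
  refine ⟨hQ, ?_⟩
  obtain ⟨r, hr1, hr4, hCN, h5C⟩ := sylow_prime_centralizer hG Q hQ
  have hNn := card_normalizer_mul_card_sylow Q
  rw [h] at hNn
  have hn_mod := card_sylow_mod (G := G) 5
  have h5 : (Nat.card G).factorization 5 = 1 := by rw [h]; exact fact7920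
  obtain ⟨x, hxQ, hx5⟩ := exists_mem_orderOf_eq_prime (Q : Subgroup G) 5 (by rw [hQ])
  -- the centralizer has odd order
  have hodd : Nat.card (centralizer ((Q : Subgroup G) : Set G)) % 2 = 1 := by
    by_contra hcon
    have h2 : 2 ∣ Nat.card (centralizer ((Q : Subgroup G) : Set G)) := by omega
    obtain ⟨t, htC, ht2⟩ := exists_mem_orderOf_eq_prime
      (centralizer ((Q : Subgroup G) : Set G)) 2 h2
    have hcomm : Commute x t := (Subgroup.mem_centralizer_iff.mp htC x hxQ)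
    exact Cfsg.Agent.Lib.Helper68.M11Inv.no_invol_five hG h5 χ hdeg x t hx5 ht2 hcomm
  -- the centralizer has order prime to 11
  have h11 : Nat.card (centralizer ((Q : Subgroup G) : Set G)) % 11 ≠ 0 := by
    intro hcon
    have h2 : 11 ∣ Nat.card (centralizer ((Q : Subgroup G) : Set G)) := by omega
    obtain ⟨w, hwC, hw11⟩ := exists_mem_orderOf_eq_prime
      (centralizer ((Q : Subgroup G) : Set G)) 11 h2
    have hcomm : Commute x w := (Subgroup.mem_centralizer_iff.mp hwC x hxQ)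
    obtain ⟨P₀⟩ : Nonempty (Sylow 11 G) := inferInstance
    obtain ⟨hP₀, -, -⟩ := Cfsg.Agent.Lib.Helper68.M11Syl.sylow11 hG h P₀
    obtain ⟨Y, hY⟩ := exists_sylow_eq_zpowers P₀ hP₀ w hw11
    obtain ⟨-, hCY, -⟩ := Cfsg.Agent.Lib.Helper68.M11Syl.sylow11 hG h Y
    have hxC : x ∈ centralizer ((Y : Subgroup G) : Set G) := by
      rw [hY, Subgroup.mem_centralizer_iff]
      intro g hg
      obtain ⟨k, rfl⟩ := Subgroup.mem_zpowers_iff.mp hg
      exact (hcomm.symm.zpow_left k).eq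
    have := orderOf_dvd_card_of_mem hxC
    rw [hCY, hx5] at this
    omega
  have hr : r = 2 ∨ r = 4 := by
    have h1 : r ∣ 4 := hr4
    have h2 : r ∈ Nat.divisors 4 := Nat.mem_divisors.mpr ⟨h1, by norm_num⟩
    have h3 : ∀ r ∈ Nat.divisors 4, r = 1 ∨ r = 2 ∨ r = 4 := by decide
    rcases h3 r h2 with h' | h' | h'
    · exact absurd h' hr1
    · exact Or.inl h'
    · exact Or.inr h'
  obtain ⟨c, hc⟩ : ∃ c : ℕ, c = Nat.card (centralizer ((Q : Subgroup G) : Set G)) := ⟨_, rfl⟩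
  obtain ⟨n, hn⟩ : ∃ n : ℕ, n = Nat.card (Sylow 5 G) := ⟨_, rfl⟩
  rw [← hc] at hodd h11 hCN h5C
  rw [← hn] at hNn hn_mod
  rw [← hCN] at hNn
  have hcdvd : c ∈ Nat.divisors 7920 :=
    Nat.mem_divisors.mpr ⟨⟨r * n, by rw [← hNn]; ring⟩, by norm_num⟩
  have hc5 : c % 5 = 0 := Nat.mod_eq_zero_of_dvd h5C
  obtain ⟨k1, k2⟩ := key5 c hcdvd hodd hc5 h11
  have hcpos : 0 < c := Nat.pos_of_mem_divisors hcdvd
  rcases hr with h' | h'
  · exfalso
    rw [h'] at hNn
    have : n = 7920 / (c * 2) := (Nat.div_eq_of_eq_mul_right (by omega) hNn.symm).symm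
    rw [this] at hn_mod
    exact k1 hn_mod
  · rw [h'] at hNn hCN
    have : n = 7920 / (c * 4) := (Nat.div_eq_of_eq_mul_right (by omega) hNn.symm).symm
    rw [this] at hn_mod
    have hc5' := k2 hn_mod
    exact ⟨by rw [← hc, hc5'], by rw [← hCN, hc5']⟩

end Cfsg.Agent.Lib.Helper68.M11Syl5
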