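import Mathlib
import Cfsg.Agent.Lib.Helper68.M11Syl5
import Cfsg.Agent.Lib.Helper68.M11Exc
import Cfsg.Agent.Lib.Helper68.M11Num
import Cfsg.Agent.Lib.Helper68.M11Comb
import Cfsg.Agent.Lib.Helper69.FullExc
import Cfsg.Agent.Lib.Helper69.O4320c
import Cfsg.Agent.Lib.Helper80.Integrality

/-!
The irreducible character degrees of a simple group of order `7920`:
`1, 10, 10, 10, 11, 16, 16, 44, 45, 55`.
-/

set_option autoImplicit false
set_option linter.style.haveILetI false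
set_option maxHeartbeats 1600000

namespace Cfsg.Agent.Lib.Helper68.M11Deg

open Cfsg Subgroup
open Cfsg.Agent.Lib.CT.Orth Cfsg.Agent.Lib.CT.Wedderburn
open Cfsg.Agent.Lib.Helper17.ExcMain Cfsg.Agent.Lib.Helper17.ExcCor
open Cfsg.Agent.Lib.Helper17.ExcSimple Cfsg.Agent.Lib.Helper17.Sylow
open Cfsg.Agent.Lib.Helper68.M11Num Cfsg.Agent.Lib.Helper68.M11Comb
open Cfsg.Agent.Lib.Helper68.M11Exc
open scoped ComplexConjugate

universe u

/-- The data at the prime `5`: integer values `c ψ` on the elements of order `5`. -/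
theorem five_data {G : Type u} [Group G] [Fintype G] [IsSimpleGroup G]
    (hG : ¬ IsMulCommutative G) (h : Nat.card G = 7920) [Fintype (IrrCharacter G)]
    (χ : IrrCharacter G) (hdeg : charDegree (χ : G → ℂ) = 10) :
    ∃ c : IrrCharacter G → ℤ, c (trivIrr G) = 1 ∧ ∑ ψ, c ψ ^ 2 = 5 ∧
      (∀ ψ : IrrCharacter G, ∃ m : ℤ, (charDegree (ψ : G → ℂ) : ℤ) + 4 * c ψ = 5 * m) ∧
      (∀ ψ : IrrCharacter G, -2 ≤ c ψ ∧ c ψ ≤ 2) ∧
      ∑ ψ : IrrCharacter G, (charDegree (ψ : G → ℂ) : ℤ) * c ψ = 0 := by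
  classical
  obtain ⟨Q⟩ : Nonempty (Sylow 5 G) := inferInstance
  obtain ⟨hQ, hCQ, hNQ⟩ := Cfsg.Agent.Lib.Helper68.M11Syl5.sylow5 hG h χ hdeg Q
  have hp5 : Nat.Prime 5 := by norm_num
  have hCle := centralizer_le_of_card (Q : Subgroup G) hp5 hQ hCQ
  obtain ⟨c, hcval, hcT, hc5, hcm⟩ :=
    Cfsg.Agent.Lib.Helper69.FullExc.full_exc (Q : Subgroup G) hp5 hQ hCle (by rw [hNQ])
  obtain ⟨z, hzQ, hz1⟩ := exists_mem_ne_one (Q : Subgroup G) hp5 hQ
  have horth : ∑ ψ : IrrCharacter G, (ψ : G → ℂ) 1 * conj ((ψ : G → ℂ) z) = 0 :=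
    second_orthogonality_sum_of_not_isConj (1 : G) z
      (fun hc => hz1 (isConj_one_left.mp hc.symm))
  refine ⟨c, hcT, by exact_mod_cast hc5, ?_, ?_, ?_⟩
  · intro ψ
    obtain ⟨m, hm⟩ := hcm ψ
    refine ⟨m, ?_⟩
    push_cast at hm
    linarith
  · intro ψ
    have h1 : c ψ ^ 2 ≤ ∑ ψ, c ψ ^ 2 :=
      Finset.single_le_sum (f := fun j => c j ^ 2) (fun j _ => sq_nonneg (c j))
        (Finset.mem_univ ψ)
    rw [hc5] at h1
    push_cast at h1
    constructor <;> nlinarith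
  · have h2 : ((∑ ψ : IrrCharacter G, (charDegree (ψ : G → ℂ) : ℤ) * c ψ : ℤ) : ℂ) = 0 := by
      rw [← horth]
      push_cast
      refine Finset.sum_congr rfl (fun ψ _ => ?_)
      rw [hcval ψ z hzQ hz1, deg_eq, map_intCast]
    exact_mod_cast h2

/-- The irreducible characters of a simple group of order `7920`: besides the trivial
character there are exactly nine, of degrees `45, 10, 10, 10, 16, 16, 11, 44, 55`. -/
theorem degrees {G : Type u} [Group G] [Finite G] [IsSimpleGroup G] (h : Nat.card G = 7920)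
    [Fintype (IrrCharacter G)] [DecidableEq (IrrCharacter G)] :
    ∃ (a₁ a₂ a₃ a₄ θ₀ θ₁ α β r : IrrCharacter G),
      charDegree (a₁ : G → ℂ) = 45 ∧ charDegree (a₂ : G → ℂ) = 10 ∧
      charDegree (a₃ : G → ℂ) = 10 ∧ charDegree (a₄ : G → ℂ) = 10 ∧
      charDegree (θ₀ : G → ℂ) = 16 ∧ charDegree (θ₁ : G → ℂ) = 16 ∧
      charDegree (α : G → ℂ) = 11 ∧ charDegree (β : G → ℂ) = 44 ∧
      charDegree (r : G → ℂ) = 55 ∧
      ∀ F : IrrCharacter G → ℕ, ∑ ψ, F ψ
        = F (trivIrr G) + (F a₁ + F a₂ + F a₃ + F a₄) + (F θ₀ + F θ₁) + (F α + F β) + F r := by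
  haveI : Fintype G := Fintype.ofFinite G
  have hG : ¬ IsMulCommutative G := not_comm_of_not_prime (by rw [h]; norm_num)
  obtain ⟨P⟩ : Nonempty (Sylow 11 G) := inferInstance
  obtain ⟨hP, hCP, hNP⟩ := Cfsg.Agent.Lib.Helper68.M11Syl.sylow11 hG h P
  have hp11 : Nat.Prime 11 := by norm_num
  have hCle := centralizer_le_of_card (P : Subgroup G) hp11 hP hCP
  obtain ⟨θ, M, η, hθinj, hMT, hθT, hMθ, hM5, hη, hdeg, hval, hθd, hdegeq⟩ :=
    exc11 (P : Subgroup G) hP hCle (by rw [hNP])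
  obtain ⟨y, hyP, hy1⟩ := exists_mem_ne_one (P : Subgroup G) hp11 hP
  obtain ⟨T, hT⟩ : ∃ T, T = trivIrr G := ⟨_, rfl⟩
  rw [← hT] at hMT hθT
  have hdT : charDegree (T : G → ℂ) = 1 := by rw [hT]; exact charDegree_trivIrr
  have hsqsum : ∑ ψ : IrrCharacter G, charDegree (ψ : G → ℂ) ^ 2 = 7920 := by
    rw [sum_charDegree_sq_sum, h]
  have hdvd : ∀ ψ : IrrCharacter G, charDegree (ψ : G → ℂ) ∈ Nat.divisors 7920 := fun ψ =>
    Nat.mem_divisors.mpr
      ⟨by rw [← h]; exact Cfsg.Agent.Lib.Helper80.Integrality.charDegree_dvd_card ψ,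
        by norm_num⟩
  have hlt : ∀ ψ : IrrCharacter G, ψ ≠ T →
      charDegree (ψ : G → ℂ) * charDegree (ψ : G → ℂ) < 7920 := by
    intro ψ hψ
    have h1 : charDegree (T : G → ℂ) ^ 2
        + ∑ φ ∈ Finset.univ.erase T, charDegree (φ : G → ℂ) ^ 2 = 7920 := by
      rw [← hsqsum]
      exact Finset.add_sum_erase Finset.univ
        (fun φ : IrrCharacter G => charDegree (φ : G → ℂ) ^ 2) (Finset.mem_univ T)
    have h2 : charDegree (ψ : G → ℂ) ^ 2
        ≤ ∑ φ ∈ Finset.univ.erase T, charDegree (φ : G → ℂ) ^ 2 :=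
      Finset.single_le_sum (f := fun φ : IrrCharacter G => charDegree (φ : G → ℂ) ^ 2)
        (fun _ _ => Nat.zero_le _) (Finset.mem_erase.mpr ⟨hψ, Finset.mem_univ ψ⟩)
    rw [hdT] at h1
    rw [← sq]
    omega
  obtain ⟨S, hS⟩ : ∃ S, S = (Finset.univ.erase T).filter (fun ψ => M ψ ≠ 0) := ⟨_, rfl⟩
  obtain ⟨W, hW⟩ : ∃ W, W = ((Finset.univ.erase T).filter (fun ψ => ¬ M ψ ≠ 0)).filter
      (fun ψ => ∀ i, θ i ≠ ψ) := ⟨_, rfl⟩
  have hmaster : ∀ (R : Type) [AddCommMonoid R] (F : IrrCharacter G → R),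
      ∑ ψ, F ψ = F T + ∑ ψ ∈ S, F ψ + (F (θ 0) + F (θ 1)) + ∑ ψ ∈ W, F ψ := by
    intro R _ F
    rw [hS, hW]
    exact master_split T θ hθinj hθT M hMθ F
  have hSmem : ∀ ψ ∈ S, ψ ≠ T ∧ M ψ ≠ 0 ∧ ∀ i, θ i ≠ ψ := by
    intro ψ hψ
    rw [hS, Finset.mem_filter, Finset.mem_erase] at hψ
    exact ⟨hψ.1.1, hψ.2, fun i hi => hψ.2 (by rw [← hi]; exact hMθ i)⟩
  have hWmem : ∀ ψ ∈ W, ψ ≠ T ∧ M ψ = 0 ∧ ∀ i, θ i ≠ ψ := by
    intro ψ hψ
    rw [hW, Finset.mem_filter, Finset.mem_filter, Finset.mem_erase] at hψ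
    exact ⟨hψ.1.1.1, not_not.mp hψ.1.2, hψ.2⟩
  have hSsum : ∑ ψ ∈ S, M ψ ^ 2 = 4 := by
    have h1 := hmaster ℤ (fun ψ => M ψ ^ 2)
    have h2 : ∑ ψ ∈ W, M ψ ^ 2 = 0 :=
      Finset.sum_eq_zero (fun ψ hψ => by rw [(hWmem ψ hψ).2.1]; norm_num)
    rw [hM5] at h1
    simp only [hMT, hMθ, h2] at h1
    linarith
  have hdeg_split : (1 : ℤ) + ∑ ψ ∈ S, (charDegree (ψ : G → ℂ) : ℤ) * M ψ
      = η * charDegree ((θ 0 : IrrCharacter G) : G → ℂ) := by
    have h1 := hmaster ℤ (fun ψ => (charDegree (ψ : G → ℂ) : ℤ) * M ψ)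
    have h2 : ∑ ψ ∈ W, (charDegree (ψ : G → ℂ) : ℤ) * M ψ = 0 :=
      Finset.sum_eq_zero (fun ψ hψ => by rw [(hWmem ψ hψ).2.1, mul_zero])
    rw [hdegeq] at h1
    simp only [hMT, hMθ, h2, hdT] at h1
    push_cast at h1
    linarith
  have hdθpos : 0 < charDegree ((θ 0 : IrrCharacter G) : G → ℂ) := irr_charDegree_pos (θ 0).2
  have hdθdvd := hdvd (θ 0)
  rcases Cfsg.Agent.Lib.Helper69.O4320c.four_cases S M (fun ψ hψ => (hSmem ψ hψ).2.1) hSsum with
    ⟨χ, hSχ, hMχ⟩ | ⟨a, b, d, e, hab, had, hae, hbd, hbe, hde, hSeq, hMa, hMb, hMd, hMe⟩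
  · -- a single character with value ±2 on the elements of order 11: impossible
    exfalso
    have hχS : χ ∈ S := by rw [hSχ]; exact Finset.mem_singleton_self χ
    obtain ⟨hχT, -, hχθ⟩ := hSmem χ hχS
    obtain ⟨k, hk⟩ := hdeg χ hχθ
    rw [hSχ, Finset.sum_singleton] at hdeg_split
    have hχdvd := hdvd χ
    obtain ⟨t1, t2⟩ := two_case _ hχdvd
    rcases hMχ with hM2 | hM2
    · rw [hM2] at hk hdeg_split
      have hmod : charDegree (χ : G → ℂ) % 11 = 2 := by omega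
      have hdiv : (1 + 2 * charDegree (χ : G → ℂ)) ∣ 7920 := by
        rcases hη with h' | h'
        · rw [h'] at hdeg_split
          have : 1 + 2 * charDegree (χ : G → ℂ)
              = charDegree ((θ 0 : IrrCharacter G) : G → ℂ) := by omega
          rw [this]
          exact Nat.dvd_of_mem_divisors hdθdvd
        · rw [h'] at hdeg_split
          omega
      have hd2 := t1 hmod hdiv
      have hχy : (χ : G → ℂ) y = (χ : G → ℂ) 1 := by
        rw [hval χ hχθ y hyP hy1, deg_eq, hd2, hM2]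
        norm_num
      exact hy1 (Cfsg.Agent.Lib.Helper17.EvenInv.faithful_of_simple hG χ
        (by rw [← hT]; exact hχT) y hχy)
    · rw [hM2] at hk hdeg_split
      have hmod : charDegree (χ : G → ℂ) % 11 = 9 := by omega
      have hdiv : (2 * charDegree (χ : G → ℂ) - 1) ∣ 7920 := by
        rcases hη with h' | h'
        · rw [h'] at hdeg_split
          omega
        · rw [h'] at hdeg_split
          have : 2 * charDegree (χ : G → ℂ) - 1
              = charDegree ((θ 0 : IrrCharacter G) : G → ℂ) := by omega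
          rw [this]
          exact Nat.dvd_of_mem_divisors hdθdvd
      exact t2 hmod hdiv
  · have haS : a ∈ S := by rw [hSeq]; simp
    have hbS : b ∈ S := by rw [hSeq]; simp
    have hdS : d ∈ S := by rw [hSeq]; simp
    have heS : e ∈ S := by rw [hSeq]; simp
    have hfacts : ∀ s ∈ S, (M s = 1 ∨ M s = -1) →
        M s * (charDegree (s : G → ℂ) : ℤ) ∈ L ∧
        ((M s * (charDegree (s : G → ℂ) : ℤ) = 12 → charDegree (s : G → ℂ) = 12) ∧
         (M s * (charDegree (s : G → ℂ) : ℤ) = 45 → charDegree (s : G → ℂ) = 45) ∧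
         (M s * (charDegree (s : G → ℂ) : ℤ) = -10 → charDegree (s : G → ℂ) = 10)) := by
      intro s hs hMs
      obtain ⟨hsT, -, hsθ⟩ := hSmem s hs
      obtain ⟨k, hk⟩ := hdeg s hsθ
      exact mem_L _ _ (hdvd s) (charDegree_ne_one hG s (by rw [← hT]; exact hsT)) (hlt s hsT)
        hMs k hk
    have hsqM : ∀ s : IrrCharacter G, (M s = 1 ∨ M s = -1) →
        M s * (charDegree (s : G → ℂ) : ℤ) * (M s * (charDegree (s : G → ℂ) : ℤ))
          = ((charDegree (s : G → ℂ) ^ 2 : ℕ) : ℤ) := by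
      intro s hMs
      rcases hMs with h' | h' <;> rw [h'] <;> push_cast <;> ring
    obtain ⟨hLa, ha12, ha45, ha10⟩ := hfacts a haS hMa
    obtain ⟨hLb, hb12, hb45, hb10⟩ := hfacts b hbS hMb
    obtain ⟨hLd, hd12, hd45, hd10⟩ := hfacts d hdS hMd
    obtain ⟨hLe, he12, he45, he10⟩ := hfacts e heS hMe
    rw [hSeq, sum_four a b d e hab had hae hbd hbe hde] at hdeg_split
    have hsq7 : 1 + (charDegree (a : G → ℂ) ^ 2 + charDegree (b : G → ℂ) ^ 2
        + charDegree (d : G → ℂ) ^ 2 + charDegree (e : G → ℂ) ^ 2)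
        + 2 * charDegree ((θ 0 : IrrCharacter G) : G → ℂ) ^ 2
        + ∑ ψ ∈ W, charDegree (ψ : G → ℂ) ^ 2 = 7920 := by
      have h1 := hmaster ℕ (fun ψ => charDegree (ψ : G → ℂ) ^ 2)
      rw [hsqsum, hSeq, sum_four a b d e hab had hae hbd hbe hde] at h1
      simp only [hdT, hθd 1 0] at h1
      omega
    have hθ62 : charDegree ((θ 0 : IrrCharacter G) : G → ℂ) ≤ 62 := by
      by_contra hcon
      push Not at hcon
      have : 63 * 63 ≤ charDegree ((θ 0 : IrrCharacter G) : G → ℂ) ^ 2 := by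
        rw [sq]
        exact Nat.mul_le_mul hcon hcon
      omega
    have hθD := mem_Dθ _ hdθdvd hθ62
    have hbound : 1 + M a * (charDegree (a : G → ℂ) : ℤ) * (M a * (charDegree (a : G → ℂ) : ℤ))
        + M b * (charDegree (b : G → ℂ) : ℤ) * (M b * (charDegree (b : G → ℂ) : ℤ))
        + M d * (charDegree (d : G → ℂ) : ℤ) * (M d * (charDegree (d : G → ℂ) : ℤ))
        + M e * (charDegree (e : G → ℂ) : ℤ) * (M e * (charDegree (e : G → ℂ) : ℤ))
        + 2 * ((charDegree ((θ 0 : IrrCharacter G) : G → ℂ) : ℤ)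
          * (charDegree ((θ 0 : IrrCharacter G) : G → ℂ) : ℤ)) ≤ 7920 := by
      rw [hsqM a hMa, hsqM b hMb, hsqM d hMd, hsqM e hMe]
      have h1 : 1 + (charDegree (a : G → ℂ) ^ 2 + charDegree (b : G → ℂ) ^ 2
        + charDegree (d : G → ℂ) ^ 2 + charDegree (e : G → ℂ) ^ 2)
        + 2 * charDegree ((θ 0 : IrrCharacter G) : G → ℂ) ^ 2 ≤ 7920 := by omega
      have h2 : ((1 + (charDegree (a : G → ℂ) ^ 2 + charDegree (b : G → ℂ) ^ 2
        + charDegree (d : G → ℂ) ^ 2 + charDegree (e : G → ℂ) ^ 2)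
        + 2 * charDegree ((θ 0 : IrrCharacter G) : G → ℂ) ^ 2 : ℕ) : ℤ) ≤ 7920 := by
        exact_mod_cast h1
      push_cast at h2 ⊢
      nlinarith
    have heq : 1 + M a * (charDegree (a : G → ℂ) : ℤ) + M b * (charDegree (b : G → ℂ) : ℤ)
        + M d * (charDegree (d : G → ℂ) : ℤ) + M e * (charDegree (e : G → ℂ) : ℤ)
          = (charDegree ((θ 0 : IrrCharacter G) : G → ℂ) : ℤ) ∨
        1 + M a * (charDegree (a : G → ℂ) : ℤ) + M b * (charDegree (b : G → ℂ) : ℤ)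
        + M d * (charDegree (d : G → ℂ) : ℤ) + M e * (charDegree (e : G → ℂ) : ℤ)
          = -(charDegree ((θ 0 : IrrCharacter G) : G → ℂ) : ℤ) := by
      rcases hη with h' | h' <;> rw [h'] at hdeg_split
      · left; linarith
      · right; linarith
    rcases numeric11 _ hLa _ hLb _ hLd _ hLe _ hθD heq hbound with
      ⟨ht16, hperm⟩ | ⟨ht5, h12, h10⟩
    · -- the case of the Mathieu group
      obtain ⟨a₁, a₂, a₃, a₄, h12', h13', h14', h23', h24', h34', hSeq', hd1, hd2, hd3, hd4⟩ :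
          ∃ a₁ a₂ a₃ a₄ : IrrCharacter G, a₁ ≠ a₂ ∧ a₁ ≠ a₃ ∧ a₁ ≠ a₄ ∧ a₂ ≠ a₃ ∧ a₂ ≠ a₄ ∧
            a₃ ≠ a₄ ∧ S = {a₁, a₂, a₃, a₄} ∧ charDegree (a₁ : G → ℂ) = 45 ∧
            charDegree (a₂ : G → ℂ) = 10 ∧ charDegree (a₃ : G → ℂ) = 10 ∧
            charDegree (a₄ : G → ℂ) = 10 := by
        rcases hperm with ⟨h1, h2, h3, h4⟩ | ⟨h1, h2, h3, h4⟩ | ⟨h1, h2, h3, h4⟩ |
          ⟨h1, h2, h3, h4⟩
        · exact ⟨a, b, d, e, hab, had, hae, hbd, hbe, hde, hSeq, ha45 h1, hb10 h2, hd10 h3,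
            he10 h4⟩
        · refine ⟨b, a, d, e, hab.symm, hbd, hbe, had, hae, hde, ?_, hb45 h2, ha10 h1, hd10 h3,
            he10 h4⟩
          rw [hSeq]
          exact perm1 a b d e
        · refine ⟨d, a, b, e, had.symm, hbd.symm, hde, hab, hae, hbe, ?_, hd45 h3, ha10 h1,
            hb10 h2, he10 h4⟩
          rw [hSeq]
          exact perm2 a b d e
        · refine ⟨e, a, b, d, hae.symm, hbe.symm, hde.symm, hab, had, hbd, ?_, he45 h4, ha10 h1,
            hb10 h2, hd10 h3⟩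
          rw [hSeq]
          exact perm3 a b d e
      have hdθ16 : charDegree ((θ 0 : IrrCharacter G) : G → ℂ) = 16 := by exact_mod_cast ht16
      have hdθ16' : charDegree ((θ 1 : IrrCharacter G) : G → ℂ) = 16 := by
        rw [hθd 1 0, hdθ16]
      obtain ⟨c, hcT, hc5, hcm, hcb, hcorth⟩ := five_data hG h a₂ hd2
      rw [← hT] at hcT
      have hc0 : ∀ ψ : IrrCharacter G, 5 ∣ charDegree (ψ : G → ℂ) → c ψ = 0 := by
        intro ψ h5
        obtain ⟨m, hm⟩ := hcm ψ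
        obtain ⟨hlo, hhi⟩ := hcb ψ
        omega
      have hc16 : ∀ ψ : IrrCharacter G, charDegree (ψ : G → ℂ) = 16 → c ψ = 1 := by
        intro ψ h16
        obtain ⟨m, hm⟩ := hcm ψ
        obtain ⟨hlo, hhi⟩ := hcb ψ
        rw [h16] at hm
        omega
      have hca1 := hc0 a₁ (by rw [hd1]; norm_num)
      have hca2 := hc0 a₂ (by rw [hd2]; norm_num)
      have hca3 := hc0 a₃ (by rw [hd3]; norm_num)
      have hca4 := hc0 a₄ (by rw [hd4]; norm_num)
      have hcθ0 := hc16 (θ 0) hdθ16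
      have hcθ1 := hc16 (θ 1) hdθ16'
      have hWc : ∑ ψ ∈ W, c ψ ^ 2 = 2 := by
        have h1 := hmaster ℤ (fun ψ => c ψ ^ 2)
        rw [hc5, hSeq', sum_four a₁ a₂ a₃ a₄ h12' h13' h14' h23' h24' h34'] at h1
        simp only [hcT, hca1, hca2, hca3, hca4, hcθ0, hcθ1] at h1
        linarith
      obtain ⟨S', hS'⟩ : ∃ S', S' = W.filter (fun ψ => c ψ ≠ 0) := ⟨_, rfl⟩
      obtain ⟨R, hR⟩ : ∃ R, R = W.filter (fun ψ => ¬ c ψ ≠ 0) := ⟨_, rfl⟩
      have hWsplit : ∀ (X : Type) [AddCommMonoid X] (F : IrrCharacter G → X),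
          ∑ ψ ∈ W, F ψ = ∑ ψ ∈ S', F ψ + ∑ ψ ∈ R, F ψ := by
        intro X _ F
        rw [hS', hR]
        exact (Finset.sum_filter_add_sum_filter_not W (fun ψ => c ψ ≠ 0) F).symm
      have hS'mem : ∀ ψ ∈ S', ψ ∈ W ∧ c ψ ≠ 0 := by
        intro ψ hψ
        rw [hS', Finset.mem_filter] at hψ
        exact hψ
      have hRmem : ∀ ψ ∈ R, ψ ∈ W ∧ c ψ = 0 := by
        intro ψ hψ
        rw [hR, Finset.mem_filter] at hψ
        exact ⟨hψ.1, not_not.mp hψ.2⟩
      have hS'c : ∑ ψ ∈ S', c ψ ^ 2 = 2 := by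
        have h1 := hWsplit ℤ (fun ψ => c ψ ^ 2)
        have h2 : ∑ ψ ∈ R, c ψ ^ 2 = 0 :=
          Finset.sum_eq_zero (fun ψ hψ => by rw [(hRmem ψ hψ).2]; norm_num)
        rw [hWc, h2] at h1
        linarith
      obtain ⟨α, β, hαβ, hS'eq, hcα, hcβ⟩ :=
        two_cases S' c (fun ψ hψ => (hS'mem ψ hψ).2) hS'c
      have hαS' : α ∈ S' := by rw [hS'eq]; simp
      have hβS' : β ∈ S' := by rw [hS'eq]; simp
      have hW11 : ∀ ψ ∈ W, 11 ∣ charDegree (ψ : G → ℂ) := by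
        intro ψ hψ
        obtain ⟨-, hM0, hψθ⟩ := hWmem ψ hψ
        obtain ⟨k, hk⟩ := hdeg ψ hψθ
        rw [hM0] at hk
        omega
      have hWfacts : ∀ ψ ∈ W,
          (c ψ = 1 → charDegree (ψ : G → ℂ) = 11 ∨ charDegree (ψ : G → ℂ) = 66) ∧
          (c ψ = -1 → charDegree (ψ : G → ℂ) = 44) := by
        intro ψ hψ
        obtain ⟨m, hm⟩ := hcm ψ
        obtain ⟨k1, k2⟩ := deg_cases5 _ (hdvd ψ) (hW11 ψ hψ) (hlt ψ (hWmem ψ hψ).1)
        constructor
        · intro hc1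
          rw [hc1] at hm
          exact k1 (by omega)
        · intro hc1
          rw [hc1] at hm
          exact k2 (by omega)
      have horth2 : (charDegree (α : G → ℂ) : ℤ) * c α + (charDegree (β : G → ℂ) : ℤ) * c β
          = -33 := by
        have h1 := hmaster ℤ (fun ψ => (charDegree (ψ : G → ℂ) : ℤ) * c ψ)
        have h2 := hWsplit ℤ (fun ψ => (charDegree (ψ : G → ℂ) : ℤ) * c ψ)
        have h3 : ∑ ψ ∈ R, (charDegree (ψ : G → ℂ) : ℤ) * c ψ = 0 :=
          Finset.sum_eq_zero (fun ψ hψ => by rw [(hRmem ψ hψ).2, mul_zero])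
        rw [hcorth, hSeq', sum_four a₁ a₂ a₃ a₄ h12' h13' h14' h23' h24' h34', h2, h3, hS'eq,
          Finset.sum_pair hαβ] at h1
        simp only [hcT, hca1, hca2, hca3, hca4, hcθ0, hcθ1, hdT, hdθ16, hdθ16'] at h1
        push_cast at h1
        linarith
      obtain ⟨hα1, hα2⟩ := hWfacts α (hS'mem α hαS').1
      obtain ⟨hβ1, hβ2⟩ := hWfacts β (hS'mem β hβS').1
      obtain ⟨α', β', hαβ', hS'eq', hdα, hdβ⟩ : ∃ α' β' : IrrCharacter G, α' ≠ β' ∧
          S' = {α', β'} ∧ charDegree (α' : G → ℂ) = 11 ∧ charDegree (β' : G → ℂ) = 44 := by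
        rcases hcα with h1 | h1 <;> rcases hcβ with h2 | h2
        · exfalso
          rw [h1, h2] at horth2
          omega
        · have hb := hβ2 h2
          rw [h1, h2, hb] at horth2
          have ha : charDegree (α : G → ℂ) = 11 := by omega
          exact ⟨α, β, hαβ, hS'eq, ha, hb⟩
        · have ha := hα2 h1
          rw [h1, h2, ha] at horth2
          have hb : charDegree (β : G → ℂ) = 11 := by omega
          refine ⟨β, α, hαβ.symm, ?_, hb, ha⟩
          rw [hS'eq]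
          exact Finset.pair_comm α β
        · exfalso
          have ha := hα2 h1
          have hb := hβ2 h2
          rw [h1, h2, ha, hb] at horth2
          norm_num at horth2
      have hR55 : ∀ ψ ∈ R, charDegree (ψ : G → ℂ) = 55 := by
        intro ψ hψ
        obtain ⟨hψW, hc0'⟩ := hRmem ψ hψ
        obtain ⟨m, hm⟩ := hcm ψ
        rw [hc0'] at hm
        have h5 : 5 ∣ charDegree (ψ : G → ℂ) := by omega
        have h11 := hW11 ψ hψW
        have h55 : 55 ∣ charDegree (ψ : G → ℂ) :=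
          Nat.Coprime.mul_dvd_of_dvd_of_dvd (by norm_num : Nat.Coprime 5 11) h5 h11
        exact deg55 _ (hdvd ψ) h55 (le_of_lt (hlt ψ (hWmem ψ hψW).1))
      have hRcard : R.card = 1 := by
        have h1 := hmaster ℕ (fun ψ => charDegree (ψ : G → ℂ) ^ 2)
        have h2 := hWsplit ℕ (fun ψ => charDegree (ψ : G → ℂ) ^ 2)
        have h3 : ∑ ψ ∈ R, charDegree (ψ : G → ℂ) ^ 2 = R.card * 3025 := by
          rw [Finset.sum_congr rfl (fun ψ hψ => by rw [hR55 ψ hψ]), Finset.sum_const,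
            smul_eq_mul]
          norm_num
        rw [hsqsum, hSeq', sum_four a₁ a₂ a₃ a₄ h12' h13' h14' h23' h24' h34', h2, h3, hS'eq',
          Finset.sum_pair hαβ'] at h1
        simp only [hdT, hd1, hd2, hd3, hd4, hdθ16, hdθ16', hdα, hdβ] at h1
        norm_num at h1
        omega
      obtain ⟨r, hRr⟩ := Finset.card_eq_one.mp hRcard
      have hdr : charDegree (r : G → ℂ) = 55 :=
        hR55 r (by rw [hRr]; exact Finset.mem_singleton_self r)
      refine ⟨a₁, a₂, a₃, a₄, θ 0, θ 1, α', β', r, hd1, hd2, hd3, hd4, hdθ16, hdθ16', hdα, hdβ,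
        hdr, ?_⟩
      intro F
      rw [hmaster ℕ F, hWsplit ℕ F, hSeq', sum_four a₁ a₂ a₃ a₄ h12' h13' h14' h23' h24' h34',
        hS'eq', Finset.sum_pair hαβ', hRr, Finset.sum_singleton, hT]
      ring
    · -- the degrees of `PSL(2, 11)`: impossible
      exfalso
      obtain ⟨x12, hx12S, hx12⟩ : ∃ s ∈ S, charDegree (s : G → ℂ) = 12 := by
        rcases h12 with h' | h' | h' | h'
        · exact ⟨a, haS, ha12 h'⟩
        · exact ⟨b, hbS, hb12 h'⟩
        · exact ⟨d, hdS, hd12 h'⟩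
        · exact ⟨e, heS, he12 h'⟩
      obtain ⟨x10, hx10S, hx10⟩ : ∃ s ∈ S, charDegree (s : G → ℂ) = 10 := by
        rcases h10 with h' | h' | h' | h'
        · exact ⟨a, haS, ha10 h'⟩
        · exact ⟨b, hbS, hb10 h'⟩
        · exact ⟨d, hdS, hd10 h'⟩
        · exact ⟨e, heS, he10 h'⟩
      obtain ⟨c, hcT, hc5, hcm, hcb, hcorth⟩ := five_data hG h x10 hx10
      rw [← hT] at hcT
      have hx12T := (hSmem x12 hx12S).1
      obtain ⟨m, hm⟩ := hcm x12
      obtain ⟨hlo, hhi⟩ := hcb x12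
      rw [hx12] at hm
      have hc12 : c x12 = 2 := by omega
      have h1 : c T ^ 2 + ∑ φ ∈ Finset.univ.erase T, c φ ^ 2 = 5 := by
        rw [← hc5]
        exact Finset.add_sum_erase Finset.univ (fun φ => c φ ^ 2) (Finset.mem_univ T)
      have hx12mem : x12 ∈ Finset.univ.erase T :=
        Finset.mem_erase.mpr ⟨hx12T, Finset.mem_univ _⟩
      have h2 : c x12 ^ 2 + ∑ φ ∈ (Finset.univ.erase T).erase x12, c φ ^ 2
          = ∑ φ ∈ Finset.univ.erase T, c φ ^ 2 :=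
        Finset.add_sum_erase (Finset.univ.erase T) (fun φ => c φ ^ 2) hx12mem
      rw [← h2, hcT, hc12] at h1
      have hzero : ∀ φ, φ ≠ T → φ ≠ x12 → c φ = 0 := by
        intro φ hφ1 hφ2
        apply forall_zero_of_sq_sum ((Finset.univ.erase T).erase x12) c (by linarith)
        exact Finset.mem_erase.mpr ⟨hφ2, Finset.mem_erase.mpr ⟨hφ1, Finset.mem_univ _⟩⟩
      have h4 : ∑ ψ : IrrCharacter G, (charDegree (ψ : G → ℂ) : ℤ) * c ψ
          = (charDegree (T : G → ℂ) : ℤ) * c T + (charDegree (x12 : G → ℂ) : ℤ) * c x12 := by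
        rw [← Finset.add_sum_erase Finset.univ _ (Finset.mem_univ T),
          ← Finset.add_sum_erase (Finset.univ.erase T) _ hx12mem]
        rw [Finset.sum_eq_zero (fun φ hφ => by
          rw [hzero φ (Finset.ne_of_mem_erase (Finset.mem_of_mem_erase hφ))
            (Finset.ne_of_mem_erase hφ), mul_zero])]
        ring
      rw [hcorth, hdT, hcT, hx12, hc12] at h4
      norm_num at h4

end Cfsg.Agent.Lib.Helper68.M11Deg
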