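import Mathlib
import Cfsg.Agent.Lib.CT.Orth
import Cfsg.Agent.Lib.Helper17.KleinCount
import Cfsg.Agent.Lib.Helper75.BlockOrth2

/-!
Class counting by sums of centralizer orders: the sum of `|C(a)|` over a conjugation-invariant
set is a multiple of `|G|` (the number of classes in it), and the sum over the whole group is
the number of irreducible characters times `|G|`.
-/

set_option autoImplicit false
set_option linter.style.haveILetI false

namespace Cfsg.Agent.Lib.Helper68.M11Cnt

open Cfsg Subgroup
open scoped ComplexConjugate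

universe u

variable {G : Type u} [Group G]

theorem card_class_mul [Fintype G] (a : G) :
    Nat.card {b : G // IsConj a b} * Nat.card (centralizer ({a} : Set G)) = Nat.card G := by
  classical
  have h1 := Finset.card_eq_sum_card_fiberwise (f := fun c : G => c * a * c⁻¹)
    (s := Finset.univ) (t := Finset.univ.filter (fun b : G => IsConj a b))
    (fun c _ => Finset.mem_filter.mpr ⟨Finset.mem_univ _, isConj_iff.mpr ⟨c, rfl⟩⟩)
  rw [Finset.sum_congr rfl (fun b hb => Cfsg.Agent.Lib.CT.Orth.card_conj_eq_of_isConj a b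
    (Finset.mem_filter.mp hb).2), Finset.sum_const, smul_eq_mul, Finset.card_univ] at h1
  rw [Nat.card_eq_fintype_card, Fintype.card_subtype, Nat.card_eq_fintype_card (α := G), h1]

/-- The sum of the centralizer orders over a conjugation-invariant set is a multiple of the
group order. -/
theorem class_count [Fintype G] (A : Finset G) (hA : ∀ a ∈ A, ∀ b, IsConj a b → b ∈ A) :
    ∃ k : ℕ, ∑ a ∈ A, Nat.card (centralizer ({a} : Set G)) = k * Nat.card G ∧
      (A.Nonempty → 1 ≤ k) := by
  classical
  induction' hn : A.card using Nat.strong_induction_on with n ih generalizing A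
  rcases A.eq_empty_or_nonempty with rfl | ⟨a, ha⟩
  · exact ⟨0, by simp, fun h => absurd h Finset.not_nonempty_empty⟩
  · obtain ⟨K, hK⟩ : ∃ K, K = Finset.univ.filter (fun b : G => IsConj a b) := ⟨_, rfl⟩
    have hKmem : ∀ b, b ∈ K ↔ IsConj a b := by
      intro b
      rw [hK]
      simp
    have hKA : K ⊆ A := fun b hb => hA a ha b ((hKmem b).mp hb)
    have haK : a ∈ K := (hKmem a).mpr (IsConj.refl a)
    have hAK : ∀ x ∈ A \ K, ∀ y, IsConj x y → y ∈ A \ K := by
      intro x hx y hxy
      rw [Finset.mem_sdiff] at hx ⊢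
      exact ⟨hA x hx.1 y hxy,
        fun hy => hx.2 ((hKmem x).mpr (((hKmem y).mp hy).trans hxy.symm))⟩
    have hlt : (A \ K).card < n := by
      rw [← hn, Finset.card_sdiff_of_subset hKA]
      have h1 : 0 < K.card := Finset.card_pos.mpr ⟨a, haK⟩
      have h2 : K.card ≤ A.card := Finset.card_le_card hKA
      omega
    obtain ⟨k, hk, -⟩ := ih _ hlt (A \ K) hAK rfl
    refine ⟨k + 1, ?_, fun _ => by omega⟩
    rw [← Finset.sum_sdiff hKA, hk]
    have hKc : K.card = Nat.card {b : G // IsConj a b} := by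
      rw [Nat.card_eq_fintype_card, Fintype.card_subtype, hK]
    have hKsum : ∑ b ∈ K, Nat.card (centralizer ({b} : Set G)) = Nat.card G := by
      rw [Finset.sum_congr rfl (fun b hb =>
        Cfsg.Agent.Lib.Helper17.KleinCount.card_centralizer_of_isConj ((hKmem b).mp hb)),
        Finset.sum_const, smul_eq_mul, hKc]
      exact card_class_mul a
    rw [hKsum]
    ring

/-- The elements of a given order. -/
noncomputable def E (G : Type u) [Group G] [Fintype G] (n : ℕ) : Finset G :=
  Finset.univ.filter (fun g : G => orderOf g = n)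

/-- The elements whose order is none of `1, 2, 3, 5, 6, 11`. -/
noncomputable def Rest (G : Type u) [Group G] [Fintype G] : Finset G :=
  Finset.univ.filter (fun g : G => orderOf g ≠ 1 ∧ orderOf g ≠ 2 ∧ orderOf g ≠ 3 ∧
    orderOf g ≠ 5 ∧ orderOf g ≠ 6 ∧ orderOf g ≠ 11)

theorem mem_E [Fintype G] (n : ℕ) (g : G) : g ∈ E G n ↔ orderOf g = n := by
  simp [E]

theorem mem_Rest [Fintype G] (g : G) : g ∈ Rest G ↔ (orderOf g ≠ 1 ∧ orderOf g ≠ 2 ∧
    orderOf g ≠ 3 ∧ orderOf g ≠ 5 ∧ orderOf g ≠ 6 ∧ orderOf g ≠ 11) := by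
  simp [Rest]

theorem sum_by_order [Fintype G] (F : G → ℕ) :
    ∑ g : G, F g = F 1 + ∑ g ∈ E G 2, F g + ∑ g ∈ E G 3, F g + ∑ g ∈ E G 5, F g
      + ∑ g ∈ E G 6, F g + ∑ g ∈ E G 11, F g + ∑ g ∈ Rest G, F g := by
  have h1 : F 1 = ∑ g ∈ E G 1, F g := by
    have h2 : E G 1 = {1} := by
      ext g
      simp [E, orderOf_eq_one_iff]
    rw [h2, Finset.sum_singleton]
  rw [h1]
  simp only [E, Rest, Finset.sum_filter]
  simp only [← Finset.sum_add_distrib]
  refine Finset.sum_congr rfl (fun g _ => ?_)
  generalize orderOf g = n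
  by_cases c1 : n = 1
  · subst c1; simp
  by_cases c2 : n = 2
  · subst c2; simp
  by_cases c3 : n = 3
  · subst c3; simp
  by_cases c5 : n = 5
  · subst c5; simp
  by_cases c6 : n = 6
  · subst c6; simp
  by_cases c11 : n = 11
  · subst c11; simp
  simp [c1, c2, c3, c5, c6, c11]

theorem orderOf_le_card_centralizer [Finite G] (g : G) :
    orderOf g ≤ Nat.card (centralizer ({g} : Set G)) := by
  have h1 : zpowers g ≤ centralizer ({g} : Set G) := by
    rw [zpowers_le]
    exact mem_centralizer_iff.mpr (fun h hh => by rw [Set.mem_singleton_iff.mp hh])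
  have h2 := Subgroup.card_le_of_le h1
  rwa [Nat.card_zpowers] at h2

/-- The sum of all centralizer orders is the number of irreducible characters times the
group order. -/
theorem sum_card_centralizer [Fintype G] [Fintype (IrrCharacter G)] :
    ∑ g : G, Nat.card (centralizer ({g} : Set G))
      = Fintype.card (IrrCharacter G) * Nat.card G := by
  classical
  have h1 : ∀ g : G, (Nat.card (centralizer ({g} : Set G)) : ℂ)
      = ∑ χ : IrrCharacter G, (χ : G → ℂ) g * conj ((χ : G → ℂ) g) := fun g =>
    (Cfsg.Agent.Lib.CT.Orth.second_orthogonality_sum_of_isConj g g (IsConj.refl g)).symm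
  have h3 : ∀ χ : IrrCharacter G, ∑ g : G, (χ : G → ℂ) g * conj ((χ : G → ℂ) g)
      = (Nat.card G : ℂ) := by
    intro χ
    have h4 := Cfsg.Agent.Lib.Helper75.BlockOrth2.irr_sum_mul_conj χ χ
    rwa [if_pos rfl] at h4
  have h2 : ((∑ g : G, Nat.card (centralizer ({g} : Set G)) : ℕ) : ℂ)
      = ((Fintype.card (IrrCharacter G) * Nat.card G : ℕ) : ℂ) := by
    push_cast
    rw [Finset.sum_congr rfl (fun g _ => h1 g), Finset.sum_comm]
    rw [Finset.sum_congr rfl (fun χ _ => h3 χ), Finset.sum_const, Finset.card_univ, nsmul_eq_mul]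
  exact_mod_cast h2

end Cfsg.Agent.Lib.Helper68.M11Cnt
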