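import Mathlib
import Cfsg.Agent.Lib.Helper68.M11Deg
import Cfsg.Agent.Lib.Helper75.BlockOrth2

/-!
Relations between the irreducible characters of a simple group of order `7920`:
the ten characters, their values on the elements of order `5` and `11`, and the two
block relations (for the primes `11` and `5`).
-/

set_option autoImplicit false
set_option linter.style.haveILetI false
set_option maxHeartbeats 1600000

namespace Cfsg.Agent.Lib.Helper68.M11Tab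

open Cfsg Subgroup
open Cfsg.Agent.Lib.CT.Orth Cfsg.Agent.Lib.CT.Wedderburn
open Cfsg.Agent.Lib.Helper17.ExcMain Cfsg.Agent.Lib.Helper17.ExcCor
open Cfsg.Agent.Lib.Helper17.ExcSimple Cfsg.Agent.Lib.Helper17.Sylow
open Cfsg.Agent.Lib.Helper68.M11Exc
open scoped ComplexConjugate Pointwise

universe u

theorem orderOf_conj_eq {G : Type*} [Group G] (u g : G) : orderOf (u * g * u⁻¹) = orderOf g :=
  (SemiconjBy.orderOf_eq u (show SemiconjBy u g (u * g * u⁻¹) by simp [SemiconjBy])).symm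

theorem orderOf_eq_of_isConj {G : Type*} [Group G] {a b : G} (h : IsConj a b) :
    orderOf b = orderOf a := by
  obtain ⟨c, hc⟩ := isConj_iff.mp h
  rw [← hc]
  exact orderOf_conj_eq c a

/-- Conjugating an element of prime order into a given Sylow subgroup. -/
theorem exists_conj_mem_sylow {G : Type u} [Group G] [Finite G] {p : ℕ} [Fact p.Prime]
    (P : Sylow p G) (g : G) (hg : orderOf g = p) : ∃ u : G, u * g * u⁻¹ ∈ (P : Subgroup G) := by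
  have hpg : IsPGroup p (zpowers g) := by
    apply IsPGroup.of_card (n := 1)
    rw [Nat.card_zpowers, hg, pow_one]
  obtain ⟨P', hP'⟩ := hpg.exists_le_sylow
  obtain ⟨u, hu⟩ := MulAction.exists_smul_eq G P' P
  refine ⟨u, ?_⟩
  have h1 : g ∈ (P' : Subgroup G) := hP' (mem_zpowers g)
  have h2 : MulAut.conj u • g ∈ MulAut.conj u • (P' : Subgroup G) :=
    Subgroup.smul_mem_pointwise_smul _ _ _ h1
  rw [← hu, Sylow.smul_def, Sylow.pointwise_smul_def]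
  simpa [MulAut.smul_def] using h2

/-- The character data of a simple group of order `7920`. -/
structure Tab (G : Type u) [Group G] [Fintype G] [Fintype (IrrCharacter G)] where
  a₁ : IrrCharacter G
  a₂ : IrrCharacter G
  a₃ : IrrCharacter G
  a₄ : IrrCharacter G
  θ₀ : IrrCharacter G
  θ₁ : IrrCharacter G
  α : IrrCharacter G
  β : IrrCharacter G
  r : IrrCharacter G
  d1 : charDegree (a₁ : G → ℂ) = 45
  d2 : charDegree (a₂ : G → ℂ) = 10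
  d3 : charDegree (a₃ : G → ℂ) = 10
  d4 : charDegree (a₄ : G → ℂ) = 10
  dθ0 : charDegree (θ₀ : G → ℂ) = 16
  dθ1 : charDegree (θ₁ : G → ℂ) = 16
  dα : charDegree (α : G → ℂ) = 11
  dβ : charDegree (β : G → ℂ) = 44
  dr : charDegree (r : G → ℂ) = 55
  hsum : ∀ (R : Type) [AddCommMonoid R] (F : IrrCharacter G → R), ∑ ψ, F ψ
      = F (trivIrr G) + (F a₁ + (F a₂ + (F a₃ + (F a₄ + (F θ₀ + (F θ₁ + (F α + (F β + F r))))))))
  hmem : ∀ ψ : IrrCharacter G, ψ = trivIrr G ∨ ψ = a₁ ∨ ψ = a₂ ∨ ψ = a₃ ∨ ψ = a₄ ∨ ψ = θ₀ ∨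
      ψ = θ₁ ∨ ψ = α ∨ ψ = β ∨ ψ = r
  hA : ∀ g : G, orderOf g ≠ 11 →
      (1 + (a₁ : G → ℂ) g - (a₂ : G → ℂ) g - (a₃ : G → ℂ) g - (a₄ : G → ℂ) g = (θ₀ : G → ℂ) g) ∧
      (θ₀ : G → ℂ) g = (θ₁ : G → ℂ) g
  hB : ∀ g : G, orderOf g ≠ 5 →
      1 + (α : G → ℂ) g + ((θ₀ : G → ℂ) g + (θ₁ : G → ℂ) g) - (β : G → ℂ) g = 0
  h11 : ∀ g : G, orderOf g = 11 → (a₁ : G → ℂ) g = 1 ∧ (a₂ : G → ℂ) g = -1 ∧
      (a₃ : G → ℂ) g = -1 ∧ (a₄ : G → ℂ) g = -1 ∧ (θ₀ : G → ℂ) g + (θ₁ : G → ℂ) g = -1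
  h5 : ∀ g : G, orderOf g = 5 → (α : G → ℂ) g = 1 ∧ (β : G → ℂ) g = -1 ∧
      (θ₀ : G → ℂ) g = 1 ∧ (θ₁ : G → ℂ) g = 1

theorem exists_tab {G : Type u} [Group G] [Fintype G] [IsSimpleGroup G] (h : Nat.card G = 7920)
    [Fintype (IrrCharacter G)] : Nonempty (Tab G) := by
  classical
  have hG : ¬ IsMulCommutative G := not_comm_of_not_prime (by rw [h]; norm_num)
  obtain ⟨a₁, a₂, a₃, a₄, t₀, t₁, α, β, r, hd1, hd2, hd3, hd4, hdt0, hdt1, hdα, hdβ, hdr, hsumN⟩ :=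
    Cfsg.Agent.Lib.Helper68.M11Deg.degrees h
  obtain ⟨T, hT⟩ : ∃ T, T = trivIrr G := ⟨_, rfl⟩
  rw [← hT] at hsumN
  have hdT : charDegree (T : G → ℂ) = 1 := by rw [hT]; exact charDegree_trivIrr
  have hTg : ∀ g : G, (T : G → ℂ) g = 1 := fun g => by rw [hT]; exact trivIrr_apply G g
  -- the list of characters
  have hval : (Finset.univ : Finset (IrrCharacter G)).val
      = T ::ₘ a₁ ::ₘ a₂ ::ₘ a₃ ::ₘ a₄ ::ₘ t₀ ::ₘ t₁ ::ₘ α ::ₘ β ::ₘ {r} := by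
    refine Multiset.ext.mpr (fun ψ => ?_)
    rw [Multiset.count_eq_one_of_mem Finset.univ.nodup (Finset.mem_univ ψ)]
    have h1 := hsumN (fun φ => if ψ = φ then 1 else 0)
    rw [Finset.sum_ite_eq Finset.univ ψ (fun _ => 1), if_pos (Finset.mem_univ ψ)] at h1
    simp only [Multiset.count_cons, Multiset.count_singleton]
    omega
  have hmem0 : ∀ ψ : IrrCharacter G, ψ = T ∨ ψ = a₁ ∨ ψ = a₂ ∨ ψ = a₃ ∨ ψ = a₄ ∨ ψ = t₀ ∨
      ψ = t₁ ∨ ψ = α ∨ ψ = β ∨ ψ = r := by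
    intro ψ
    have h1 : ψ ∈ (Finset.univ : Finset (IrrCharacter G)).val := Finset.mem_univ ψ
    rw [hval] at h1
    simpa using h1
  have hsum0 : ∀ (R : Type) [AddCommMonoid R] (F : IrrCharacter G → R), ∑ ψ, F ψ
      = F T + (F a₁ + (F a₂ + (F a₃ + (F a₄ + (F t₀ + (F t₁ + (F α + (F β + F r)))))))) := by
    intro R _ F
    change (Finset.univ.val.map F).sum = _
    rw [hval]
    simp
  have ht01 : t₀ ≠ t₁ := by
    intro h01
    subst h01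
    have h1 := hsumN (fun φ => if t₀ = φ then 1 else 0)
    rw [Finset.sum_ite_eq Finset.univ t₀ (fun _ => 1), if_pos (Finset.mem_univ _)] at h1
    simp only [if_true] at h1
    omega
  -- the prime 11
  obtain ⟨P⟩ : Nonempty (Sylow 11 G) := inferInstance
  obtain ⟨hP, hCP, hNP⟩ := Cfsg.Agent.Lib.Helper68.M11Syl.sylow11 hG h P
  have hp11 : Nat.Prime 11 := by norm_num
  haveI : Fact (Nat.Prime 11) := ⟨hp11⟩
  have hCle := centralizer_le_of_card (P : Subgroup G) hp11 hP hCP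
  obtain ⟨n, ε, b, θ, M, i₀, hn, hε, hθinj, hMT, hθT, hMexc, hsq, hdeg, hval11, hθvan, hθone,
    hform⟩ := exceptional (P : Subgroup G) (p := 11) (e := 5) hp11 hP hCle (by rw [hNP])
      (by norm_num)
  have hn2 : n = 2 := by omega
  subst hn2
  rw [← hT] at hMT hθT
  obtain ⟨y, hyP, hy1⟩ := exists_mem_ne_one (P : Subgroup G) hp11 hP
  have hyo : orderOf y = 11 := by
    have h1 : orderOf y ∣ 11 := by rw [← hP]; exact Subgroup.orderOf_dvd_natCard _ hyP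
    rcases (Nat.dvd_prime hp11).mp h1 with h3 | h3
    · exact absurd (orderOf_eq_one_iff.mp h3) hy1
    · exact h3
  have hM5 : ∀ ψ, M ψ ^ 2 ≤ 5 := by
    intro ψ
    have h1 : M ψ ^ 2 ≤ ∑ φ, M φ ^ 2 :=
      Finset.single_le_sum (f := fun φ => M φ ^ 2) (fun φ _ => sq_nonneg (M φ))
        (Finset.mem_univ ψ)
    have h2 : 2 * ε * b ≤ 2 * b ^ 2 := by
      rcases hε with h' | h' <;> rw [h'] <;> rcases le_or_gt b 0 with hb | hb <;> nlinarith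
    push_cast at hsq
    linarith
  have hMcase : ∀ ψ : IrrCharacter G, (∀ i, θ i ≠ ψ) → ∀ d : ℕ, charDegree (ψ : G → ℂ) = d →
      ∃ a : ℤ, (d : ℤ) = M ψ + 11 * a ∧ -2 ≤ M ψ ∧ M ψ ≤ 2 := by
    intro ψ hψ d hd
    obtain ⟨a, ha⟩ := hdeg ψ hψ
    have h1 := hM5 ψ
    refine ⟨a, ?_, by nlinarith, by nlinarith⟩
    rw [← hd]
    push_cast at ha
    exact ha
  have h16 : ∀ ψ : IrrCharacter G, charDegree (ψ : G → ℂ) = 16 → ∃ i, θ i = ψ := by
    intro ψ hψ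
    by_contra hcon
    push Not at hcon
    obtain ⟨a, ha, hlo, hhi⟩ := hMcase ψ hcon 16 hψ
    omega
  obtain ⟨j₀, hj₀⟩ := h16 t₀ hdt0
  obtain ⟨j₁, hj₁⟩ := h16 t₁ hdt1
  have hj : j₀ ≠ j₁ := fun hjj => ht01 (by rw [← hj₀, ← hj₁, hjj])
  have hθset : ∀ i, θ i = t₀ ∨ θ i = t₁ := by
    intro i
    have h1 : i = j₀ ∨ i = j₁ := by
      have h2 := Fin.val_ne_of_ne hj
      have h3 := i.isLt
      have h4 := j₀.isLt
      have h5 := j₁.isLt
      rw [Fin.ext_iff, Fin.ext_iff]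
      omega
    rcases h1 with h1 | h1
    · left; rw [h1]; exact hj₀
    · right; rw [h1]; exact hj₁
  have hθ01 : (θ 0 = t₀ ∧ θ 1 = t₁) ∨ (θ 0 = t₁ ∧ θ 1 = t₀) := by
    have hne : θ 0 ≠ θ 1 := fun h' => by
      have := hθinj h'
      exact absurd this (by decide)
    rcases hθset 0 with h0 | h0 <;> rcases hθset 1 with h1 | h1
    · exact absurd (h0.trans h1.symm) hne
    · exact Or.inl ⟨h0, h1⟩
    · exact Or.inr ⟨h0, h1⟩
    · exact absurd (h0.trans h1.symm) hne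
  obtain ⟨s₀, hs0⟩ : ∃ s₀, s₀ = θ 0 := ⟨_, rfl⟩
  obtain ⟨s₁, hs1⟩ : ∃ s₁, s₁ = θ 1 := ⟨_, rfl⟩
  have hds0 : charDegree (s₀ : G → ℂ) = 16 := by
    rw [hs0]; rcases hθset 0 with h' | h' <;> rw [h'] <;> assumption
  have hds1 : charDegree (s₁ : G → ℂ) = 16 := by
    rw [hs1]; rcases hθset 1 with h' | h' <;> rw [h'] <;> assumption
  have hθdeg : ∀ i, charDegree ((θ i : IrrCharacter G) : G → ℂ) = 16 := by
    intro i; rcases hθset i with h' | h' <;> rw [h'] <;> assumption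
  have hsum : ∀ (R : Type) [AddCommMonoid R] (F : IrrCharacter G → R), ∑ ψ, F ψ
      = F T + (F a₁ + (F a₂ + (F a₃ + (F a₄ + (F s₀ + (F s₁ + (F α + (F β + F r)))))))) := by
    intro R _ F
    rcases hθ01 with ⟨e0, e1⟩ | ⟨e0, e1⟩
    · rw [hs0, hs1, e0, e1]; exact hsum0 R F
    · rw [hs0, hs1, e0, e1, hsum0 R F, add_left_comm (F t₀) (F t₁)]
  have hmem : ∀ ψ : IrrCharacter G, ψ = T ∨ ψ = a₁ ∨ ψ = a₂ ∨ ψ = a₃ ∨ ψ = a₄ ∨ ψ = s₀ ∨
      ψ = s₁ ∨ ψ = α ∨ ψ = β ∨ ψ = r := by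
    intro ψ
    rcases hθ01 with ⟨e0, e1⟩ | ⟨e0, e1⟩
    · rw [hs0, hs1, e0, e1]; exact hmem0 ψ
    · rw [hs0, hs1, e0, e1]
      rcases hmem0 ψ with h' | h' | h' | h' | h' | h' | h' | h' | h' | h' <;> simp [h']
  have hnon : ∀ ψ : IrrCharacter G, charDegree (ψ : G → ℂ) ≠ 16 → ∀ i, θ i ≠ ψ := by
    intro ψ hψ i hi
    exact hψ (by rw [← hi]; exact hθdeg i)
  have hM1 : M a₁ = 1 := by
    obtain ⟨a, ha, hlo, hhi⟩ := hMcase a₁ (hnon a₁ (by rw [hd1]; norm_num)) 45 hd1; omega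
  have hM2 : M a₂ = -1 := by
    obtain ⟨a, ha, hlo, hhi⟩ := hMcase a₂ (hnon a₂ (by rw [hd2]; norm_num)) 10 hd2; omega
  have hM3 : M a₃ = -1 := by
    obtain ⟨a, ha, hlo, hhi⟩ := hMcase a₃ (hnon a₃ (by rw [hd3]; norm_num)) 10 hd3; omega
  have hM4 : M a₄ = -1 := by
    obtain ⟨a, ha, hlo, hhi⟩ := hMcase a₄ (hnon a₄ (by rw [hd4]; norm_num)) 10 hd4; omega
  have hMα : M α = 0 := by
    obtain ⟨a, ha, hlo, hhi⟩ := hMcase α (hnon α (by rw [hdα]; norm_num)) 11 hdα; omega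
  have hMβ : M β = 0 := by
    obtain ⟨a, ha, hlo, hhi⟩ := hMcase β (hnon β (by rw [hdβ]; norm_num)) 44 hdβ; omega
  have hMr : M r = 0 := by
    obtain ⟨a, ha, hlo, hhi⟩ := hMcase r (hnon r (by rw [hdr]; norm_num)) 55 hdr; omega
  have hMs0 : M s₀ = 0 := by rw [hs0]; exact hMexc 0
  have hMs1 : M s₁ = 0 := by rw [hs1]; exact hMexc 1
  have hθ1 : ∀ i j, (fun ψ : IrrCharacter G => (ψ : G → ℂ) 1) (θ i)
      = (fun ψ : IrrCharacter G => (ψ : G → ℂ) 1) (θ j) := fun i j => hθone i j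
  have horth1 : ∑ ψ : IrrCharacter G, (ψ : G → ℂ) 1 * conj ((ψ : G → ℂ) y) = 0 :=
    second_orthogonality_sum_of_not_isConj (1 : G) y
      (fun hc => hy1 (isConj_one_left.mp hc.symm))
  have hη : (2 : ℂ) * (b : ℂ) - (ε : ℂ) = -1 := by
    have h1 := hform y hyP hy1 (fun ψ => (ψ : G → ℂ) 1) hθ1
    rw [horth1, hsum ℂ (fun ψ => (ψ : G → ℂ) 1 * (M ψ : ℂ))] at h1
    simp only [deg_eq, hdT, hd1, hd2, hd3, hd4, hds0, hds1, hdα, hdβ, hdr, hMT, hM1, hM2, hM3,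
      hM4, hMs0, hMs1, hMα, hMβ, hMr, hθdeg] at h1
    push_cast at h1
    linear_combination (-1 / 16 : ℂ) * h1
  have hAfun : ∀ g : G, orderOf g ≠ 11 →
      (1 + (a₁ : G → ℂ) g - (a₂ : G → ℂ) g - (a₃ : G → ℂ) g - (a₄ : G → ℂ) g = (s₀ : G → ℂ) g) ∧
      (s₀ : G → ℂ) g = (s₁ : G → ℂ) g := by
    intro g hg
    by_cases hg1 : g = 1
    · subst hg1
      refine ⟨?_, by rw [hs0, hs1]; exact hθone 0 1⟩
      simp only [deg_eq, hd1, hd2, hd3, hd4, hds0]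
      norm_num
    · have hnc : ∀ u : G, u⁻¹ * g * u ∉ (P : Subgroup G) := by
        intro u hu
        have h1 : orderOf (u⁻¹ * g * u) ∣ 11 := by
          rw [← hP]; exact Subgroup.orderOf_dvd_natCard _ hu
        have h2 : orderOf (u⁻¹ * g * u) = orderOf g := by
          have := orderOf_conj_eq u⁻¹ g
          rwa [inv_inv] at this
        rw [h2] at h1
        rcases (Nat.dvd_prime hp11).mp h1 with h3 | h3
        · exact hg1 (orderOf_eq_one_iff.mp h3)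
        · exact hg h3
      have hθg : ∀ i j, (fun ψ : IrrCharacter G => (ψ : G → ℂ) g) (θ i)
          = (fun ψ : IrrCharacter G => (ψ : G → ℂ) g) (θ j) := fun i j => hθvan i j g hnc
      have hgy : ¬ IsConj g y := by
        intro hc
        have := orderOf_eq_of_isConj hc
        rw [hyo] at this
        exact hg this.symm
      have h1 := hform y hyP hy1 (fun ψ => (ψ : G → ℂ) g) hθg
      rw [second_orthogonality_sum_of_not_isConj g y hgy,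
        hsum ℂ (fun ψ => (ψ : G → ℂ) g * (M ψ : ℂ))] at h1
      have h2 : (θ i₀ : G → ℂ) g = (s₀ : G → ℂ) g := by rw [hs0]; exact hθvan i₀ 0 g hnc
      simp only [hMT, hM1, hM2, hM3, hM4, hMs0, hMs1, hMα, hMβ, hMr, hTg, h2] at h1
      push_cast at h1
      refine ⟨?_, by rw [hs0, hs1]; exact hθvan 0 1 g hnc⟩
      linear_combination -h1 - (s₀ : G → ℂ) g * hη
  have h11fun : ∀ g : G, orderOf g = 11 → (a₁ : G → ℂ) g = 1 ∧ (a₂ : G → ℂ) g = -1 ∧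
      (a₃ : G → ℂ) g = -1 ∧ (a₄ : G → ℂ) g = -1 ∧ (s₀ : G → ℂ) g + (s₁ : G → ℂ) g = -1 := by
    intro g hg
    obtain ⟨u, hu⟩ := exists_conj_mem_sylow P g hg
    have hg1 : g ≠ 1 := by
      rintro rfl
      rw [orderOf_one] at hg
      omega
    have hu1 : u * g * u⁻¹ ≠ 1 := fun h' => hg1 (conj_eq_one_iff.mp h')
    have hv : ∀ ψ : IrrCharacter G, (∀ i, θ i ≠ ψ) → (ψ : G → ℂ) g = (M ψ : ℂ) := by
      intro ψ hψ
      rw [← irr_isClassFunction ψ g u]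
      exact hval11 ψ hψ _ hu hu1
    have e1 := hv a₁ (hnon a₁ (by rw [hd1]; norm_num))
    have e2 := hv a₂ (hnon a₂ (by rw [hd2]; norm_num))
    have e3 := hv a₃ (hnon a₃ (by rw [hd3]; norm_num))
    have e4 := hv a₄ (hnon a₄ (by rw [hd4]; norm_num))
    have e5 := hv α (hnon α (by rw [hdα]; norm_num))
    have e6 := hv β (hnon β (by rw [hdβ]; norm_num))
    have e7 := hv r (hnon r (by rw [hdr]; norm_num))
    rw [hM1] at e1
    rw [hM2] at e2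
    rw [hM3] at e3
    rw [hM4] at e4
    rw [hMα] at e5
    rw [hMβ] at e6
    rw [hMr] at e7
    have h0 := sum_apply_one_mul_of_ne_sum g hg1
    rw [hsum ℂ (fun ψ => (ψ : G → ℂ) 1 * (ψ : G → ℂ) g)] at h0
    simp only [deg_eq, hd1, hd2, hd3, hd4, hds0, hds1, hdα, hdβ, hdr, hTg, e1, e2, e3, e4,
      e5, e6, e7] at h0
    push_cast at h0
    refine ⟨by rw [e1]; norm_num, by rw [e2]; norm_num, by rw [e3]; norm_num,
      by rw [e4]; norm_num, ?_⟩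
    linear_combination (1 / 16 : ℂ) * h0
  -- the prime 5
  obtain ⟨Q⟩ : Nonempty (Sylow 5 G) := inferInstance
  obtain ⟨hQ, hCQ, hNQ⟩ := Cfsg.Agent.Lib.Helper68.M11Syl5.sylow5 hG h a₂ hd2 Q
  have hp5 : Nat.Prime 5 := by norm_num
  haveI : Fact (Nat.Prime 5) := ⟨hp5⟩
  have hCleQ := centralizer_le_of_card (Q : Subgroup G) hp5 hQ hCQ
  obtain ⟨c, hcval, hcT, hc5, hcm⟩ :=
    Cfsg.Agent.Lib.Helper69.FullExc.full_exc (Q : Subgroup G) hp5 hQ hCleQ (by rw [hNQ])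
  rw [← hT] at hcT
  obtain ⟨z, hzQ, hz1⟩ := exists_mem_ne_one (Q : Subgroup G) hp5 hQ
  have hzo : orderOf z = 5 := by
    have h1 : orderOf z ∣ 5 := by rw [← hQ]; exact Subgroup.orderOf_dvd_natCard _ hzQ
    rcases (Nat.dvd_prime hp5).mp h1 with h3 | h3
    · exact absurd (orderOf_eq_one_iff.mp h3) hz1
    · exact h3
  have hcd : ∀ ψ : IrrCharacter G, ∀ d : ℕ, charDegree (ψ : G → ℂ) = d →
      ∃ m : ℤ, (d : ℤ) + 4 * c ψ = 5 * m ∧ -2 ≤ c ψ ∧ c ψ ≤ 2 := by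
    intro ψ d hd
    obtain ⟨m, hm⟩ := hcm ψ
    have h1 : c ψ ^ 2 ≤ ∑ ψ, c ψ ^ 2 :=
      Finset.single_le_sum (f := fun j => c j ^ 2) (fun j _ => sq_nonneg (c j))
        (Finset.mem_univ ψ)
    rw [hc5] at h1
    push_cast at h1 hm
    refine ⟨m, ?_, by nlinarith, by nlinarith⟩
    rw [← hd]
    linarith
  have hcα : c α = 1 := by obtain ⟨m, hm, hlo, hhi⟩ := hcd α 11 hdα; omega
  have hcβ : c β = -1 := by obtain ⟨m, hm, hlo, hhi⟩ := hcd β 44 hdβ; omega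
  have hcs0 : c s₀ = 1 := by obtain ⟨m, hm, hlo, hhi⟩ := hcd s₀ 16 hds0; omega
  have hcs1 : c s₁ = 1 := by obtain ⟨m, hm, hlo, hhi⟩ := hcd s₁ 16 hds1; omega
  have hc1 : c a₁ = 0 := by obtain ⟨m, hm, hlo, hhi⟩ := hcd a₁ 45 hd1; omega
  have hc2 : c a₂ = 0 := by obtain ⟨m, hm, hlo, hhi⟩ := hcd a₂ 10 hd2; omega
  have hc3 : c a₃ = 0 := by obtain ⟨m, hm, hlo, hhi⟩ := hcd a₃ 10 hd3; omega
  have hc4 : c a₄ = 0 := by obtain ⟨m, hm, hlo, hhi⟩ := hcd a₄ 10 hd4; omega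
  have hcr : c r = 0 := by obtain ⟨m, hm, hlo, hhi⟩ := hcd r 55 hdr; omega
  have hBfun : ∀ g : G, orderOf g ≠ 5 →
      1 + (α : G → ℂ) g + ((s₀ : G → ℂ) g + (s₁ : G → ℂ) g) - (β : G → ℂ) g = 0 := by
    intro g hg
    have hgz : ¬ IsConj g z := by
      intro hc
      have := orderOf_eq_of_isConj hc
      rw [hzo] at this
      exact hg this.symm
    have h1 := second_orthogonality_sum_of_not_isConj g z hgz
    rw [hsum ℂ (fun ψ => (ψ : G → ℂ) g * conj ((ψ : G → ℂ) z))] at h1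
    simp only [hcval _ z hzQ hz1, map_intCast, hcT, hc1, hc2, hc3, hc4, hcs0, hcs1, hcα, hcβ,
      hcr, hTg] at h1
    push_cast at h1
    linear_combination h1
  have h5fun : ∀ g : G, orderOf g = 5 → (α : G → ℂ) g = 1 ∧ (β : G → ℂ) g = -1 ∧
      (s₀ : G → ℂ) g = 1 ∧ (s₁ : G → ℂ) g = 1 := by
    intro g hg
    obtain ⟨u, hu⟩ := exists_conj_mem_sylow Q g hg
    have hg1 : g ≠ 1 := by
      rintro rfl
      rw [orderOf_one] at hg
      omega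
    have hu1 : u * g * u⁻¹ ≠ 1 := fun h' => hg1 (conj_eq_one_iff.mp h')
    have hv : ∀ ψ : IrrCharacter G, (ψ : G → ℂ) g = (c ψ : ℂ) := by
      intro ψ
      rw [← irr_isClassFunction ψ g u]
      exact hcval ψ _ hu hu1
    exact ⟨by rw [hv, hcα]; norm_num, by rw [hv, hcβ]; norm_num, by rw [hv, hcs0]; norm_num,
      by rw [hv, hcs1]; norm_num⟩
  rw [hT] at hsum hmem
  exact ⟨⟨a₁, a₂, a₃, a₄, s₀, s₁, α, β, r, hd1, hd2, hd3, hd4, hds0, hds1, hdα, hdβ, hdr, hsum,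
    hmem, hAfun, hBfun, h11fun, h5fun⟩⟩

end Cfsg.Agent.Lib.Helper68.M11Tab
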