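import Mathlib
import Cfsg.Agent.Lib.Helper68.M11Tab
import Cfsg.Agent.Lib.Helper68.M11Cnt
import Cfsg.Agent.Lib.Helper74.FSCount
import Cfsg.Agent.Lib.Helper74.EvenMult
import Cfsg.Agent.Lib.Helper17.KleinFS
import Cfsg.Agent.Lib.CT.FSInd
import Cfsg.Agent.Lib.CT.Ops

/-!
Involutions of a simple group of order `7920`: every involution has a centralizer of order
`48`.  (Character relations give `|C(t)| ∈ {16, 48, 144}`; the Frobenius–Schur count gives
exactly `165` involutions; a count of the classes excludes `144`.)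
-/

set_option autoImplicit false
set_option linter.style.haveILetI false
set_option maxHeartbeats 1600000

namespace Cfsg.Agent.Lib.Helper68.M11Inv2

open Cfsg Subgroup
open Cfsg.Agent.Lib.CT.Orth Cfsg.Agent.Lib.CT.Wedderburn
open Cfsg.Agent.Lib.Helper17.ExcMain Cfsg.Agent.Lib.Helper17.ExcCor
open Cfsg.Agent.Lib.Helper17.ExcSimple Cfsg.Agent.Lib.Helper17.Sylow
open Cfsg.Agent.Lib.Helper68.M11Exc Cfsg.Agent.Lib.Helper68.M11Tab
open Cfsg.Agent.Lib.Helper68.M11Cnt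
open Cfsg.Agent.Lib.CT.FSInd Cfsg.Agent.Lib.Helper74.FSCount
open scoped ComplexConjugate

universe u

/-! ### Numerics -/

/-- The order of the centralizer of an involution in terms of its character values. -/
def colval (k₁ k₂ k₃ ka : ℕ) : ℤ :=
  1 + (10 - 4 * (k₁ : ℤ)) * (10 - 4 * (k₁ : ℤ)) + (10 - 4 * (k₂ : ℤ)) * (10 - 4 * (k₂ : ℤ))
    + (10 - 4 * (k₃ : ℤ)) * (10 - 4 * (k₃ : ℤ)) + (11 - 4 * (ka : ℤ)) * (11 - 4 * (ka : ℤ))
    + (12 - 4 * (ka : ℤ)) * (12 - 4 * (ka : ℤ))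
    + (29 - 4 * (k₁ : ℤ) - 4 * (k₂ : ℤ) - 4 * (k₃ : ℤ))
      * (29 - 4 * (k₁ : ℤ) - 4 * (k₂ : ℤ) - 4 * (k₃ : ℤ))
    + (41 - 4 * (k₁ : ℤ) - 4 * (k₂ : ℤ) - 4 * (k₃ : ℤ) - 4 * (ka : ℤ))
      * (41 - 4 * (k₁ : ℤ) - 4 * (k₂ : ℤ) - 4 * (k₃ : ℤ) - 4 * (ka : ℤ))

set_option maxRecDepth 100000 in
set_option synthInstance.maxSize 8192 in
set_option synthInstance.maxHeartbeats 400000 in
theorem inv_col : ∀ k₁ < 6, ∀ k₂ < 6, ∀ k₃ < 6, ∀ ka < 6,
    (colval k₁ k₂ k₃ ka).toNat ∣ 144 →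
      (colval k₁ k₂ k₃ ka).toNat = 16 ∨ (colval k₁ k₂ k₃ ka).toNat = 48 ∨
        (colval k₁ k₂ k₃ ka).toNat = 144 := by
  decide +kernel

theorem div144 : ∀ c ∈ Nat.divisors 7920, ¬ 5 ∣ c → ¬ 11 ∣ c → c ∣ 144 := by
  decide +kernel

theorem fact7920_2 : (7920 : ℕ).factorization 2 = 4 := by
  have h : (7920 : ℕ) = 2 ^ 4 * 495 := by norm_num
  rw [h, Nat.factorization_mul (by norm_num) (by norm_num),
    Nat.Prime.factorization_pow (by norm_num)]
  simp
  exact Nat.factorization_eq_zero_of_not_dvd (by norm_num)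

/-! ### General lemmas -/

section general

variable {G : Type u} [Group G]

theorem sum_irr_eq_zero [Fintype G] (ψ : IrrCharacter G) (hψ : ψ ≠ trivIrr G) :
    ∑ g : G, (ψ : G → ℂ) g = 0 := by
  have h1 := Cfsg.Agent.Lib.Helper75.BlockOrth2.irr_sum_mul_conj ψ (trivIrr G)
  rw [if_neg hψ] at h1
  rw [← h1]
  refine Finset.sum_congr rfl (fun g _ => ?_)
  rw [trivIrr_apply, map_one, mul_one]

theorem ne_triv_of_deg (ψ : IrrCharacter G) (h : charDegree (ψ : G → ℂ) ≠ 1) :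
    ψ ≠ trivIrr G := by
  rintro rfl
  exact h charDegree_trivIrr

theorem conj_irr_deg (ψ : IrrCharacter G) :
    charDegree ((⟨fun g => (ψ : G → ℂ) g⁻¹,
      Cfsg.Agent.Lib.CT.Ops.isIrrCharacter_inv_arg ψ.2⟩ : IrrCharacter G) : G → ℂ)
      = charDegree (ψ : G → ℂ) := by
  unfold charDegree
  simp

theorem real_of_unique (ψ : IrrCharacter G)
    (huniq : ∀ φ : IrrCharacter G, charDegree (φ : G → ℂ) = charDegree (ψ : G → ℂ) → φ = ψ)
    (g : G) : (ψ : G → ℂ) g⁻¹ = (ψ : G → ℂ) g := by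
  have h1 := huniq ⟨fun g => (ψ : G → ℂ) g⁻¹,
    Cfsg.Agent.Lib.CT.Ops.isIrrCharacter_inv_arg ψ.2⟩ (conj_irr_deg ψ)
  exact congrFun (congrArg Subtype.val h1) g

theorem fsInt_real [Fintype G] (ψ : IrrCharacter G)
    (hreal : ∀ g, (ψ : G → ℂ) g⁻¹ = (ψ : G → ℂ) g) :
    fsInt (ψ : G → ℂ) = 1 ∨ fsInt (ψ : G → ℂ) = -1 := by
  have h1 : fsInd (ψ : G → ℂ) ≠ 0 := (fsInd_ne_zero_iff' ψ.2).mpr hreal
  have h2 : fsInt (ψ : G → ℂ) ≠ 0 := fun h0 => h1 ((fsInt_eq_zero_iff ψ.2).mp h0)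
  have h3 := fsInt_abs_le_one (ψ : G → ℂ)
  rw [abs_le] at h3
  omega

theorem fsInt_ne_neg_one_of_odd [Fintype G] (ψ : IrrCharacter G)
    (hodd : ¬ Even (charDegree (ψ : G → ℂ))) : fsInt (ψ : G → ℂ) ≠ -1 := by
  intro h1
  have h2 : fsInd (ψ : G → ℂ) = -1 := by
    rw [← fsInt_cast ψ.2, h1]
    norm_num
  exact hodd (Cfsg.Agent.Lib.Helper17.KleinFS.fsInd_neg_one_even ψ.2 h2)

theorem no_comm_11 [Finite G] [IsSimpleGroup G] (h : Nat.card G = 7920)
    (hG : ¬ IsMulCommutative G) (y x : G) (hy : orderOf y = 11) (hx : orderOf x = 2)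
    (hc : Commute y x) : False := by
  haveI : Fact (Nat.Prime 11) := ⟨by norm_num⟩
  have hpg : IsPGroup 11 (zpowers y) :=
    IsPGroup.of_card (n := 1) (by rw [Nat.card_zpowers, hy, pow_one])
  obtain ⟨P, hP⟩ := hpg.exists_le_sylow
  obtain ⟨hPc, hCP, -⟩ := Cfsg.Agent.Lib.Helper68.M11Syl.sylow11 hG h P
  have hPeq : zpowers y = (P : Subgroup G) :=
    Subgroup.eq_of_le_of_card_ge hP (by rw [hPc, Nat.card_zpowers, hy])
  have hxC : x ∈ centralizer ((P : Subgroup G) : Set G) := by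
    rw [mem_centralizer_iff]
    intro g hg
    rw [SetLike.mem_coe, ← hPeq] at hg
    obtain ⟨k, rfl⟩ := mem_zpowers_iff.mp hg
    exact (hc.zpow_left k).eq
  have h1 : orderOf x ∣ 11 := by
    rw [← hCP]
    exact Subgroup.orderOf_dvd_natCard _ hxC
  rw [hx] at h1
  norm_num at h1

theorem nine_le [Finite G] (h : Nat.card G = 7920) (g : G) (hg : orderOf g = 3) :
    9 ≤ Nat.card (centralizer ({g} : Set G)) := by
  haveI : Fact (Nat.Prime 3) := ⟨by norm_num⟩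
  have hpg : IsPGroup 3 (zpowers g) :=
    IsPGroup.of_card (n := 1) (by rw [Nat.card_zpowers, hg, pow_one])
  obtain ⟨R, hR⟩ := hpg.exists_le_sylow
  have hRc : Nat.card (R : Subgroup G) = 3 ^ 2 :=
    card_sylow_subgroup (m := 880) (by rw [h]; norm_num) (by norm_num) R
  have hcomm := isMulCommutative_iff.mp (IsPGroup.isMulCommutative_of_card_eq_prime_sq hRc)
  have hle : (R : Subgroup G) ≤ centralizer ({g} : Set G) := by
    intro r hr
    rw [mem_centralizer_iff]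
    intro y hy
    rw [Set.mem_singleton_iff] at hy
    subst hy
    have h1 := hcomm ⟨y, hR (mem_zpowers y)⟩ ⟨r, hr⟩
    exact congrArg Subtype.val h1
  have h2 := Subgroup.card_le_of_le hle
  rw [hRc] at h2
  omega

theorem fsInt_defect_zero [Fintype G] (h : Nat.card G = 7920) (ψ : IrrCharacter G)
    (hψ : charDegree (ψ : G → ℂ) = 16) : fsInt (ψ : G → ℂ) ≠ -1 := by
  classical
  intro h1
  have h2 : fsInd (ψ : G → ℂ) = -1 := by
    rw [← fsInt_cast ψ.2, h1]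
    norm_num
  obtain ⟨n, ρ, hirr, hρ⟩ := ψ.2
  haveI := hirr
  haveI : Fact (Nat.Prime 2) := ⟨Nat.prime_two⟩
  obtain ⟨S⟩ : Nonempty (Sylow 2 G) := inferInstance
  have hS : Nat.card (S : Subgroup G) = 2 ^ 4 :=
    card_sylow_subgroup (m := 495) (by rw [h]; norm_num) (by norm_num) S
  haveI : Fintype (S : Subgroup G) := Fintype.ofFinite _
  obtain ⟨r, hr, hsum⟩ := Cfsg.Agent.Lib.Helper74.EvenMult.even_fix_of_fsInd_neg_one ρ
    (by rw [hρ]; exact h2) (S : Subgroup G)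
  rw [hρ] at hsum
  have hvan : ∀ q : (S : Subgroup G), q ≠ 1 → (ψ : G → ℂ) (q : G) = 0 := by
    intro q hq
    apply Cfsg.Agent.S4478.vanish ψ 2 Nat.prime_two (by rw [h, fact7920_2, hψ]; norm_num)
    have h3 : orderOf (q : G) ∣ 2 ^ 4 := by
      rw [← hS]
      exact Subgroup.orderOf_dvd_natCard _ q.2
    obtain ⟨k, hk, hk2⟩ := (Nat.dvd_prime_pow Nat.prime_two).mp h3
    rw [hk2]
    rcases Nat.eq_zero_or_pos k with h0 | h0
    · exfalso
      rw [h0, pow_zero, orderOf_eq_one_iff] at hk2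
      exact hq (Subtype.ext hk2)
    · exact dvd_pow_self 2 h0.ne'
  rw [Finset.sum_eq_single (1 : (S : Subgroup G)) (fun q _ hq => hvan q hq)
    (fun h' => absurd (Finset.mem_univ _) h')] at hsum
  rw [hS, Subgroup.coe_one, deg_eq, hψ] at hsum
  have h4 : (r : ℂ) = 1 := by
    rw [← hsum]
    norm_num
  have h5 : r = 1 := by exact_mod_cast h4
  rw [h5] at hr
  exact absurd hr (by decide)

end general

/-! ### Counting with the character table -/

section table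

variable {G : Type u} [Group G] [Fintype G] [Fintype (IrrCharacter G)]

theorem card_E5 (t : Tab G) (h : Nat.card G = 7920) : (E G 5).card = 1584 := by
  classical
  have hΦ : ∀ g : G, (1 : ℂ) + (t.α : G → ℂ) g + ((t.θ₀ : G → ℂ) g + (t.θ₁ : G → ℂ) g)
      - (t.β : G → ℂ) g = if orderOf g = 5 then 5 else 0 := by
    intro g
    split_ifs with h5
    · obtain ⟨e1, e2, e3, e4⟩ := t.h5 g h5
      rw [e1, e2, e3, e4]
      norm_num
    · exact t.hB g h5
  have hs : ∑ g : G, ((1 : ℂ) + (t.α : G → ℂ) g + ((t.θ₀ : G → ℂ) g + (t.θ₁ : G → ℂ) g)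
      - (t.β : G → ℂ) g) = 7920 := by
    simp only [Finset.sum_sub_distrib, Finset.sum_add_distrib]
    rw [sum_irr_eq_zero t.α (ne_triv_of_deg _ (by rw [t.dα]; norm_num)),
      sum_irr_eq_zero t.θ₀ (ne_triv_of_deg _ (by rw [t.dθ0]; norm_num)),
      sum_irr_eq_zero t.θ₁ (ne_triv_of_deg _ (by rw [t.dθ1]; norm_num)),
      sum_irr_eq_zero t.β (ne_triv_of_deg _ (by rw [t.dβ]; norm_num)),
      Finset.sum_const, Finset.card_univ, ← Nat.card_eq_fintype_card, h]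
    norm_num
  rw [Finset.sum_congr rfl (fun g _ => hΦ g), Finset.sum_ite, Finset.sum_const_zero, add_zero,
    Finset.sum_const, nsmul_eq_mul] at hs
  have h3 : (E G 5).card * 5 = 7920 := by
    unfold E
    exact_mod_cast hs
  omega

theorem card_E11 (t : Tab G) (h : Nat.card G = 7920) : (E G 11).card = 1440 := by
  classical
  have hΨ : ∀ g : G, 2 * ((1 : ℂ) + (t.a₁ : G → ℂ) g - (t.a₂ : G → ℂ) g - (t.a₃ : G → ℂ) g
      - (t.a₄ : G → ℂ) g) - ((t.θ₀ : G → ℂ) g + (t.θ₁ : G → ℂ) g)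
      = if orderOf g = 11 then 11 else 0 := by
    intro g
    split_ifs with h11
    · obtain ⟨e1, e2, e3, e4, e5⟩ := t.h11 g h11
      rw [e1, e2, e3, e4, e5]
      norm_num
    · obtain ⟨e1, e2⟩ := t.hA g h11
      rw [e1, ← e2]
      ring
  have hs : ∑ g : G, (2 * ((1 : ℂ) + (t.a₁ : G → ℂ) g - (t.a₂ : G → ℂ) g - (t.a₃ : G → ℂ) g
      - (t.a₄ : G → ℂ) g) - ((t.θ₀ : G → ℂ) g + (t.θ₁ : G → ℂ) g)) = 15840 := by
    simp only [Finset.sum_sub_distrib, Finset.sum_add_distrib, ← Finset.mul_sum]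
    rw [sum_irr_eq_zero t.a₁ (ne_triv_of_deg _ (by rw [t.d1]; norm_num)),
      sum_irr_eq_zero t.a₂ (ne_triv_of_deg _ (by rw [t.d2]; norm_num)),
      sum_irr_eq_zero t.a₃ (ne_triv_of_deg _ (by rw [t.d3]; norm_num)),
      sum_irr_eq_zero t.a₄ (ne_triv_of_deg _ (by rw [t.d4]; norm_num)),
      sum_irr_eq_zero t.θ₀ (ne_triv_of_deg _ (by rw [t.dθ0]; norm_num)),
      sum_irr_eq_zero t.θ₁ (ne_triv_of_deg _ (by rw [t.dθ1]; norm_num)),
      Finset.sum_const, Finset.card_univ, ← Nat.card_eq_fintype_card, h]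
    norm_num
  rw [Finset.sum_congr rfl (fun g _ => hΨ g), Finset.sum_ite, Finset.sum_const_zero, add_zero,
    Finset.sum_const, nsmul_eq_mul] at hs
  have h3 : (E G 11).card * 11 = 15840 := by
    unfold E
    exact_mod_cast hs
  omega

/-- The centralizer of an involution has order `16`, `48` or `144`. -/
theorem inv_cent [IsSimpleGroup G] (t : Tab G) (h : Nat.card G = 7920) (x : G)
    (hx : orderOf x = 2) :
    Nat.card (centralizer ({x} : Set G)) = 16 ∨ Nat.card (centralizer ({x} : Set G)) = 48 ∨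
      Nat.card (centralizer ({x} : Set G)) = 144 := by
  classical
  have hG : ¬ IsMulCommutative G := not_comm_of_not_prime (by rw [h]; norm_num)
  have hperf := commutator_eq_top hG
  have hx2 : x * x = 1 := by
    rw [← pow_two, ← hx]
    exact pow_orderOf_eq_one x
  have hx1 : x ≠ 1 := by
    rintro rfl
    rw [orderOf_one] at hx
    omega
  have hinv : ∀ (ψ : IrrCharacter G) (d : ℕ), charDegree (ψ : G → ℂ) = d →
      ∃ m : ℕ, (ψ : G → ℂ) x = (((d : ℤ) - 4 * (m : ℤ) : ℤ) : ℂ) := by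
    intro ψ d hd
    obtain ⟨m, hm⟩ := Cfsg.Agent.Lib.Helper69.InvDet.char_invol hperf
      (isCharacter_of_irr ψ.2) x hx2
    refine ⟨m, ?_⟩
    rw [hm, deg_eq, hd]
    push_cast
    ring
  obtain ⟨kx, hkx⟩ := hinv t.a₁ 45 t.d1
  obtain ⟨k₁, hk₁⟩ := hinv t.a₂ 10 t.d2
  obtain ⟨k₂, hk₂⟩ := hinv t.a₃ 10 t.d3
  obtain ⟨k₃, hk₃⟩ := hinv t.a₄ 10 t.d4
  obtain ⟨ka, hka⟩ := hinv t.α 11 t.dα
  obtain ⟨kv, hkv⟩ := hinv t.β 44 t.dβ
  obtain ⟨ks, hks⟩ := hinv t.r 55 t.dr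
  obtain ⟨X, hX⟩ : ∃ X : ℤ, X = ((45 : ℕ) : ℤ) - 4 * (kx : ℤ) := ⟨_, rfl⟩
  obtain ⟨U₁, hU₁⟩ : ∃ U₁ : ℤ, U₁ = ((10 : ℕ) : ℤ) - 4 * (k₁ : ℤ) := ⟨_, rfl⟩
  obtain ⟨U₂, hU₂⟩ : ∃ U₂ : ℤ, U₂ = ((10 : ℕ) : ℤ) - 4 * (k₂ : ℤ) := ⟨_, rfl⟩
  obtain ⟨U₃, hU₃⟩ : ∃ U₃ : ℤ, U₃ = ((10 : ℕ) : ℤ) - 4 * (k₃ : ℤ) := ⟨_, rfl⟩
  obtain ⟨A, hA⟩ : ∃ A : ℤ, A = ((11 : ℕ) : ℤ) - 4 * (ka : ℤ) := ⟨_, rfl⟩
  obtain ⟨V, hV⟩ : ∃ V : ℤ, V = ((44 : ℕ) : ℤ) - 4 * (kv : ℤ) := ⟨_, rfl⟩
  obtain ⟨S, hS⟩ : ∃ S : ℤ, S = ((55 : ℕ) : ℤ) - 4 * (ks : ℤ) := ⟨_, rfl⟩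
  rw [← hX] at hkx
  rw [← hU₁] at hk₁
  rw [← hU₂] at hk₂
  rw [← hU₃] at hk₃
  rw [← hA] at hka
  rw [← hV] at hkv
  rw [← hS] at hks
  have hvan : ∀ ψ : IrrCharacter G, charDegree (ψ : G → ℂ) = 16 → (ψ : G → ℂ) x = 0 := by
    intro ψ hψ
    exact Cfsg.Agent.S4478.vanish ψ 2 Nat.prime_two (by rw [h, fact7920_2, hψ]; norm_num) x
      (by rw [hx])
  have hθ0 := hvan t.θ₀ t.dθ0
  have hθ1 := hvan t.θ₁ t.dθ1
  obtain ⟨hA1, -⟩ := t.hA x (by rw [hx]; norm_num)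
  have hB1 := t.hB x (by rw [hx]; norm_num)
  have hC := sum_apply_one_mul_of_ne_sum x hx1
  rw [t.hsum ℂ (fun ψ => (ψ : G → ℂ) 1 * (ψ : G → ℂ) x)] at hC
  have hD := second_orthogonality_sum_of_isConj x x (IsConj.refl x)
  rw [t.hsum ℂ (fun ψ => (ψ : G → ℂ) x * conj ((ψ : G → ℂ) x))] at hD
  simp only [deg_eq, charDegree_trivIrr, t.d1, t.d2, t.d3, t.d4, t.dθ0, t.dθ1, t.dα, t.dβ, t.dr,
    trivIrr_apply, hkx, hk₁, hk₂, hk₃, hka, hkv, hks, hθ0, hθ1] at hC
  simp only [trivIrr_apply, hkx, hk₁, hk₂, hk₃, hka, hkv, hks, hθ0, hθ1, map_intCast, map_zero,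
    map_one] at hD
  rw [hkx, hk₁, hk₂, hk₃, hθ0] at hA1
  rw [hka, hkv, hθ0, hθ1] at hB1
  obtain ⟨c, hc⟩ : ∃ c : ℕ, c = Nat.card (centralizer ({x} : Set G)) := ⟨_, rfl⟩
  rw [← hc] at hD ⊢
  have hA' : (1 : ℤ) + X - U₁ - U₂ - U₃ = 0 := by
    have h1 : (((1 : ℤ) + X - U₁ - U₂ - U₃ : ℤ) : ℂ) = 0 := by
      push_cast
      exact hA1
    exact_mod_cast h1
  have hB' : (1 : ℤ) + A - V = 0 := by
    have h1 : (((1 : ℤ) + A - V : ℤ) : ℂ) = 0 := by
      push_cast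
      linear_combination hB1
    exact_mod_cast h1
  have hC' : (1 : ℤ) + 45 * X + 10 * U₁ + 10 * U₂ + 10 * U₃ + 11 * A + 44 * V + 55 * S = 0 := by
    have h1 : (((1 : ℤ) + 45 * X + 10 * U₁ + 10 * U₂ + 10 * U₃ + 11 * A + 44 * V + 55 * S : ℤ)
        : ℂ) = 0 := by
      push_cast
      push_cast at hC
      linear_combination hC
    exact_mod_cast h1
  have hD' : (c : ℤ) = 1 + X * X + U₁ * U₁ + U₂ * U₂ + U₃ * U₃ + A * A + V * V + S * S := by
    have h1 : (((c : ℤ)) : ℂ)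
        = ((1 + X * X + U₁ * U₁ + U₂ * U₂ + U₃ * U₃ + A * A + V * V + S * S : ℤ) : ℂ) := by
      push_cast
      linear_combination -hD
    exact_mod_cast h1
  -- the order divides 144
  have hdvd : c ∣ 144 := by
    apply div144 c
    · rw [Nat.mem_divisors]
      exact ⟨by rw [hc, ← h]; exact Subgroup.card_subgroup_dvd_card _, by norm_num⟩
    · intro h5
      rw [hc] at h5
      haveI : Fact (Nat.Prime 5) := ⟨by norm_num⟩
      obtain ⟨z, hz⟩ := exists_prime_orderOf_dvd_card' 5 h5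
      have hz5 : orderOf (z : G) = 5 := by
        rw [Subgroup.orderOf_coe]
        exact hz
      have hcomm : Commute (z : G) x :=
        (mem_centralizer_iff.mp z.2 x (Set.mem_singleton x)).symm
      exact Cfsg.Agent.Lib.Helper68.M11Inv.no_invol_five hG
        (by rw [h]; exact Cfsg.Agent.Lib.Helper68.M11Syl5.fact7920) t.a₂ t.d2 (z : G) x hz5 hx
        hcomm
    · intro h11
      rw [hc] at h11
      haveI : Fact (Nat.Prime 11) := ⟨by norm_num⟩
      obtain ⟨y, hy⟩ := exists_prime_orderOf_dvd_card' 11 h11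
      have hy11 : orderOf (y : G) = 11 := by
        rw [Subgroup.orderOf_coe]
        exact hy
      have hcomm : Commute (y : G) x :=
        (mem_centralizer_iff.mp y.2 x (Set.mem_singleton x)).symm
      exact no_comm_11 h hG (y : G) x hy11 hx hcomm
  have hle : c ≤ 144 := Nat.le_of_dvd (by norm_num) hdvd
  have hle' : (c : ℤ) ≤ 144 := by exact_mod_cast hle
  have hXe : X = 29 - 4 * (k₁ : ℤ) - 4 * (k₂ : ℤ) - 4 * (k₃ : ℤ) := by
    push_cast at hU₁ hU₂ hU₃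
    linarith
  have hVe : V = 12 - 4 * (ka : ℤ) := by
    push_cast at hA
    linarith
  have hSe : S = -(41 - 4 * (k₁ : ℤ) - 4 * (k₂ : ℤ) - 4 * (k₃ : ℤ) - 4 * (ka : ℤ)) := by
    push_cast at hU₁ hU₂ hU₃ hA
    linarith
  push_cast at hU₁ hU₂ hU₃ hA
  have hsq1 : U₁ * U₁ ≤ 143 := by
    linarith [mul_self_nonneg X, mul_self_nonneg U₂, mul_self_nonneg U₃, mul_self_nonneg A,
      mul_self_nonneg V, mul_self_nonneg S]
  have hsq2 : U₂ * U₂ ≤ 143 := by
    linarith [mul_self_nonneg X, mul_self_nonneg U₁, mul_self_nonneg U₃, mul_self_nonneg A,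
      mul_self_nonneg V, mul_self_nonneg S]
  have hsq3 : U₃ * U₃ ≤ 143 := by
    linarith [mul_self_nonneg X, mul_self_nonneg U₁, mul_self_nonneg U₂, mul_self_nonneg A,
      mul_self_nonneg V, mul_self_nonneg S]
  have hsq4 : A * A ≤ 143 := by
    linarith [mul_self_nonneg X, mul_self_nonneg U₁, mul_self_nonneg U₂, mul_self_nonneg U₃,
      mul_self_nonneg V, mul_self_nonneg S]
  have hk1 : k₁ < 6 := by
    by_contra hcon
    push Not at hcon
    have h1 : (6 : ℤ) ≤ (k₁ : ℤ) := by exact_mod_cast hcon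
    have h2 : U₁ ≤ -14 := by linarith
    nlinarith [mul_self_nonneg (U₁ + 14)]
  have hk2 : k₂ < 6 := by
    by_contra hcon
    push Not at hcon
    have h1 : (6 : ℤ) ≤ (k₂ : ℤ) := by exact_mod_cast hcon
    have h2 : U₂ ≤ -14 := by linarith
    nlinarith [mul_self_nonneg (U₂ + 14)]
  have hk3 : k₃ < 6 := by
    by_contra hcon
    push Not at hcon
    have h1 : (6 : ℤ) ≤ (k₃ : ℤ) := by exact_mod_cast hcon
    have h2 : U₃ ≤ -14 := by linarith
    nlinarith [mul_self_nonneg (U₃ + 14)]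
  have hk4 : ka < 6 := by
    by_contra hcon
    push Not at hcon
    have h1 : (6 : ℤ) ≤ (ka : ℤ) := by exact_mod_cast hcon
    have h2 : A ≤ -13 := by linarith
    nlinarith [mul_self_nonneg (A + 13)]
  have hcol : colval k₁ k₂ k₃ ka = (c : ℤ) := by
    unfold colval
    rw [hD', hXe, hVe, hSe, hU₁, hU₂, hU₃, hA]
    ring
  have hfin := inv_col k₁ hk1 k₂ hk2 k₃ hk3 ka hk4 (by rw [hcol, Int.toNat_natCast]; exact hdvd)
  rw [hcol, Int.toNat_natCast] at hfin
  exact hfin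

/-- The Frobenius–Schur count of the involutions. -/
theorem fs_count [IsSimpleGroup G] (t : Tab G) (h : Nat.card G = 7920) :
    ∃ n₂ n₃ n₄ m₀ m₁ nβ : ℤ, (-1 ≤ n₂ ∧ n₂ ≤ 1) ∧ (-1 ≤ n₃ ∧ n₃ ≤ 1) ∧ (-1 ≤ n₄ ∧ n₄ ≤ 1) ∧
      (0 ≤ m₀ ∧ m₀ ≤ 1) ∧ (0 ≤ m₁ ∧ m₁ ≤ 1) ∧ (nβ = 1 ∨ nβ = -1) ∧
      ((E G 2).card : ℤ) = 111 + 44 * nβ + 10 * (n₂ + n₃ + n₄) + 16 * (m₀ + m₁) := by
  classical
  have hu : ∀ φ : IrrCharacter G, (charDegree (φ : G → ℂ) = 45 → φ = t.a₁) ∧
      (charDegree (φ : G → ℂ) = 11 → φ = t.α) ∧ (charDegree (φ : G → ℂ) = 44 → φ = t.β) ∧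
      (charDegree (φ : G → ℂ) = 55 → φ = t.r) := by
    intro φ
    rcases t.hmem φ with h' | h' | h' | h' | h' | h' | h' | h' | h' | h' <;> subst h' <;>
      simp [charDegree_trivIrr, t.d1, t.d2, t.d3, t.d4, t.dθ0, t.dθ1, t.dα, t.dβ, t.dr]
  have hr1 := real_of_unique t.a₁ (fun φ hφ => (hu φ).1 (by rw [hφ, t.d1]))
  have hrα := real_of_unique t.α (fun φ hφ => (hu φ).2.1 (by rw [hφ, t.dα]))
  have hrβ := real_of_unique t.β (fun φ hφ => (hu φ).2.2.1 (by rw [hφ, t.dβ]))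
  have hrr := real_of_unique t.r (fun φ hφ => (hu φ).2.2.2 (by rw [hφ, t.dr]))
  have f1 : fsInt (t.a₁ : G → ℂ) = 1 := by
    rcases fsInt_real t.a₁ hr1 with h' | h'
    · exact h'
    · exact absurd h' (fsInt_ne_neg_one_of_odd t.a₁ (by rw [t.d1]; decide))
  have fα : fsInt (t.α : G → ℂ) = 1 := by
    rcases fsInt_real t.α hrα with h' | h'
    · exact h'
    · exact absurd h' (fsInt_ne_neg_one_of_odd t.α (by rw [t.dα]; decide))
  have fr : fsInt (t.r : G → ℂ) = 1 := by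
    rcases fsInt_real t.r hrr with h' | h'
    · exact h'
    · exact absurd h' (fsInt_ne_neg_one_of_odd t.r (by rw [t.dr]; decide))
  have fβ := fsInt_real t.β hrβ
  have b2 := abs_le.mp (fsInt_abs_le_one (t.a₂ : G → ℂ))
  have b3 := abs_le.mp (fsInt_abs_le_one (t.a₃ : G → ℂ))
  have b4 := abs_le.mp (fsInt_abs_le_one (t.a₄ : G → ℂ))
  have c0 := abs_le.mp (fsInt_abs_le_one (t.θ₀ : G → ℂ))
  have c1 := abs_le.mp (fsInt_abs_le_one (t.θ₁ : G → ℂ))
  have d0 := fsInt_defect_zero h t.θ₀ t.dθ0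
  have d1 := fsInt_defect_zero h t.θ₁ t.dθ1
  have hT : fsInt ((trivIrr G : IrrCharacter G) : G → ℂ) = 1 := by
    have h1 : ((trivIrr G : IrrCharacter G) : G → ℂ) = fun _ => (1 : ℂ) :=
      funext (trivIrr_apply G)
    rw [h1]
    exact fsInt_one
  have hN : Nat.card {u : G // u * u = 1} = (E G 2).card + 1 := by
    rw [Nat.card_eq_fintype_card, Fintype.card_subtype]
    have h1 : (Finset.univ.filter (fun u : G => u * u = 1)) = insert 1 (E G 2) := by
      ext u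
      simp only [Finset.mem_filter, Finset.mem_univ, true_and, Finset.mem_insert, mem_E]
      constructor
      · intro hu
        have h1 : orderOf u ∣ 2 := orderOf_dvd_of_pow_eq_one (by rw [pow_two]; exact hu)
        rcases (Nat.dvd_prime Nat.prime_two).mp h1 with h2 | h2
        · left; exact orderOf_eq_one_iff.mp h2
        · right; exact h2
      · rintro (rfl | hu)
        · simp
        · rw [← pow_two, ← hu]
          exact pow_orderOf_eq_one u
    rw [h1, Finset.card_insert_of_notMem (by rw [mem_E, orderOf_one]; norm_num)]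
  have hcount := card_sq_eq_one (G := G)
  rw [t.hsum ℤ (fun χ => fsInt (χ : G → ℂ) * (charDegree (χ : G → ℂ) : ℤ)), hN, hT, f1, fα, fr,
    charDegree_trivIrr, t.d1, t.d2, t.d3, t.d4, t.dθ0, t.dθ1, t.dα, t.dβ, t.dr] at hcount
  refine ⟨fsInt (t.a₂ : G → ℂ), fsInt (t.a₃ : G → ℂ), fsInt (t.a₄ : G → ℂ),
    fsInt (t.θ₀ : G → ℂ), fsInt (t.θ₁ : G → ℂ), fsInt (t.β : G → ℂ), b2, b3, b4,
    ⟨by omega, c0.2⟩, ⟨by omega, c1.2⟩, fβ, ?_⟩
  push_cast at hcount ⊢
  linarith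

/-- Not all involutions can have a centralizer of order `144`. -/
theorem no144 [IsSimpleGroup G] (t : Tab G) (h : Nat.card G = 7920) (x : G)
    (hx : orderOf x = 2)
    (hall : ∀ y : G, orderOf y = 2 → Nat.card (centralizer ({y} : Set G)) = 144)
    (hI : (E G 2).card = 165) : False := by
  classical
  have htot := sum_card_centralizer (G := G)
  have hk : Fintype.card (IrrCharacter G) = 10 := by
    rw [← Finset.card_univ, Finset.card_eq_sum_ones, t.hsum ℕ (fun _ => 1)]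
    norm_num
  rw [hk, h, sum_by_order (fun g => Nat.card (centralizer ({g} : Set G)))] at htot
  have hcnt := sum_by_order (G := G) (fun _ => 1)
  simp only [Finset.sum_const, smul_eq_mul, mul_one, Finset.card_univ] at hcnt
  rw [← Nat.card_eq_fintype_card, h, hI, card_E5 t h, card_E11 t h] at hcnt
  have h1 : Nat.card (centralizer ({(1 : G)} : Set G)) = 7920 := by
    have h2 : centralizer ({(1 : G)} : Set G) = ⊤ := by
      ext g
      simp [mem_centralizer_iff]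
    rw [h2, Subgroup.card_top, h]
  have h2 : ∑ g ∈ E G 2, Nat.card (centralizer ({g} : Set G)) = 165 * 144 := by
    rw [Finset.sum_congr rfl (fun g hg => hall g ((mem_E 2 g).mp hg)), Finset.sum_const, hI,
      smul_eq_mul]
  have h5 : 1584 * 5 ≤ ∑ g ∈ E G 5, Nat.card (centralizer ({g} : Set G)) := by
    have h' := Finset.card_nsmul_le_sum (E G 5)
      (fun g => Nat.card (centralizer ({g} : Set G))) 5 (fun g hg => by
        have h'' := orderOf_le_card_centralizer g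
        rw [(mem_E 5 g).mp hg] at h''
        exact h'')
    rw [card_E5 t h, smul_eq_mul] at h'
    exact h'
  have h11 : 1440 * 11 ≤ ∑ g ∈ E G 11, Nat.card (centralizer ({g} : Set G)) := by
    have h' := Finset.card_nsmul_le_sum (E G 11)
      (fun g => Nat.card (centralizer ({g} : Set G))) 11 (fun g hg => by
        have h'' := orderOf_le_card_centralizer g
        rw [(mem_E 11 g).mp hg] at h''
        exact h'')
    rw [card_E11 t h, smul_eq_mul] at h'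
    exact h'
  obtain ⟨g, hg3, hgx⟩ : ∃ g : G, orderOf g = 3 ∧ Commute g x := by
    haveI : Fact (Nat.Prime 3) := ⟨by norm_num⟩
    have hd : 3 ∣ Nat.card (centralizer ({x} : Set G)) := by
      rw [hall x hx]
      norm_num
    obtain ⟨g, hg⟩ := exists_prime_orderOf_dvd_card' 3 hd
    exact ⟨(g : G), by rw [Subgroup.orderOf_coe]; exact hg,
      (mem_centralizer_iff.mp g.2 x (Set.mem_singleton x)).symm⟩
  have hg6 : orderOf (g * x) = 6 := by
    rw [hgx.orderOf_mul_eq_mul_orderOf_of_coprime (by rw [hg3, hx]; norm_num), hg3, hx]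
  have hinvE : ∀ n : ℕ, ∀ a ∈ E G n, ∀ b, IsConj a b → b ∈ E G n := by
    intro n a ha b hab
    rw [mem_E] at ha ⊢
    rw [orderOf_eq_of_isConj hab, ha]
  obtain ⟨k3, hk3, hk3pos⟩ := class_count (E G 3) (hinvE 3)
  obtain ⟨k6, hk6, hk6pos⟩ := class_count (E G 6) (hinvE 6)
  have hk3' := hk3pos ⟨g, (mem_E 3 g).mpr hg3⟩
  have hk6' := hk6pos ⟨g * x, (mem_E 6 _).mpr hg6⟩
  rw [h] at hk3 hk6
  have hb3 : (E G 3).card * 9 ≤ ∑ g ∈ E G 3, Nat.card (centralizer ({g} : Set G)) := by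
    have h' := Finset.card_nsmul_le_sum (E G 3)
      (fun g => Nat.card (centralizer ({g} : Set G))) 9
      (fun g hg => nine_le h g ((mem_E 3 g).mp hg))
    rw [smul_eq_mul] at h'
    exact h'
  have hb6 : (E G 6).card * 6 ≤ ∑ g ∈ E G 6, Nat.card (centralizer ({g} : Set G)) := by
    have h' := Finset.card_nsmul_le_sum (E G 6)
      (fun g => Nat.card (centralizer ({g} : Set G))) 6 (fun g hg => by
        have h'' := orderOf_le_card_centralizer g
        rw [(mem_E 6 g).mp hg] at h''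
        exact h'')
    rw [smul_eq_mul] at h'
    exact h'
  have hbR : (Rest G).card * 4 ≤ ∑ g ∈ Rest G, Nat.card (centralizer ({g} : Set G)) := by
    have h' := Finset.card_nsmul_le_sum (Rest G)
      (fun g => Nat.card (centralizer ({g} : Set G))) 4 (fun g hg => by
        have h'' := orderOf_le_card_centralizer g
        have h3 := (mem_Rest g).mp hg
        have h4 := orderOf_pos g
        omega)
    rw [smul_eq_mul] at h'
    exact h'
  omega

/-- In a simple group of order `7920` every involution has a centralizer of order `48`. -/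
theorem cent_inv [IsSimpleGroup G] (h : Nat.card G = 7920) (x : G) (hx : orderOf x = 2) :
    Nat.card (centralizer ({x} : Set G)) = 48 := by
  classical
  obtain ⟨t⟩ := exists_tab h
  have hcases := fun y hy => inv_cent t h y hy
  obtain ⟨n₂, n₃, n₄, m₀, m₁, nβ, hb2, hb3, hb4, hc0, hc1, hβ, hI⟩ := fs_count t h
  obtain ⟨L, hL⟩ : ∃ L : ℕ → Finset G, L = fun c =>
      (E G 2).filter (fun g => Nat.card (centralizer ({g} : Set G)) = c) := ⟨_, rfl⟩
  have hLmem : ∀ c g, g ∈ L c ↔ orderOf g = 2 ∧ Nat.card (centralizer ({g} : Set G)) = c := by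
    intro c g
    rw [hL, Finset.mem_filter, mem_E]
  have hLinv : ∀ c, ∀ a ∈ L c, ∀ b, IsConj a b → b ∈ L c := by
    intro c a ha b hab
    rw [hLmem] at ha ⊢
    exact ⟨by rw [orderOf_eq_of_isConj hab, ha.1],
      by rw [Cfsg.Agent.Lib.Helper17.KleinCount.card_centralizer_of_isConj hab, ha.2]⟩
  have hLc : ∀ c, ∃ k, c * (L c).card = k * 7920 := by
    intro c
    obtain ⟨k, hk, -⟩ := class_count (L c) (hLinv c)
    refine ⟨k, ?_⟩
    rw [← h, ← hk, Finset.sum_congr rfl (fun a ha => ((hLmem c a).mp ha).2), Finset.sum_const,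
      smul_eq_mul, mul_comm]
  obtain ⟨k16, h16⟩ := hLc 16
  obtain ⟨k48, h48⟩ := hLc 48
  obtain ⟨k144, h144⟩ := hLc 144
  have hE2 : (E G 2).card = (L 16).card + (L 48).card + (L 144).card := by
    rw [hL]
    simp only [Finset.card_filter]
    rw [← Finset.sum_add_distrib, ← Finset.sum_add_distrib, Finset.card_eq_sum_ones]
    refine Finset.sum_congr rfl (fun g hg => ?_)
    rcases hcases g ((mem_E 2 g).mp hg) with h' | h' | h' <;> rw [h'] <;> simp
  rcases hcases x hx with hc | hc | hc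
  · exfalso
    have hxL : 0 < (L 16).card := Finset.card_pos.mpr ⟨x, (hLmem 16 x).mpr ⟨hx, hc⟩⟩
    omega
  · exact hc
  · exfalso
    have hxL : 0 < (L 144).card := Finset.card_pos.mpr ⟨x, (hLmem 144 x).mpr ⟨hx, hc⟩⟩
    have h0 : (L 16).card = 0 := by omega
    have h1 : (L 48).card = 0 ∧ (E G 2).card = 165 := by omega
    have hall : ∀ y : G, orderOf y = 2 → Nat.card (centralizer ({y} : Set G)) = 144 := by
      intro y hy
      rcases hcases y hy with h' | h' | h'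
      · have : y ∈ L 16 := (hLmem 16 y).mpr ⟨hy, h'⟩
        rw [Finset.card_eq_zero.mp h0] at this
        exact absurd this (Finset.notMem_empty y)
      · have : y ∈ L 48 := (hLmem 48 y).mpr ⟨hy, h'⟩
        rw [Finset.card_eq_zero.mp h1.1] at this
        exact absurd this (Finset.notMem_empty y)
      · exact h'
    exact no144 t h x hx hall h1.2

end table

end Cfsg.Agent.Lib.Helper68.M11Inv2
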