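import Mathlib

/-!
# Linked symmetric designs from a twisted 2-transitive action (helper68)

Abstract counting core of: "an odd-order automorphism of a 2-transitive group whose twisted point
stabiliser has an orbit of length coprime to the degree is induced by a permutation".

Setting (`Sys ρ β N k`): a group `Γ` with a 2-transitive permutation representation `ρ` on a finite
set `Ω`, an automorphism `β` of `Γ`, and a 0/1 matrix `N` on `Ω × Ω` invariant under
`(x, y) ↦ (ρ g x, ρ (β g) y)`, with column sums `k`, `0 < k < |Ω|`, `k` coprime to `|Ω|`.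
Conclusion (`Sys.exists_fixed`): every stabiliser of a point in the `β²`-twisted action fixes a point
in the untwisted action.
-/

set_option autoImplicit false

namespace Cfsg.Agent.Lib.Helper68.Linked

open Finset

variable {Ω : Type*} [Fintype Ω] [DecidableEq Ω]

theorem sum_split (p : Ω) (f : Ω → ℤ) (c : ℤ) (h : ∀ x, x ≠ p → f x = c) :
    ∑ x, f x = f p + ((Fintype.card Ω : ℤ) - 1) * c := by
  rw [← Finset.add_sum_erase Finset.univ f (Finset.mem_univ p)]
  congr 1
  rw [Finset.sum_congr rfl (fun x hx => h x (Finset.ne_of_mem_erase hx)), Finset.sum_const,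
    Finset.card_erase_of_mem (Finset.mem_univ p), Finset.card_univ, nsmul_eq_mul,
    Nat.cast_sub (Fintype.card_pos_iff.2 ⟨p⟩), Nat.cast_one]

theorem sum_ite_mul (y : Ω) (c : ℤ) (f : Ω → ℤ) :
    ∑ y', c * (if y = y' then 1 else 0) * f y' = c * f y := by
  rw [Finset.sum_eq_single y]
  · simp
  · intro b _ hb
    simp [Ne.symm hb]
  · intro h
    exact absurd (Finset.mem_univ y) h

/-- Parameters of a "symmetric design" matrix. -/
structure Par (N : Ω → Ω → ℤ) (k lam : ℤ) : Prop where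
  row : ∀ x, ∑ y, N x y = k
  col : ∀ y, ∑ x, N x y = k
  rr : ∀ x x', ∑ y, N x y * N x' y = lam + (k - lam) * (if x = x' then 1 else 0)
  cc : ∀ y y', ∑ x, N x y * N x y' = lam + (k - lam) * (if y = y' then 1 else 0)
  eq : k * k = (k - lam) + lam * (Fintype.card Ω : ℤ)

/-- The square of the matrix. -/
def P (N : Ω → Ω → ℤ) (x z : Ω) : ℤ := ∑ y, N x y * N y z

/-- The square of the matrix, shifted. -/
def W (N : Ω → Ω → ℤ) (lam : ℤ) (x z : Ω) : ℤ := P N x z - lam

section ParLemmas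

variable {N : Ω → Ω → ℤ} {k lam : ℤ}

theorem P_row (h : Par N k lam) (x : Ω) : ∑ z, P N x z = k * k := by
  unfold P
  calc ∑ z, ∑ y, N x y * N y z = ∑ y, ∑ z, N x y * N y z := Finset.sum_comm
    _ = ∑ y, N x y * ∑ z, N y z := Finset.sum_congr rfl (fun y _ => (Finset.mul_sum _ _ _).symm)
    _ = ∑ y, N x y * k := Finset.sum_congr rfl (fun y _ => by rw [h.row y])
    _ = (∑ y, N x y) * k := (Finset.sum_mul _ _ _).symm
    _ = k * k := by rw [h.row x]

theorem P_col (h : Par N k lam) (z : Ω) : ∑ x, P N x z = k * k := by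
  unfold P
  calc ∑ x, ∑ y, N x y * N y z = ∑ y, ∑ x, N x y * N y z := Finset.sum_comm
    _ = ∑ y, (∑ x, N x y) * N y z := Finset.sum_congr rfl (fun y _ => (Finset.sum_mul _ _ _).symm)
    _ = ∑ y, k * N y z := Finset.sum_congr rfl (fun y _ => by rw [h.col y])
    _ = k * ∑ y, N y z := (Finset.mul_sum _ _ _).symm
    _ = k * k := by rw [h.col z]

theorem W_row (h : Par N k lam) (x : Ω) : ∑ z, W N lam x z = k - lam := by
  unfold W
  rw [Finset.sum_sub_distrib, P_row h, Finset.sum_const, Finset.card_univ, nsmul_eq_mul]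
  linear_combination h.eq

theorem W_col (h : Par N k lam) (z : Ω) : ∑ x, W N lam x z = k - lam := by
  unfold W
  rw [Finset.sum_sub_distrib, P_col h, Finset.sum_const, Finset.card_univ, nsmul_eq_mul]
  linear_combination h.eq

theorem N_P (h : Par N k lam) (y z : Ω) :
    ∑ x, N x y * P N x z = lam * k + (k - lam) * N y z := by
  unfold P
  calc ∑ x, N x y * ∑ y', N x y' * N y' z
      = ∑ x, ∑ y', N x y * N x y' * N y' z :=
        Finset.sum_congr rfl (fun x _ => by
          rw [Finset.mul_sum]; exact Finset.sum_congr rfl (fun y' _ => by ring))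
    _ = ∑ y', ∑ x, N x y * N x y' * N y' z := Finset.sum_comm
    _ = ∑ y', (∑ x, N x y * N x y') * N y' z :=
        Finset.sum_congr rfl (fun y' _ => (Finset.sum_mul _ _ _).symm)
    _ = ∑ y', (lam * N y' z + (k - lam) * (if y = y' then 1 else 0) * N y' z) :=
        Finset.sum_congr rfl (fun y' _ => by rw [h.cc y y']; ring)
    _ = lam * ∑ y', N y' z + (k - lam) * N y z := by
        rw [Finset.sum_add_distrib, ← Finset.mul_sum, sum_ite_mul]
    _ = lam * k + (k - lam) * N y z := by rw [h.col z]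

theorem N_W (h : Par N k lam) (y z : Ω) :
    ∑ x, N x y * W N lam x z = (k - lam) * N y z := by
  unfold W
  calc ∑ x, N x y * (P N x z - lam) = ∑ x, (N x y * P N x z - lam * N x y) :=
        Finset.sum_congr rfl (fun x _ => by ring)
    _ = ∑ x, N x y * P N x z - lam * ∑ x, N x y := by
        rw [Finset.sum_sub_distrib, ← Finset.mul_sum]
    _ = (k - lam) * N y z := by rw [N_P h, h.col y]; ring

theorem P_P (h : Par N k lam) (x x' : Ω) :
    ∑ z, P N x z * P N x' z
      = lam * (k * k) + (k - lam) * (lam + (k - lam) * (if x = x' then 1 else 0)) := by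
  unfold P
  calc ∑ z, (∑ y, N x y * N y z) * (∑ y', N x' y' * N y' z)
      = ∑ z, ∑ y, ∑ y', N x y * N x' y' * (N y z * N y' z) :=
        Finset.sum_congr rfl (fun z _ => by
          rw [Finset.sum_mul_sum]
          exact Finset.sum_congr rfl (fun y _ => Finset.sum_congr rfl (fun y' _ => by ring)))
    _ = ∑ y, ∑ z, ∑ y', N x y * N x' y' * (N y z * N y' z) := Finset.sum_comm
    _ = ∑ y, ∑ y', ∑ z, N x y * N x' y' * (N y z * N y' z) :=
        Finset.sum_congr rfl (fun y _ => Finset.sum_comm)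
    _ = ∑ y, ∑ y', N x y * N x' y' * ∑ z, N y z * N y' z :=
        Finset.sum_congr rfl (fun y _ => Finset.sum_congr rfl (fun y' _ =>
          (Finset.mul_sum _ _ _).symm))
    _ = ∑ y, ∑ y', (lam * (N x y * N x' y')
          + (k - lam) * (if y = y' then 1 else 0) * (N x y * N x' y')) :=
        Finset.sum_congr rfl (fun y _ => Finset.sum_congr rfl (fun y' _ => by
          rw [h.rr y y']; ring))
    _ = ∑ y, (lam * (N x y * k) + (k - lam) * (N x y * N x' y)) :=
        Finset.sum_congr rfl (fun y _ => by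
          rw [Finset.sum_add_distrib, ← Finset.mul_sum, ← Finset.mul_sum, h.row x',
            sum_ite_mul y (k - lam) (fun y' => N x y * N x' y')])
    _ = lam * ((∑ y, N x y) * k) + (k - lam) * ∑ y, N x y * N x' y := by
        rw [Finset.sum_add_distrib, ← Finset.mul_sum, ← Finset.mul_sum, ← Finset.sum_mul]
    _ = lam * (k * k) + (k - lam) * (lam + (k - lam) * (if x = x' then 1 else 0)) := by
        rw [h.row x, h.rr x x']

theorem W_orth (h : Par N k lam) (x x' : Ω) :
    ∑ z, W N lam x z * W N lam x' z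
      = (k - lam) * (k - lam) * (if x = x' then 1 else 0) := by
  unfold W
  calc ∑ z, (P N x z - lam) * (P N x' z - lam)
      = ∑ z, (P N x z * P N x' z - lam * P N x z - lam * P N x' z + lam * lam) :=
        Finset.sum_congr rfl (fun z _ => by ring)
    _ = ∑ z, P N x z * P N x' z - lam * ∑ z, P N x z - lam * ∑ z, P N x' z
          + (Fintype.card Ω : ℤ) * (lam * lam) := by
        rw [Finset.sum_add_distrib, Finset.sum_sub_distrib, Finset.sum_sub_distrib,
          ← Finset.mul_sum, ← Finset.mul_sum, Finset.sum_const, Finset.card_univ, nsmul_eq_mul]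
    _ = (k - lam) * (k - lam) * (if x = x' then 1 else 0) := by
        rw [P_P h, P_row h, P_row h]
        split_ifs <;> linear_combination (-lam) * h.eq

end ParLemmas

/-- Integer arithmetic at the end of the argument. -/
theorem arith (n k No w₁ w₂ m₁ m₂ A t₀ t₁ : ℤ) (hNo : No ≠ 0) (hw : w₁ ≠ w₂) (hk0 : 0 < k)
    (hn0 : n ≠ 0) (hcop : IsCoprime n k) (h1 : m₁ + m₂ = n)
    (h2 : n * w₂ + (w₁ - w₂) * m₁ = No)
    (h3 : No * No = A * No + (w₁ * m₁ - A) * w₁) (h4 : 0 = A * No + (w₁ * m₁ - A) * w₂)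
    (h5 : w₂ * k + (w₁ - w₂) * t₀ = 0) (h6 : w₂ * k + (w₁ - w₂) * t₁ = No)
    (ht0 : 0 ≤ t₀) (ht0k : t₀ ≤ k) (ht1 : t₁ ≤ m₁) (hm1 : m₁ ≠ 0) :
    m₁ = 1 ∨ m₂ = 1 := by
  obtain ⟨s, hs⟩ : ∃ s : ℤ, s = w₁ - w₂ := ⟨_, rfl⟩
  have hs0 : s ≠ 0 := by rw [hs]; exact sub_ne_zero.2 hw
  rw [← hs] at h2 h5 h6
  have ha : No * No = (w₁ * m₁ - A) * s := by rw [hs]; linear_combination h3 - h4
  have hb : A * s + No * w₂ = 0 := by
    have : No * (A * s + No * w₂) = 0 := by linear_combination (-s) * h4 + w₂ * ha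
    rcases mul_eq_zero.1 this with h | h
    · exact absurd h hNo
    · exact h
  have hc : m₁ * w₁ * s + No * w₂ = No * No := by linear_combination hb - ha
  have hd : s * (t₁ - t₀) = No := by linear_combination h6 - h5
  have hg : n * t₀ = k * (m₁ - t₁ + t₀) := by
    have : s * (n * t₀ - k * (m₁ - t₁ + t₀)) = 0 := by
      linear_combination n * h5 - k * h2 + k * hd
    rcases mul_eq_zero.1 this with h | h
    · exact absurd h hs0
    · linarith
  have hdvd : n ∣ (m₁ - t₁ + t₀) := by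
    apply hcop.dvd_of_dvd_mul_left
    exact ⟨t₀, by linear_combination -hg⟩
  obtain ⟨j, hj⟩ := hdvd
  have ht0j : t₀ = k * j := by
    have : n * (t₀ - k * j) = 0 := by rw [hj] at hg; linear_combination hg
    rcases mul_eq_zero.1 this with h | h
    · exact absurd h hn0
    · linarith
  have hj0 : 0 ≤ j := by
    by_contra h
    push Not at h
    nlinarith
  have hj1 : j ≤ 1 := by
    by_contra h
    push Not at h
    nlinarith
  have hj01 : j = 0 ∨ j = 1 := by omega
  rcases hj01 with rfl | rfl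
  · left
    have ht0' : t₀ = 0 := by rw [ht0j]; ring
    have ht1' : t₁ = m₁ := by rw [ht0'] at hj; linarith
    rw [ht0', ht1'] at hd
    have hw2 : w₂ = 0 := by
      have : n * w₂ = 0 := by linear_combination h2 - hd
      rcases mul_eq_zero.1 this with h | h
      · exact absurd h hn0
      · exact h
    have hsw : s = w₁ := by rw [hs, hw2]; ring
    have hw1 : w₁ ≠ 0 := by rw [← hsw]; exact hs0
    rw [hw2, hsw] at hc
    rw [hsw] at hd
    have : w₁ * w₁ * m₁ * (m₁ - 1) = 0 := by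
      have h7 : No = w₁ * m₁ := by linear_combination -hd
      rw [h7] at hc
      linear_combination -hc
    rcases mul_eq_zero.1 this with h | h
    · rcases mul_eq_zero.1 h with h | h
      · rcases mul_eq_zero.1 h with h | h <;> exact absurd h hw1
      · exact absurd h hm1
    · linarith
  · right
    have ht0' : t₀ = k := by rw [ht0j]; ring
    have ht1' : t₁ = k - m₂ := by rw [ht0'] at hj; linarith
    have hw1 : w₁ = 0 := by
      rw [ht0'] at h5
      have : k * w₁ = 0 := by rw [hs] at h5; linear_combination h5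
      rcases mul_eq_zero.1 this with h | h
      · exact absurd h hk0.ne'
      · exact h
    have hsw : s = -w₂ := by rw [hs, hw1]; ring
    rw [ht0', ht1', hsw] at hd
    rw [hw1] at hc
    have h8 : No * (w₂ - No) = 0 := by linear_combination hc
    have h9 : w₂ = No := by
      rcases mul_eq_zero.1 h8 with h | h
      · exact absurd h hNo
      · linarith
    have : No * (m₂ - 1) = 0 := by rw [h9] at hd; linear_combination hd
    rcases mul_eq_zero.1 this with h | h
    · exact absurd h hNo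
    · linarith

section SysLemmas

variable {Γ : Type*} [Group Γ]

/-- The standing hypotheses. -/
structure Sys (ρ : Γ →* Equiv.Perm Ω) (β : Γ ≃* Γ) (N : Ω → Ω → ℤ) (k : ℤ) : Prop where
  two : ∀ a b c d : Ω, a ≠ b → c ≠ d → ∃ g : Γ, ρ g a = c ∧ ρ g b = d
  inv : ∀ (g : Γ) (x y : Ω), N (ρ g x) (ρ (β g) y) = N x y
  zero_one : ∀ x y, N x y = 0 ∨ N x y = 1
  col : ∃ y₀, ∑ x, N x y₀ = k
  pos : 0 < k
  lt : k < (Fintype.card Ω : ℤ)
  cop : IsCoprime (Fintype.card Ω : ℤ) k

variable {ρ : Γ →* Equiv.Perm Ω} {β : Γ ≃* Γ} {N : Ω → Ω → ℤ} {k : ℤ}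

theorem Sys.trans (S : Sys ρ β N k) (a c : Ω) : ∃ g : Γ, ρ g a = c := by
  by_cases h : a = c
  · exact ⟨1, by simp [h]⟩
  · obtain ⟨g, hg, -⟩ := S.two a c c a h (Ne.symm h)
    exact ⟨g, hg⟩

theorem Sys.trans' (S : Sys ρ β N k) (a c : Ω) : ∃ g : Γ, ρ (β g) a = c := by
  obtain ⟨g, hg⟩ := S.trans a c
  exact ⟨β.symm g, by simpa using hg⟩

theorem Sys.trans'' (S : Sys ρ β N k) (a c : Ω) : ∃ g : Γ, ρ (β (β g)) a = c := by
  obtain ⟨g, hg⟩ := S.trans a c
  exact ⟨β.symm (β.symm g), by simpa using hg⟩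

theorem Sys.two' (S : Sys ρ β N k) (a b c d : Ω) (hab : a ≠ b) (hcd : c ≠ d) :
    ∃ g : Γ, ρ (β g) a = c ∧ ρ (β g) b = d := by
  obtain ⟨g, hg⟩ := S.two a b c d hab hcd
  exact ⟨β.symm g, by simpa using hg⟩

theorem Sys.two'' (S : Sys ρ β N k) (a b c d : Ω) (hab : a ≠ b) (hcd : c ≠ d) :
    ∃ g : Γ, ρ (β (β g)) a = c ∧ ρ (β (β g)) b = d := by
  obtain ⟨g, hg⟩ := S.two a b c d hab hcd
  exact ⟨β.symm (β.symm g), by simpa using hg⟩

theorem Sys.card_two_le (S : Sys ρ β N k) : (2 : ℤ) ≤ Fintype.card Ω := by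
  have h1 := S.pos
  have h2 := S.lt
  omega

theorem Sys.exists_pair (S : Sys ρ β N k) : ∃ p p' : Ω, p ≠ p' := by
  have h2 := S.card_two_le
  have h3 : 1 < Fintype.card Ω := by omega
  exact Fintype.exists_pair_of_one_lt_card h3

theorem Sys.col_all (S : Sys ρ β N k) (y : Ω) : ∑ x, N x y = k := by
  obtain ⟨y₀, h0⟩ := S.col
  obtain ⟨g, hg⟩ := S.trans' y₀ y
  rw [← h0, ← hg]
  calc ∑ x, N x (ρ (β g) y₀) = ∑ x, N (ρ g x) (ρ (β g) y₀) :=
        (Equiv.sum_comp (ρ g) (fun x => N x (ρ (β g) y₀))).symm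
    _ = ∑ x, N x y₀ := Finset.sum_congr rfl (fun x _ => S.inv g x y₀)

theorem Sys.row_all (S : Sys ρ β N k) (x : Ω) : ∑ y, N x y = k := by
  have hconst : ∀ x x' : Ω, ∑ y, N x y = ∑ y, N x' y := by
    intro x x'
    obtain ⟨g, hg⟩ := S.trans x x'
    rw [← hg]
    calc ∑ y, N x y = ∑ y, N (ρ g x) (ρ (β g) y) :=
          Finset.sum_congr rfl (fun y _ => (S.inv g x y).symm)
      _ = ∑ y, N (ρ g x) y := Equiv.sum_comp (ρ (β g)) (fun y => N (ρ g x) y)
  have htot : ∑ x', ∑ y, N x' y = (Fintype.card Ω : ℤ) * k := by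
    rw [Finset.sum_comm, Finset.sum_congr rfl (fun y _ => S.col_all y), Finset.sum_const,
      Finset.card_univ, nsmul_eq_mul]
  have h2 : ∑ x', ∑ y, N x' y = (Fintype.card Ω : ℤ) * ∑ y, N x y := by
    rw [Finset.sum_congr rfl (fun x' _ => hconst x' x), Finset.sum_const, Finset.card_univ,
      nsmul_eq_mul]
  have hn : (Fintype.card Ω : ℤ) ≠ 0 := by
    have := S.card_two_le
    omega
  exact mul_left_cancel₀ hn (h2.symm.trans htot)

theorem Sys.exists_par (S : Sys ρ β N k) : ∃ lam : ℤ, Par N k lam := by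
  have hsq : ∀ x y, N x y * N x y = N x y := by
    intro x y
    rcases S.zero_one x y with h | h <;> simp [h]
  have hrinv : ∀ (g : Γ) (x x' : Ω),
      ∑ y, N (ρ g x) y * N (ρ g x') y = ∑ y, N x y * N x' y := by
    intro g x x'
    calc ∑ y, N (ρ g x) y * N (ρ g x') y
        = ∑ y, N (ρ g x) (ρ (β g) y) * N (ρ g x') (ρ (β g) y) :=
          (Equiv.sum_comp (ρ (β g)) (fun y => N (ρ g x) y * N (ρ g x') y)).symm
      _ = ∑ y, N x y * N x' y := Finset.sum_congr rfl (fun y _ => by rw [S.inv, S.inv])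
  have hcinv : ∀ (g : Γ) (y y' : Ω),
      ∑ x, N x (ρ (β g) y) * N x (ρ (β g) y') = ∑ x, N x y * N x y' := by
    intro g y y'
    calc ∑ x, N x (ρ (β g) y) * N x (ρ (β g) y')
        = ∑ x, N (ρ g x) (ρ (β g) y) * N (ρ g x) (ρ (β g) y') :=
          (Equiv.sum_comp (ρ g) (fun x => N x (ρ (β g) y) * N x (ρ (β g) y'))).symm
      _ = ∑ x, N x y * N x y' := Finset.sum_congr rfl (fun x _ => by rw [S.inv, S.inv])
  obtain ⟨p, p', hpp⟩ := S.exists_pair
  have hr : ∀ x x' : Ω, x ≠ x' → ∑ y, N x y * N x' y = ∑ y, N p y * N p' y := by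
    intro x x' hxx
    obtain ⟨g, hg1, hg2⟩ := S.two p p' x x' hpp hxx
    rw [← hg1, ← hg2, hrinv]
  have hc : ∀ y y' : Ω, y ≠ y' → ∑ x, N x y * N x y' = ∑ x, N x p * N x p' := by
    intro y y' hyy
    obtain ⟨g, hg1, hg2⟩ := S.two' p p' y y' hpp hyy
    rw [← hg1, ← hg2, hcinv]
  have hrd : ∀ x : Ω, ∑ y, N x y * N x y = k := by
    intro x
    rw [Finset.sum_congr rfl (fun y _ => hsq x y), S.row_all]
  have hcd : ∀ y : Ω, ∑ x, N x y * N x y = k := by
    intro y
    rw [Finset.sum_congr rfl (fun x _ => hsq x y), S.col_all]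
  -- totals
  have hrt : ∑ x', ∑ y, N p y * N x' y = k * k := by
    calc ∑ x', ∑ y, N p y * N x' y = ∑ y, ∑ x', N p y * N x' y := Finset.sum_comm
      _ = ∑ y, N p y * ∑ x', N x' y :=
          Finset.sum_congr rfl (fun y _ => (Finset.mul_sum _ _ _).symm)
      _ = ∑ y, N p y * k := Finset.sum_congr rfl (fun y _ => by rw [S.col_all y])
      _ = (∑ y, N p y) * k := (Finset.sum_mul _ _ _).symm
      _ = k * k := by rw [S.row_all p]
  have hrt2 : ∑ x', ∑ y, N p y * N x' y
      = k + ((Fintype.card Ω : ℤ) - 1) * ∑ y, N p y * N p' y := by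
    rw [sum_split p (fun x' => ∑ y, N p y * N x' y) (∑ y, N p y * N p' y)
      (fun x' hx' => hr p x' (Ne.symm hx')), hrd]
  have hct : ∑ y', ∑ x, N x p * N x y' = k * k := by
    calc ∑ y', ∑ x, N x p * N x y' = ∑ x, ∑ y', N x p * N x y' := Finset.sum_comm
      _ = ∑ x, N x p * ∑ y', N x y' :=
          Finset.sum_congr rfl (fun x _ => (Finset.mul_sum _ _ _).symm)
      _ = ∑ x, N x p * k := Finset.sum_congr rfl (fun x _ => by rw [S.row_all x])
      _ = (∑ x, N x p) * k := (Finset.sum_mul _ _ _).symm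
      _ = k * k := by rw [S.col_all p]
  have hct2 : ∑ y', ∑ x, N x p * N x y'
      = k + ((Fintype.card Ω : ℤ) - 1) * ∑ x, N x p * N x p' := by
    rw [sum_split p (fun y' => ∑ x, N x p * N x y') (∑ x, N x p * N x p')
      (fun y' hy' => hc p y' (Ne.symm hy')), hcd]
  have hn1 : (Fintype.card Ω : ℤ) - 1 ≠ 0 := by
    have := S.card_two_le
    omega
  have hlam : ∑ x, N x p * N x p' = ∑ y, N p y * N p' y := by
    have h5 : ((Fintype.card Ω : ℤ) - 1) * ∑ x, N x p * N x p'
        = ((Fintype.card Ω : ℤ) - 1) * ∑ y, N p y * N p' y := by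
      linarith [hrt, hrt2, hct, hct2]
    exact mul_left_cancel₀ hn1 h5
  refine ⟨∑ y, N p y * N p' y, S.row_all, S.col_all, ?_, ?_, ?_⟩
  · intro x x'
    by_cases hxx : x = x'
    · subst hxx
      rw [hrd, if_pos rfl]; ring
    · rw [hr x x' hxx, if_neg hxx]; ring
  · intro y y'
    by_cases hyy : y = y'
    · subst hyy
      rw [hcd, if_pos rfl]; ring
    · rw [hc y y' hyy, hlam, if_neg hyy]; ring
  · linarith [hrt, hrt2]

theorem Sys.W_inv (S : Sys ρ β N k) (lam : ℤ) (g : Γ) (x z : Ω) :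
    W N lam (ρ g x) (ρ (β (β g)) z) = W N lam x z := by
  unfold W P
  congr 1
  calc ∑ y, N (ρ g x) y * N y (ρ (β (β g)) z)
      = ∑ y, N (ρ g x) (ρ (β g) y) * N (ρ (β g) y) (ρ (β (β g)) z) :=
        (Equiv.sum_comp (ρ (β g)) (fun y => N (ρ g x) y * N y (ρ (β (β g)) z))).symm
    _ = ∑ y, N x y * N y z :=
        Finset.sum_congr rfl (fun y _ => by rw [S.inv g x y, S.inv (β g) y z])

/-- The key linear-algebra step: the indicator of a level set of a column of `W` is an affine
function of that column. -/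
theorem Sys.dagger (S : Sys ρ β N k) {lam : ℤ} (h : Par N k lam) (z : Ω) (c : ℤ) :
    ∃ A : ℤ, ∀ x₀ : Ω,
      (k - lam) * (k - lam) * (if W N lam x₀ z = c then 1 else 0)
        = A * (k - lam)
          + (c * (∑ x, (if W N lam x z = c then (1 : ℤ) else 0)) - A) * W N lam x₀ z := by
  obtain ⟨u, hu⟩ : ∃ u : Ω → ℤ, u = fun x => if W N lam x z = c then (1 : ℤ) else 0 :=
    ⟨_, rfl⟩
  obtain ⟨T, hT⟩ : ∃ T : Ω → ℤ, T = fun z' => ∑ x, u x * W N lam x z' := ⟨_, rfl⟩
  have huinv : ∀ g : Γ, ρ (β (β g)) z = z → ∀ x, u (ρ g x) = u x := by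
    intro g hg x
    rw [hu]
    show (if W N lam (ρ g x) z = c then (1 : ℤ) else 0) = if W N lam x z = c then 1 else 0
    have : W N lam (ρ g x) z = W N lam x z := by
      conv_lhs => rw [← hg]
      exact S.W_inv lam g x z
    rw [this]
  obtain ⟨p, p', hpp⟩ := S.exists_pair
  obtain ⟨z₁, hz₁⟩ : ∃ z₁ : Ω, z₁ ≠ z := by
    by_cases hp : p = z
    · exact ⟨p', fun h => hpp (hp.trans h.symm)⟩
    · exact ⟨p, hp⟩
  have hTc : ∀ z' : Ω, z' ≠ z → T z' = T z₁ := by
    intro z' hz'
    obtain ⟨g, hg1, hg2⟩ := S.two'' z z₁ z z' (Ne.symm hz₁) (Ne.symm hz')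
    rw [hT]
    show ∑ x, u x * W N lam x z' = ∑ x, u x * W N lam x z₁
    calc ∑ x, u x * W N lam x z' = ∑ x, u (ρ g x) * W N lam (ρ g x) z' :=
          (Equiv.sum_comp (ρ g) (fun x => u x * W N lam x z')).symm
      _ = ∑ x, u x * W N lam x z₁ :=
          Finset.sum_congr rfl (fun x _ => by
            rw [huinv g hg1 x]
            conv_lhs => rw [← hg2]
            rw [S.W_inv lam g x z₁])
  have hTz : T z = c * ∑ x, u x := by
    rw [hT, Finset.mul_sum]
    show ∑ x, u x * W N lam x z = ∑ x, c * u x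
    refine Finset.sum_congr rfl (fun x _ => ?_)
    rw [hu]
    show (if W N lam x z = c then (1 : ℤ) else 0) * W N lam x z
      = c * if W N lam x z = c then (1 : ℤ) else 0
    split_ifs with h1
    · rw [h1]; ring
    · ring
  refine ⟨T z₁, fun x₀ => ?_⟩
  have e1 : ∑ z', W N lam x₀ z' * T z' = (k - lam) * (k - lam) * u x₀ := by
    rw [hT]
    calc ∑ z', W N lam x₀ z' * ∑ x, u x * W N lam x z'
        = ∑ z', ∑ x, u x * (W N lam x₀ z' * W N lam x z') :=
          Finset.sum_congr rfl (fun z' _ => by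
            rw [Finset.mul_sum]; exact Finset.sum_congr rfl (fun x _ => by ring))
      _ = ∑ x, ∑ z', u x * (W N lam x₀ z' * W N lam x z') := Finset.sum_comm
      _ = ∑ x, u x * ∑ z', W N lam x₀ z' * W N lam x z' :=
          Finset.sum_congr rfl (fun x _ => (Finset.mul_sum _ _ _).symm)
      _ = ∑ x, (k - lam) * (k - lam) * (if x₀ = x then 1 else 0) * u x :=
          Finset.sum_congr rfl (fun x _ => by rw [W_orth h x₀ x]; ring)
      _ = (k - lam) * (k - lam) * u x₀ := sum_ite_mul x₀ _ u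
  have e2 : ∑ z', W N lam x₀ z' * T z'
      = T z₁ * (k - lam) + (T z - T z₁) * W N lam x₀ z := by
    calc ∑ z', W N lam x₀ z' * T z'
        = ∑ z', (T z₁ * W N lam x₀ z'
            + (T z - T z₁) * (if z = z' then 1 else 0) * W N lam x₀ z') :=
          Finset.sum_congr rfl (fun z' _ => by
            by_cases hz' : z = z'
            · subst hz'
              rw [if_pos rfl]; ring
            · rw [if_neg hz', hTc z' (Ne.symm hz')]; ring)
      _ = T z₁ * ∑ z', W N lam x₀ z' + (T z - T z₁) * W N lam x₀ z := by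
          rw [Finset.sum_add_distrib, ← Finset.mul_sum, sum_ite_mul]
      _ = T z₁ * (k - lam) + (T z - T z₁) * W N lam x₀ z := by rw [W_row h]
  have hux : u x₀ = if W N lam x₀ z = c then 1 else 0 := by rw [hu]
  rw [← hux, ← e1, e2, hTz]
  have hsum : ∑ x, u x = ∑ x, (if W N lam x z = c then (1 : ℤ) else 0) := by rw [hu]
  rw [hsum]

/-- **Main counting theorem.** In the setting `Sys ρ β N k`, the stabiliser of any point `z` in the
`β²`-twisted action fixes a point in the untwisted action. -/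
theorem Sys.exists_fixed (S : Sys ρ β N k) (z : Ω) :
    ∃ x : Ω, ∀ g : Γ, ρ (β (β g)) z = z → ρ g x = x := by
  obtain ⟨lam, h⟩ := S.exists_par
  obtain ⟨No, hNo⟩ : ∃ No : ℤ, No = k - lam := ⟨_, rfl⟩
  have hn2 := S.card_two_le
  have hn0 : (Fintype.card Ω : ℤ) ≠ 0 := by omega
  have hNo0 : No ≠ 0 := by
    intro h0
    have heq := h.eq
    have hl : lam = k := by rw [hNo] at h0; linarith
    rw [hl] at heq
    have h1 : k * (k - (Fintype.card Ω : ℤ)) = 0 := by linear_combination heq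
    rcases mul_eq_zero.1 h1 with h1 | h1
    · exact absurd h1 S.pos.ne'
    · have := S.lt; linarith
  obtain ⟨f, hf⟩ : ∃ f : Ω → ℤ, f = fun x => W N lam x z := ⟨_, rfl⟩
  have hfx : ∀ x, W N lam x z = f x := fun x => by rw [hf]
  -- the column is not constant
  have hA : ∃ a b : Ω, f a ≠ f b := by
    by_contra hcon
    push Not at hcon
    obtain ⟨p, p', hpp⟩ := S.exists_pair
    have hall : ∀ x' z' : Ω, W N lam x' z' = f p := by
      intro x' z'
      obtain ⟨g, hg⟩ := S.trans'' z z'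
      have h1 := S.W_inv lam g ((ρ g)⁻¹ x') z
      rw [hg] at h1
      have h2 : ρ g ((ρ g)⁻¹ x') = x' := by
        rw [← Equiv.Perm.mul_apply, mul_inv_cancel, Equiv.Perm.one_apply]
      rw [h2] at h1
      rw [h1, hfx, hcon _ p]
    have h1 := W_orth h p p'
    have h2 := W_orth h p p
    rw [if_neg hpp] at h1
    rw [if_pos rfl] at h2
    simp only [hall, Finset.sum_const, Finset.card_univ, nsmul_eq_mul] at h1 h2
    rw [← hNo] at h1 h2
    have h3 : No * No = 0 := by linarith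
    rcases mul_eq_zero.1 h3 with h3 | h3 <;> exact hNo0 h3
  obtain ⟨a, b, hab⟩ := hA
  -- the column takes at most two values
  have hB : ∀ c : Ω, f c = f a ∨ f c = f b := by
    intro c
    by_contra hcon
    push Not at hcon
    obtain ⟨A, hA⟩ := S.dagger h z (f a)
    have ea := hA a
    have eb := hA b
    have ec := hA c
    rw [hfx] at ea eb ec
    rw [if_pos rfl] at ea
    rw [if_neg (Ne.symm hab)] at eb
    rw [if_neg hcon.1] at ec
    rw [← hNo] at ea eb ec
    obtain ⟨F, hF⟩ : ∃ F : ℤ,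
        F = f a * (∑ x, (if W N lam x z = f a then (1 : ℤ) else 0)) - A := ⟨_, rfl⟩
    rw [← hF] at ea eb ec
    have h1 : F * (f b - f c) = 0 := by linear_combination ec - eb
    have hF0 : F = 0 := by
      rcases mul_eq_zero.1 h1 with h2 | h2
      · exact h2
      · exact absurd (by linarith : f c = f b) hcon.2
    rw [hF0] at ea eb
    have h3 : No * No = 0 := by linarith
    rcases mul_eq_zero.1 h3 with h3 | h3 <;> exact hNo0 h3
  obtain ⟨w₁, hw₁⟩ : ∃ w₁ : ℤ, w₁ = f a := ⟨_, rfl⟩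
  obtain ⟨w₂, hw₂⟩ : ∃ w₂ : ℤ, w₂ = f b := ⟨_, rfl⟩
  rw [← hw₁, ← hw₂] at hab hB
  -- a unique point with a given value is a fixed point
  have hfin : ∀ w : ℤ, (Finset.univ.filter (fun x => f x = w)).card = 1 →
      ∃ x : Ω, ∀ g : Γ, ρ (β (β g)) z = z → ρ g x = x := by
    intro w hcard
    obtain ⟨x₁, hx₁⟩ := Finset.card_eq_one.1 hcard
    have hx₁w : f x₁ = w := by
      have h1 : x₁ ∈ Finset.univ.filter (fun x => f x = w) := by
        rw [hx₁]; exact Finset.mem_singleton_self x₁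
      exact (Finset.mem_filter.1 h1).2
    refine ⟨x₁, fun g hg => ?_⟩
    have h1 : f (ρ g x₁) = w := by
      rw [← hfx, ← hx₁w, ← hfx]
      conv_lhs => rw [← hg]
      exact S.W_inv lam g x₁ z
    have h2 : ρ g x₁ ∈ Finset.univ.filter (fun x => f x = w) :=
      Finset.mem_filter.2 ⟨Finset.mem_univ _, h1⟩
    rw [hx₁] at h2
    exact Finset.mem_singleton.1 h2
  obtain ⟨u₁, hu₁⟩ : ∃ u₁ : Ω → ℤ, u₁ = fun x => if f x = w₁ then (1 : ℤ) else 0 := ⟨_, rfl⟩
  have hu₁x : ∀ x, u₁ x = if f x = w₁ then (1 : ℤ) else 0 := fun x => by rw [hu₁]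
  have hfu : ∀ x, f x = w₂ + (w₁ - w₂) * u₁ x := by
    intro x
    rw [hu₁x]
    rcases hB x with h1 | h1
    · rw [if_pos h1, h1]; ring
    · rw [if_neg (by rw [h1]; exact Ne.symm hab), h1]; ring
  obtain ⟨m₁, hm₁⟩ : ∃ m₁ : ℤ, m₁ = ∑ x, u₁ x := ⟨_, rfl⟩
  have hm₁card : m₁ = ((Finset.univ.filter (fun x => f x = w₁)).card : ℤ) := by
    rw [hm₁, hu₁]
    simp
  have hu0 : ∀ x, 0 ≤ u₁ x := fun x => by rw [hu₁x]; split_ifs <;> norm_num
  have hu1 : ∀ x, u₁ x ≤ 1 := fun x => by rw [hu₁x]; split_ifs <;> norm_num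
  have h2 : (Fintype.card Ω : ℤ) * w₂ + (w₁ - w₂) * m₁ = No := by
    have hc := W_col h z
    rw [Finset.sum_congr rfl (fun x _ => (hfx x).trans (hfu x))] at hc
    rw [Finset.sum_add_distrib, Finset.sum_const, Finset.card_univ, nsmul_eq_mul,
      ← Finset.mul_sum, ← hm₁, ← hNo] at hc
    exact hc
  obtain ⟨A, hA⟩ := S.dagger h z w₁
  have hsum : (∑ x, (if W N lam x z = w₁ then (1 : ℤ) else 0)) = m₁ := by
    rw [hm₁]; exact Finset.sum_congr rfl (fun x _ => by rw [hfx, hu₁x])
  rw [hsum] at hA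
  have ea := hA a
  have eb := hA b
  rw [hfx, ← hw₁] at ea
  rw [hfx, ← hw₂] at eb
  rw [if_pos rfl] at ea
  rw [if_neg (Ne.symm hab)] at eb
  rw [← hNo] at ea eb
  have hy₀ : ∃ y₀, N y₀ z = 0 := by
    by_contra hcon
    push Not at hcon
    have hcolz := S.col_all z
    have h1 : ∀ y, N y z = 1 := fun y => (S.zero_one y z).resolve_left (hcon y)
    rw [Finset.sum_congr rfl (fun y _ => h1 y), Finset.sum_const, Finset.card_univ,
      nsmul_eq_mul, mul_one] at hcolz
    have := S.lt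
    linarith
  have hy₁ : ∃ y₁, N y₁ z = 1 := by
    by_contra hcon
    push Not at hcon
    have hcolz := S.col_all z
    have h1 : ∀ y, N y z = 0 := fun y => (S.zero_one y z).resolve_right (hcon y)
    rw [Finset.sum_congr rfl (fun y _ => h1 y), Finset.sum_const_zero] at hcolz
    have := S.pos
    linarith
  obtain ⟨y₀, hy₀⟩ := hy₀
  obtain ⟨y₁, hy₁⟩ := hy₁
  obtain ⟨t, ht⟩ : ∃ t : Ω → ℤ, t = fun y => ∑ x, N x y * u₁ x := ⟨_, rfl⟩
  have htx : ∀ y, t y = ∑ x, N x y * u₁ x := fun y => by rw [ht]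
  have hN0 : ∀ x y, 0 ≤ N x y := fun x y => by
    rcases S.zero_one x y with h1 | h1 <;> rw [h1] <;> norm_num
  have hN1 : ∀ x y, N x y ≤ 1 := fun x y => by
    rcases S.zero_one x y with h1 | h1 <;> rw [h1] <;> norm_num
  have ht0 : ∀ y, 0 ≤ t y := fun y => by
    rw [htx]; exact Finset.sum_nonneg (fun x _ => mul_nonneg (hN0 x y) (hu0 x))
  have htk : ∀ y, t y ≤ k := fun y => by
    rw [htx, ← S.col_all y]
    exact Finset.sum_le_sum (fun x _ => by nlinarith [hN0 x y, hu0 x, hu1 x])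
  have htm : ∀ y, t y ≤ m₁ := fun y => by
    rw [htx, hm₁]
    exact Finset.sum_le_sum (fun x _ => by nlinarith [hN0 x y, hN1 x y, hu0 x])
  have hNW : ∀ y, w₂ * k + (w₁ - w₂) * t y = No * N y z := by
    intro y
    calc w₂ * k + (w₁ - w₂) * t y
        = w₂ * ∑ x, N x y + (w₁ - w₂) * ∑ x, N x y * u₁ x := by rw [S.col_all y, htx]
      _ = ∑ x, N x y * W N lam x z := by
          rw [Finset.mul_sum, Finset.mul_sum, ← Finset.sum_add_distrib]
          exact Finset.sum_congr rfl (fun x _ => by rw [hfx, hfu]; ring)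
      _ = No * N y z := by rw [N_W h y z, hNo]
  have h5 := hNW y₀
  have h6 := hNW y₁
  rw [hy₀, mul_zero] at h5
  rw [hy₁, mul_one] at h6
  have hm₁0 : m₁ ≠ 0 := by
    have hpos : 0 < m₁ := by
      rw [hm₁]
      have hpos : 0 < u₁ a := by rw [hu₁x, if_pos hw₁.symm]; norm_num
      calc 0 < u₁ a := hpos
        _ ≤ ∑ x, u₁ x := Finset.single_le_sum (fun x _ => hu0 x) (Finset.mem_univ a)
    exact hpos.ne'
  have key := arith (Fintype.card Ω : ℤ) k No w₁ w₂ m₁ ((Fintype.card Ω : ℤ) - m₁) A (t y₀)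
    (t y₁) hNo0 hab S.pos hn0 S.cop (by ring) h2 (by linarith [ea]) (by linarith [eb]) h5 h6
    (ht0 y₀) (htk y₀) (htm y₁) hm₁0
  rcases key with hk1 | hk1
  · apply hfin w₁
    have h7 := hm₁card
    rw [hk1] at h7
    exact_mod_cast h7.symm
  · apply hfin w₂
    have hsplit := Finset.card_filter_add_card_filter_not (s := (Finset.univ : Finset Ω))
      (fun x => f x = w₁)
    have hcongr : Finset.univ.filter (fun x => ¬ f x = w₁)
        = Finset.univ.filter (fun x => f x = w₂) := by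
      apply Finset.filter_congr
      intro x _
      constructor
      · intro hx; exact (hB x).resolve_left hx
      · intro hx h'; exact hab (h'.symm.trans hx)
    rw [hcongr, Finset.card_univ] at hsplit
    have h7 : ((Finset.univ.filter (fun x => f x = w₁)).card : ℤ)
        + ((Finset.univ.filter (fun x => f x = w₂)).card : ℤ) = (Fintype.card Ω : ℤ) := by
      exact_mod_cast hsplit
    rw [← hm₁card] at h7
    have h8 : ((Finset.univ.filter (fun x => f x = w₂)).card : ℤ) = 1 := by linarith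
    exact_mod_cast h8

end SysLemmas

end Cfsg.Agent.Lib.Helper68.Linked
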