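import Mathlib
import Cfsg.Agent.S0434
import Cfsg.Agent.S0435
import Cfsg.Agent.Lib.Helper68.M11UStmt
import Cfsg.Agent.Lib.Helper68.M11Inv2
import Cfsg.Agent.Lib.Helper4.Simple
import Cfsg.Agent.Lib.Helper92.M11Base

/-!
# Facts on a simple group of order 7920 (convenience layer for the pieces of S0420)
-/

set_option autoImplicit false
set_option linter.style.haveILetI false

namespace Cfsg.Agent.Lib.Helper68.M11Facts

open Cfsg Subgroup
open Cfsg.Agent.Lib.Helper92.M11Stmt Cfsg.Agent.Lib.Helper68.M11UStmt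
open Cfsg.Agent.Lib.Helper68.M11Cnt Cfsg.Agent.Lib.Helper68.M11Tab

universe u

variable {G : Type u} [Group G] [Finite G] [IsSimpleGroup G]

/-- The centralizer of an involution has order 48. -/
theorem cent_inv (hG : Nat.card G = 7920) (t : G) (ht : orderOf t = 2) :
    Nat.card (centralizer ({t} : Set G)) = 48 :=
  Cfsg.Agent.S0435.result ⟨inferInstance, hG⟩ t ht

/-- The normalizer of a Sylow 3-subgroup has order 144. -/
theorem norm_syl3 (hG : Nat.card G = 7920) (P : Sylow 3 G) :
    Nat.card (normalizer ((P : Subgroup G) : Set G)) = 144 :=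
  Cfsg.Agent.S0434.result ⟨inferInstance, hG⟩ P

/-- A Sylow 3-subgroup has order 9. -/
theorem card_syl3 (hG : Nat.card G = 7920) (P : Sylow 3 G) : Nat.card (P : Subgroup G) = 9 := by
  have := Cfsg.Agent.Lib.Helper17.Sylow.card_sylow_subgroup (p := 3) (k := 2) (m := 880)
      (by rw [hG]; norm_num) (by norm_num) P
  simpa using this

/-- There are 55 Sylow 3-subgroups. -/
theorem card_sylow3 (hG : Nat.card G = 7920) : Nat.card (Sylow 3 G) = 55 := by
  haveI : Fact (Nat.Prime 3) := ⟨Nat.prime_three⟩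
  obtain ⟨P⟩ : Nonempty (Sylow 3 G) := inferInstance
  have h1 : Nat.card (Sylow 3 G) = (normalizer ((P : Subgroup G) : Set G)).index :=
    Sylow.card_eq_index_normalizer P
  have h2 := Subgroup.card_mul_index (normalizer ((P : Subgroup G) : Set G))
  rw [norm_syl3 hG P, hG] at h2
  rw [h1]
  omega

/-- The centralizer of an element of order 3 has order not divisible by 4. -/
theorem cent3 (hG : Nat.card G = 7920) (y : G) (hy : orderOf y = 3) :
    ¬ 4 ∣ Nat.card (centralizer ({y} : Set G)) :=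
  Cfsg.Agent.Lib.Helper92.M11Asm4.cent_three Cfsg.Agent.Lib.Helper92.M11EX.main
    Cfsg.Agent.Lib.Helper69.M11R11.main Cfsg.Agent.Lib.Helper69.M11R5.main
    Cfsg.Agent.Lib.Helper33.M11DIV.main Cfsg.Agent.Lib.Helper3.M11M4.main
    Cfsg.Agent.Lib.Helper59.M11I3.main hG y hy

/-- Centralizers of non-trivial elements of order prime to 55 have order dividing 144. -/
theorem cent_dvd (hG : Nat.card G = 7920) (x : G) (hx : x ≠ 1) (h5 : ¬ 5 ∣ orderOf x)
    (h11 : ¬ 11 ∣ orderOf x) : Nat.card (centralizer ({x} : Set G)) ∣ 144 :=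
  Cfsg.Agent.Lib.Helper33.M11DIV.main G hG x hx h5 h11

/-- The centralizer of an element of order 3 has order 9 or 18. -/
theorem cent3_le (hG : Nat.card G = 7920) (y : G) (hy : orderOf y = 3) :
    Nat.card (centralizer ({y} : Set G)) ≤ 18 := by
  have h1 := cent_dvd hG y (by rintro rfl; simp at hy) (by rw [hy]; norm_num)
    (by rw [hy]; norm_num)
  have h2 := cent3 hG y hy
  have h3 : ∀ c ∈ Nat.divisors 144, ¬ 4 ∣ c → c ≤ 18 := by decide
  exact h3 _ (Nat.mem_divisors.mpr ⟨h1, by norm_num⟩) h2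

/-- Distinct Sylow 3-subgroups meet trivially. -/
theorem syl_ti (hG : Nat.card G = 7920) (P Q : Sylow 3 G) (h : P ≠ Q) :
    (P : Subgroup G) ⊓ (Q : Subgroup G) = ⊥ :=
  Cfsg.Agent.Lib.Helper99.M11TI.main G hG (cent_dvd hG) (cent3 hG) P Q h

/-- The list of the irreducible characters. -/
theorem chars (hG : Nat.card G = 7920) : Nonempty (Chars G) :=
  Cfsg.Agent.Lib.Helper92.M11EX.main G hG

omit [Finite G] [IsSimpleGroup G] in
theorem a_isChar (D : Chars G) (i : Fin 3) : IsCharacter G (D.a i : G → ℂ) :=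
  Cfsg.Agent.Lib.CT.Wedderburn.isCharacter_of_irr (D.a i).2

omit [Finite G] [IsSimpleGroup G] in
/-- The characters are class functions. -/
theorem a_conj (D : Chars G) (i : Fin 3) (g h : G) :
    (D.a i : G → ℂ) (h * g * h⁻¹) = (D.a i : G → ℂ) g :=
  Cfsg.Agent.Lib.CT.Orth.irr_isClassFunction (D.a i) g h

omit [Finite G] [IsSimpleGroup G] in
theorem a_one (D : Chars G) (i : Fin 3) : (D.a i : G → ℂ) 1 = 10 := by
  rw [Cfsg.Agent.Lib.Helper17.ExcCor.deg_eq, D.ha i]
  norm_num

omit [IsSimpleGroup G] in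
/-- The characters of degree 10 are orthogonal to the trivial character. -/
theorem a_sum (D : Chars G) (i : Fin 3) : ∑ᶠ g : G, (D.a i : G → ℂ) g = 0 := by
  classical
  haveI : Fintype G := Fintype.ofFinite G
  rw [finsum_eq_sum_of_fintype]
  exact Cfsg.Agent.Lib.Helper68.M11Inv2.sum_irr_eq_zero (D.a i)
    (Cfsg.Agent.Lib.Helper68.M11Inv2.ne_triv_of_deg _ (by rw [D.ha i]; norm_num))

/-- A proper subgroup has index at least 11. -/
theorem min_index (hG : Nat.card G = 7920) (H : Subgroup G) (hH : H ≠ ⊤) : 11 ≤ H.index := by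
  have h := Cfsg.Agent.Lib.Helper4.Simple.card_dvd_factorial_index H hH
  rw [hG] at h
  by_contra hlt
  push_neg at hlt
  have h1 : H.index.factorial ∣ (10 : ℕ).factorial := Nat.factorial_dvd_factorial (by omega)
  have h2 : 7920 ∣ (10 : ℕ).factorial := h.trans h1
  have h3 : ¬ 7920 ∣ (10 : ℕ).factorial := by decide
  exact h3 h2

/-- All involutions are conjugate, and there are 165 of them. -/
theorem inv_data (hG : Nat.card G = 7920) :
    (∀ s t : G, orderOf s = 2 → orderOf t = 2 → IsConj s t) ∧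
      Nat.card {t : G // orderOf t = 2} = 165 := by
  classical
  haveI : Fintype G := Fintype.ofFinite G
  haveI : Finite (IrrCharacter G) := Cfsg.Agent.Lib.CT.Wedderburn.finite_irrCharacter G
  haveI : Fintype (IrrCharacter G) := Fintype.ofFinite _
  obtain ⟨tb⟩ := exists_tab hG
  obtain ⟨n₂, n₃, n₄, m₀, m₁, nβ, hb2, hb3, hb4, hc0, hc1, hβ, hI⟩ :=
    Cfsg.Agent.Lib.Helper68.M11Inv2.fs_count tb hG
  have hIle : (E G 2).card ≤ 217 := by
    have : ((E G 2).card : ℤ) ≤ 217 := by
      rcases hβ with h | h <;> rw [hI, h] <;> linarith [hb2.2, hb3.2, hb4.2, hc0.2, hc1.2]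
    exact_mod_cast this
  have key : ∀ A : Finset G, (∀ a ∈ A, orderOf a = 2) →
      (∀ a ∈ A, ∀ b, IsConj a b → b ∈ A) → A.Nonempty → 165 ≤ A.card := by
    intro A hA2 hAinv hne
    obtain ⟨k, hk, hk1⟩ := class_count A hAinv
    rw [Finset.sum_congr rfl (fun a ha => cent_inv hG a (hA2 a ha)), Finset.sum_const,
      smul_eq_mul, hG] at hk
    have := hk1 hne
    nlinarith
  have hconj : ∀ s t : G, orderOf s = 2 → orderOf t = 2 → IsConj s t := by
    intro s t hs ht
    by_contra hst
    have hA : 165 ≤ ((E G 2).filter (fun b => IsConj t b)).card := by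
      refine key _ (fun a ha => (mem_E 2 a).mp (Finset.mem_filter.mp ha).1) ?_
        ⟨t, Finset.mem_filter.mpr ⟨(mem_E 2 t).mpr ht, IsConj.refl t⟩⟩
      intro a ha b hab
      refine Finset.mem_filter.mpr ⟨(mem_E 2 b).mpr ?_, (Finset.mem_filter.mp ha).2.trans hab⟩
      rw [orderOf_eq_of_isConj hab]
      exact (mem_E 2 a).mp (Finset.mem_filter.mp ha).1
    have hA' : 165 ≤ ((E G 2).filter (fun b => ¬ IsConj t b)).card := by
      refine key _ (fun a ha => (mem_E 2 a).mp (Finset.mem_filter.mp ha).1) ?_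
        ⟨s, Finset.mem_filter.mpr ⟨(mem_E 2 s).mpr hs, fun h => hst h.symm⟩⟩
      intro a ha b hab
      refine Finset.mem_filter.mpr ⟨(mem_E 2 b).mpr ?_,
        fun h => (Finset.mem_filter.mp ha).2 (h.trans hab.symm)⟩
      rw [orderOf_eq_of_isConj hab]
      exact (mem_E 2 a).mp (Finset.mem_filter.mp ha).1
    have hsum := Finset.card_filter_add_card_filter_not (s := E G 2) (fun b => IsConj t b)
    omega
  refine ⟨hconj, ?_⟩
  obtain ⟨t, ht⟩ := exists_prime_orderOf_dvd_card' (G := G) 2 (by rw [hG]; norm_num)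
  have h1 := card_class_mul t
  rw [cent_inv hG t ht, hG] at h1
  have h2 : Nat.card {b : G // orderOf b = 2} = Nat.card {b : G // IsConj t b} := by
    apply Nat.card_congr
    apply Equiv.subtypeEquivRight
    intro b
    constructor
    · intro hb
      exact hconj t b ht hb
    · intro hb
      rw [orderOf_eq_of_isConj hb]
      exact ht
  rw [h2]
  omega

theorem inv_conj (hG : Nat.card G = 7920) (s t : G) (hs : orderOf s = 2) (ht : orderOf t = 2) :
    IsConj s t := (inv_data hG).1 s t hs ht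

theorem card_inv (hG : Nat.card G = 7920) : Nat.card {t : G // orderOf t = 2} = 165 :=
  (inv_data hG).2

/-- There are 1584 elements of order 5. -/
theorem card_ord5 (hG : Nat.card G = 7920) : Nat.card {g : G // orderOf g = 5} = 1584 := by
  classical
  haveI : Fintype G := Fintype.ofFinite G
  haveI : Finite (IrrCharacter G) := Cfsg.Agent.Lib.CT.Wedderburn.finite_irrCharacter G
  haveI : Fintype (IrrCharacter G) := Fintype.ofFinite _
  obtain ⟨tb⟩ := exists_tab hG
  have h := Cfsg.Agent.Lib.Helper68.M11Inv2.card_E5 tb hG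
  rw [Nat.card_eq_fintype_card, Fintype.card_subtype]
  rw [← h]
  rfl

/-- [INVCONJ] -/
theorem invConj_main : InvConj.{u} := fun _ _ _ _ hG s t hs ht => inv_conj hG s t hs ht

/-- [MININDEX] -/
theorem minIndex_main : MinIndex.{u} := fun _ _ _ _ hG H hH => min_index hG H hH

end Cfsg.Agent.Lib.Helper68.M11Facts
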