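import Mathlib
import Cfsg.Agent.Lib.Helper68.M11Syl
import Cfsg.Agent.Lib.Helper17.Sylow

/-!
# Counting elements of a given order in groups of order 7920 (helper68)

General lemmas for the characterisations of `M11` by its order and the numbers of elements of
each order (S3592) and by its commuting graph (S3413).
-/

set_option autoImplicit false
set_option linter.style.haveILetI false
set_option linter.unusedSectionVars false

namespace Cfsg.Agent.Lib.Helper68.M11Nse

open Cfsg Subgroup

universe u

variable {G : Type u} [Group G] [Finite G]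

/-- Counting the elements of order `n` modulo `p` through conjugation by an element `z` of
order `p`: only those commuting with `z` matter. -/
theorem card_order_modEq (p : ℕ) [Fact p.Prime] (z : G) (hz : orderOf z = p) (n : ℕ) :
    Nat.card {g : G // orderOf g = n} ≡
      Nat.card {g : G // orderOf g = n ∧ g * z = z * g} [MOD p] := by
  classical
  letI : MulAction ↥(zpowers z) {g : G // orderOf g = n} :=
    { smul := fun c g => ⟨(c : G) * g.1 * (c : G)⁻¹,
        (orderOf_injective (MulAut.conj (c : G)).toMonoidHom
          (MulAut.conj (c : G)).injective g.1).trans g.2⟩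
      one_smul := fun g => Subtype.ext (by
        show ((1 : ↥(zpowers z)) : G) * g.1 * ((1 : ↥(zpowers z)) : G)⁻¹ = g.1
        simp)
      mul_smul := fun a b g => Subtype.ext (by
        show ((a * b : ↥(zpowers z)) : G) * g.1 * ((a * b : ↥(zpowers z)) : G)⁻¹
          = (a : G) * ((b : G) * g.1 * (b : G)⁻¹) * (a : G)⁻¹
        simp [mul_assoc]) }
  have hsmul : ∀ (c : ↥(zpowers z)) (g : {g : G // orderOf g = n}),
      ((c • g : {g : G // orderOf g = n}) : G) = (c : G) * g.1 * (c : G)⁻¹ := fun _ _ => rfl
  have hp : IsPGroup p ↥(zpowers z) :=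
    IsPGroup.of_card (n := 1) (by rw [Nat.card_zpowers, hz, pow_one])
  have h := hp.card_modEq_card_fixedPoints {g : G // orderOf g = n}
  have hiff : ∀ x : {g : G // orderOf g = n},
      x ∈ MulAction.fixedPoints ↥(zpowers z) {g : G // orderOf g = n} ↔ x.1 * z = z * x.1 := by
    intro x
    rw [MulAction.mem_fixedPoints]
    constructor
    · intro hx
      have h1 := congrArg Subtype.val (hx ⟨z, mem_zpowers z⟩)
      rw [hsmul] at h1
      have h2 : z * x.1 = x.1 * z := mul_inv_eq_iff_eq_mul.mp h1
      exact h2.symm
    · intro hx c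
      apply Subtype.ext
      rw [hsmul]
      obtain ⟨k, hk⟩ := mem_zpowers_iff.mp c.2
      rw [← hk]
      have hc : Commute z x.1 := hx.symm
      exact mul_inv_eq_iff_eq_mul.mpr (hc.zpow_left k).eq
  have e : ↥(MulAction.fixedPoints ↥(zpowers z) {g : G // orderOf g = n}) ≃
      {g : G // orderOf g = n ∧ g * z = z * g} :=
    (Equiv.subtypeEquivRight hiff).trans
      (Equiv.subtypeSubtypeEquivSubtypeInter (fun g : G => orderOf g = n)
        (fun g : G => g * z = z * g))
  rw [Nat.card_congr e] at h
  exact h

/-- The number of elements of order 1. -/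
theorem card_order_one : Nat.card {g : G // orderOf g = 1} = 1 := by
  rw [Nat.card_eq_one_iff_unique]
  refine ⟨⟨fun a b => Subtype.ext ?_⟩, ⟨⟨1, orderOf_one⟩⟩⟩
  rw [orderOf_eq_one_iff.mp a.2, orderOf_eq_one_iff.mp b.2]

/-- The centralizer of `a` consists of `1` and of the non-trivial elements commuting
with `a`. -/
theorem card_comm_add_one (a : G) :
    Nat.card {u : {g : G // g ≠ 1} // (u : G) * a = a * u} + 1
      = Nat.card (centralizer ({a} : Set G)) := by
  classical
  haveI : Fintype G := Fintype.ofFinite G
  have h1 : Nat.card {u : {g : G // g ≠ 1} // (u : G) * a = a * u}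
      = (Finset.univ.filter (fun g : G => g ≠ 1 ∧ g * a = a * g)).card := by
    rw [Nat.card_congr (Equiv.subtypeSubtypeEquivSubtypeInter (fun g : G => g ≠ 1)
      (fun g : G => g * a = a * g)), Nat.card_eq_fintype_card, Fintype.card_subtype]
  have h2 : Nat.card (centralizer ({a} : Set G))
      = (Finset.univ.filter (fun g : G => g * a = a * g)).card := by
    rw [Nat.card_eq_fintype_card, ← Fintype.card_subtype]
    exact Fintype.card_congr (Equiv.subtypeEquivRight (fun g => by
      rw [mem_centralizer_singleton_iff]))
  have h3 : Finset.univ.filter (fun g : G => g * a = a * g)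
      = insert 1 (Finset.univ.filter (fun g : G => g ≠ 1 ∧ g * a = a * g)) := by
    ext g
    simp only [Finset.mem_filter, Finset.mem_univ, true_and, Finset.mem_insert]
    constructor
    · intro hg
      by_cases h : g = 1
      · exact Or.inl h
      · exact Or.inr ⟨h, hg⟩
    · rintro (rfl | ⟨-, hg⟩)
      · simp
      · exact hg
  rw [h1, h2, h3, Finset.card_insert_of_notMem (by simp)]

section Order7920

/-- Sylow 11-subgroups of a group of order 7920 have order 11. -/
theorem card_syl11 (hG : Nat.card G = 7920) (P : Sylow 11 G) :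
    Nat.card (P : Subgroup G) = 11 := by
  haveI : Fact (Nat.Prime 11) := ⟨by norm_num⟩
  have := Cfsg.Agent.Lib.Helper17.Sylow.card_sylow_subgroup (p := 11) (k := 1) (m := 720)
    (hG.trans (by norm_num)) (by norm_num) P
  simpa using this

/-- In a group of order 7920, the subgroup generated by an element of order 11 is a Sylow
subgroup. -/
theorem exists_sylow_eq (hG : Nat.card G = 7920) (z : G) (hz : orderOf z = 11) :
    ∃ P : Sylow 11 G, (P : Subgroup G) = zpowers z := by
  haveI : Fact (Nat.Prime 11) := ⟨by norm_num⟩
  have hpg : IsPGroup 11 (zpowers z) :=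
    IsPGroup.of_card (n := 1) (by rw [Nat.card_zpowers, hz, pow_one])
  obtain ⟨P, hP⟩ := hpg.exists_le_sylow
  exact ⟨P, (Subgroup.eq_of_le_of_card_ge hP
    (by rw [card_syl11 hG P, Nat.card_zpowers, hz])).symm⟩

/-- The number of elements of order 11 in a group of order 7920. -/
theorem card_order11 (hG : Nat.card G = 7920) :
    Nat.card {g : G // orderOf g = 11} = 10 * Nat.card (Sylow 11 G) := by
  classical
  haveI : Fact (Nat.Prime 11) := ⟨by norm_num⟩
  haveI : Fintype (Sylow 11 G) := Fintype.ofFinite _
  have hsyl : ∀ g : {g : G // orderOf g = 11}, ∃ P : Sylow 11 G, (P : Subgroup G) = zpowers g.1 :=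
    fun g => exists_sylow_eq hG g.1 g.2
  choose φ hφ using hsyl
  have hfib : ∀ P : Sylow 11 G, Nat.card {x : {g : G // orderOf g = 11} // φ x = P} = 10 := by
    intro P
    have hord : ∀ y : {y : (P : Subgroup G) // y ≠ 1}, orderOf (y.1.1 : G) = 11 := by
      intro y
      have h1 : orderOf (y.1.1 : G) ∣ 11 := by
        have := Subgroup.orderOf_dvd_natCard _ y.1.2
        rwa [card_syl11 hG P] at this
      rcases (Nat.dvd_prime (by norm_num : Nat.Prime 11)).mp h1 with h | h
      · exact absurd (Subtype.ext (orderOf_eq_one_iff.mp h)) y.2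
      · exact h
    have e : {x : {g : G // orderOf g = 11} // φ x = P} ≃ {y : (P : Subgroup G) // y ≠ 1} :=
      { toFun := fun x => ⟨⟨x.1.1, by
            have h := hφ x.1
            rw [x.2] at h
            rw [h]
            exact mem_zpowers _⟩, fun h => by
            have h1 : x.1.1 = 1 := congrArg Subtype.val h
            have h2 := x.1.2
            rw [h1, orderOf_one] at h2
            norm_num at h2⟩
        invFun := fun y => ⟨⟨y.1.1, hord y⟩, by
            apply Sylow.ext
            rw [hφ]
            exact Subgroup.eq_of_le_of_card_ge ((zpowers_le).mpr y.1.2)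
              (by rw [card_syl11 hG P, Nat.card_zpowers, hord y])⟩
        left_inv := fun x => Subtype.ext (Subtype.ext rfl)
        right_inv := fun y => Subtype.ext (Subtype.ext rfl) }
    rw [Nat.card_congr e]
    have h1 := Nat.card_congr (Equiv.optionSubtypeNe (1 : (P : Subgroup G)))
    rw [Finite.card_option, card_syl11 hG P] at h1
    omega
  rw [← Nat.card_congr (Equiv.sigmaFiberEquiv φ), Nat.card_sigma]
  simp only [hfib, Finset.sum_const, Finset.card_univ, smul_eq_mul, Nat.card_eq_fintype_card]
  ring

/-- An element commuting with an element `z` of order 11 normalizes the Sylow subgroup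
generated by `z`. -/
theorem mem_normalizer_of_commute (P : Sylow 11 G) (z g : G) (hP : (P : Subgroup G) = zpowers z)
    (hc : g * z = z * g) : g ∈ normalizer ((P : Subgroup G) : Set G) := by
  apply Subgroup.centralizer_le_normalizer
  rw [mem_centralizer_iff]
  intro x hx
  rw [SetLike.mem_coe, hP] at hx
  obtain ⟨k, rfl⟩ := mem_zpowers_iff.mp hx
  have hc' : Commute z g := hc.symm
  exact (hc'.zpow_left k).eq

end Order7920

section Simple

variable [IsSimpleGroup G]

/-- In a simple group of order 7920 an element commuting with an element `z` of order 11 is a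
power of `z`. -/
theorem mem_zpowers_of_commute (hG : Nat.card G = 7920) (z g : G) (hz : orderOf z = 11)
    (hc : g * z = z * g) : g ∈ zpowers z := by
  haveI : Fact (Nat.Prime 11) := ⟨by norm_num⟩
  have hnc : ¬ IsMulCommutative G :=
    Cfsg.Agent.Lib.Helper17.Sylow.not_comm_of_not_prime (by rw [hG]; norm_num)
  obtain ⟨P, hPeq⟩ := exists_sylow_eq hG z hz
  obtain ⟨hPc, hCP, -⟩ := Cfsg.Agent.Lib.Helper68.M11Syl.sylow11 hnc hG P
  have hgC : g ∈ centralizer ((P : Subgroup G) : Set G) := by
    rw [mem_centralizer_iff]
    intro x hx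
    rw [SetLike.mem_coe, hPeq] at hx
    obtain ⟨k, rfl⟩ := mem_zpowers_iff.mp hx
    have hc' : Commute z g := hc.symm
    exact (hc'.zpow_left k).eq
  have hPle : (P : Subgroup G) ≤ centralizer ((P : Subgroup G) : Set G) := by
    intro x hx
    rw [mem_centralizer_iff]
    intro y hy
    rw [SetLike.mem_coe, hPeq] at hy
    rw [hPeq] at hx
    obtain ⟨k, rfl⟩ := mem_zpowers_iff.mp hx
    obtain ⟨l, rfl⟩ := mem_zpowers_iff.mp hy
    exact (Commute.zpow_zpow_self z l k).eq
  have hCeq : (P : Subgroup G) = centralizer ((P : Subgroup G) : Set G) :=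
    Subgroup.eq_of_le_of_card_ge hPle (by rw [hCP, hPc])
  rw [← hPeq, hCeq]
  exact hgC

/-- In a simple group of order 7920, a centralizer of order divisible by 11 has order 11. -/
theorem cent_eleven (hG : Nat.card G = 7920) (x : G) (hx : x ≠ 1)
    (h11 : 11 ∣ Nat.card (centralizer ({x} : Set G))) :
    Nat.card (centralizer ({x} : Set G)) = 11 := by
  haveI : Fact (Nat.Prime 11) := ⟨by norm_num⟩
  obtain ⟨c, hc⟩ := exists_prime_orderOf_dvd_card' 11 h11
  have hz : orderOf (c : G) = 11 := by rw [Subgroup.orderOf_coe]; exact hc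
  have hcomm : x * (c : G) = (c : G) * x := (mem_centralizer_singleton_iff.mp c.2).symm
  have hxz : x ∈ zpowers (c : G) := mem_zpowers_of_commute hG (c : G) x hz hcomm
  have hxo : orderOf x = 11 := by
    have h1 : orderOf x ∣ 11 := by
      have := Subgroup.orderOf_dvd_natCard _ hxz
      rwa [Nat.card_zpowers, hz] at this
    rcases (Nat.dvd_prime (by norm_num : Nat.Prime 11)).mp h1 with h | h
    · exact absurd (orderOf_eq_one_iff.mp h) hx
    · exact h
  have hle : centralizer ({x} : Set G) ≤ zpowers x := by
    intro g hg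
    exact mem_zpowers_of_commute hG x g hxo (mem_centralizer_singleton_iff.mp hg)
  have hdvd := Subgroup.card_dvd_of_le hle
  rw [Nat.card_zpowers, hxo] at hdvd
  exact Nat.dvd_antisymm hdvd h11

/-- The number of Sylow 11-subgroups of a simple group of order 7920. -/
theorem card_sylow11 (hG : Nat.card G = 7920) : Nat.card (Sylow 11 G) = 144 := by
  haveI : Fact (Nat.Prime 11) := ⟨by norm_num⟩
  have hnc : ¬ IsMulCommutative G :=
    Cfsg.Agent.Lib.Helper17.Sylow.not_comm_of_not_prime (by rw [hG]; norm_num)
  obtain ⟨P⟩ : Nonempty (Sylow 11 G) := inferInstance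
  obtain ⟨-, -, hN⟩ := Cfsg.Agent.Lib.Helper68.M11Syl.sylow11 hnc hG P
  have h1 := Sylow.card_eq_index_normalizer P
  have h2 := Subgroup.card_mul_index (normalizer ((P : Subgroup G) : Set G))
  rw [hN, hG] at h2
  have h3 : (normalizer ((P : Subgroup G) : Set G)).index = 144 := by omega
  rw [h1]
  exact h3

/-- The numbers of elements of a given order in a simple group of order 7920 are `1`, `1440`
or multiples of `11`. -/
theorem nse_simple (hG : Nat.card G = 7920) (n : ℕ)
    (hpos : 0 < Nat.card {g : G // orderOf g = n}) :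
    Nat.card {g : G // orderOf g = n} = 1 ∨ Nat.card {g : G // orderOf g = n} = 1440 ∨
      11 ∣ Nat.card {g : G // orderOf g = n} := by
  haveI : Fact (Nat.Prime 11) := ⟨by norm_num⟩
  by_cases h1 : n = 1
  · subst h1
    exact Or.inl card_order_one
  by_cases h11 : n = 11
  · subst h11
    right; left
    rw [card_order11 hG, card_sylow11 hG]
  right; right
  obtain ⟨z, hz⟩ := exists_prime_orderOf_dvd_card' (G := G) 11 (by rw [hG]; norm_num)
  have hmod := card_order_modEq 11 z hz n
  have hempty : IsEmpty {g : G // orderOf g = n ∧ g * z = z * g} := by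
    refine ⟨fun g => ?_⟩
    have hgz := mem_zpowers_of_commute hG z g.1 hz g.2.2
    have hd : orderOf g.1 ∣ 11 := by
      have := Subgroup.orderOf_dvd_natCard _ hgz
      rwa [Nat.card_zpowers, hz] at this
    rw [g.2.1] at hd
    rcases (Nat.dvd_prime (by norm_num : Nat.Prime 11)).mp hd with h | h
    · exact h1 h
    · exact h11 h
  have h0 : Nat.card {g : G // orderOf g = n ∧ g * z = z * g} = 0 := Nat.card_of_isEmpty
  rw [h0] at hmod
  exact (Nat.modEq_zero_iff_dvd).mp hmod

end Simple

end Cfsg.Agent.Lib.Helper68.M11Nse
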