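import Mathlib
import Cfsg.Prelude.Def_Spor_Mathieu
import Cfsg.Agent.Lib.Helper7.M11Twist
import Cfsg.Agent.S0387
import Cfsg.Agent.S0388
import Cfsg.Agent.Lib.Helper17.Sylow

/-!
# The Mathieu group `Cfsg.Spor.M11` as the stabiliser of a dodecad and a point (helper68)

`Cfsg.Spor.M11` is a subgroup of `Equiv.Perm GolayPt`; the statements S0387, S0388, S0420 are
about the subgroup `stabilizer M24 d ⊓ stabilizer M24 p` of `M24`.  This file identifies them.
-/

set_option autoImplicit false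

namespace Cfsg.Agent.Lib.Helper68.M11Spor

open Cfsg
open scoped Pointwise

theorem sq_mem : Spor.squareDodecad ∈ dodecads := by
  rw [Cfsg.Agent.Lib.Helper7.M11Twist.squareDodecad_eq]
  exact Cfsg.Agent.Lib.Helper7.M12Core.mk_d0_mem

theorem zero_mem_sq : (some 0 : GolayPt) ∈ Spor.squareDodecad := by
  rw [Cfsg.Agent.Lib.Helper7.M11Twist.squareDodecad_eq, Cfsg.Agent.Lib.Helper7.GolayBase.mem_mk]
  decide +kernel

/-- The stabiliser of the dodecad of squares and of the residue 0 in `M24`. -/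
abbrev K : Subgroup ↥M24 :=
  MulAction.stabilizer ↥M24 Spor.squareDodecad ⊓ MulAction.stabilizer ↥M24 (some 0 : GolayPt)

theorem map_K : K.map M24.subtype = Spor.M11 := by
  ext g
  rw [Subgroup.mem_map]
  constructor
  · rintro ⟨k, hk, rfl⟩
    obtain ⟨h1, h2⟩ := hk
    exact ⟨⟨k.2, h1⟩, h2⟩
  · rintro ⟨⟨h1, h2⟩, h3⟩
    exact ⟨⟨g, h1⟩, ⟨h2, h3⟩, rfl⟩

/-- `Spor.M11` is isomorphic to the stabiliser of a dodecad and a point of it. -/
noncomputable def iso : ↥K ≃* ↥Spor.M11 :=
  (Subgroup.equivMapOfInjective K M24.subtype Subtype.coe_injective).trans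
    (MulEquiv.subgroupCongr map_K)

theorem card_spor : Nat.card ↥Spor.M11 = 7920 := by
  rw [← Nat.card_congr iso.toEquiv]
  exact Cfsg.Agent.S0387.result _ sq_mem _ zero_mem_sq

theorem simple_spor : IsSimpleGroup ↥Spor.M11 :=
  haveI : IsSimpleGroup ↥K := Cfsg.Agent.S0388.result _ sq_mem _ zero_mem_sq
  iso.symm.isSimpleGroup

instance : IsSimpleGroup ↥Spor.M11 := simple_spor

theorem not_comm_spor : ¬ IsMulCommutative ↥Spor.M11 :=
  Cfsg.Agent.Lib.Helper17.Sylow.not_comm_of_not_prime (by rw [card_spor]; norm_num)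

end Cfsg.Agent.Lib.Helper68.M11Spor
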