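import Mathlib
import Cfsg.Agent.Lib.Helper68.M11UStmt
import Cfsg.Agent.Lib.Helper68.M11Facts
import Cfsg.Agent.Lib.Helper86.St11Simple

/-!
# S0420: assembly of the pieces (helper68)
-/

set_option autoImplicit false
set_option linter.style.haveILetI false
set_option maxHeartbeats 1000000

namespace Cfsg.Agent.Lib.Helper68.M11UAsm

open Cfsg Cfsg.Agent.Lib.Helper92.M11Stmt Cfsg.Agent.Lib.Helper68.M11UStmt
open Cfsg.Agent.Lib.Helper68.M11Facts
open scoped Pointwise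

universe u

/-- A simple group of order 7920 has a subgroup of index 11. -/
theorem exists_index11 (hThree : ThreeInv.{u}) (hKer : KerQ.{u}) (hUniq : UniqInv.{u})
    (hReg : RegQ.{u}) (hSum : SumProd.{u}) (hFix : FixVec.{u}) (hCol : Col2.{u})
    (hCP : CharP.{u}) (hCT : CharT.{u}) (hCQ : CharQ.{u}) (hOrd : Order720.{u})
    {G : Type u} [Group G] [Finite G] [IsSimpleGroup G] (hG : Nat.card G = 7920) :
    ∃ M : Subgroup G, M.index = 11 := by
  classical
  obtain ⟨t, ht⟩ := exists_prime_orderOf_dvd_card' (G := G) 2 (by rw [hG]; norm_num)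
  obtain ⟨Q, y, hQ8, htQ, hQN, hy3, hyt, hyQ, hyfix⟩ := hKer G hG t ht
  have h3 := hThree G hG t ht
  obtain ⟨P₁, P₂, hP₁, hP₂, hne⟩ : ∃ P₁ P₂ : Sylow 3 G, Inverts t (P₁ : Subgroup G) ∧
      Inverts t (P₂ : Subgroup G) ∧ P₁ ≠ P₂ := by
    haveI : Finite {P : Sylow 3 G // Inverts t (P : Subgroup G)} :=
      Nat.finite_of_card_ne_zero (by rw [h3]; norm_num)
    haveI : Nontrivial {P : Sylow 3 G // Inverts t (P : Subgroup G)} :=
      Finite.one_lt_card_iff_nontrivial.mp (by rw [h3]; norm_num)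
    obtain ⟨a, b, hab⟩ := exists_pair_ne {P : Sylow 3 G // Inverts t (P : Subgroup G)}
    exact ⟨a.1, b.1, a.2, b.2, fun h => hab (Subtype.ext h)⟩
  have hN₁ := hQN P₁ hP₁
  have hN₂ := hQN P₂ hP₂
  have hsq := hUniq G hG t Q y P₁ ht hQ8 htQ hP₁ hN₁ hy3 hyQ hyfix
  have hpow9 : ∀ (P : Sylow 3 G), ∀ x ∈ (P : Subgroup G), x ^ 9 = 1 := by
    intro P x hx
    have h1 : (⟨x, hx⟩ : (P : Subgroup G)) ^ Nat.card (P : Subgroup G) = 1 := pow_card_eq_one'
    rw [card_syl3 hG P] at h1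
    exact congrArg Subtype.val h1
  have hpow8 : ∀ x ∈ Q, x ^ 8 = 1 := by
    intro x hx
    have h1 : (⟨x, hx⟩ : Q) ^ Nat.card Q = 1 := pow_card_eq_one'
    rw [hQ8] at h1
    exact congrArg Subtype.val h1
  have hfpf : ∀ (P : Sylow 3 G), Inverts t (P : Subgroup G) → ∀ q ∈ Q, q ≠ 1 →
      ∀ x ∈ (P : Subgroup G), q * x = x * q → x = 1 := by
    intro P hP q hq hq1 x hx hcomm
    have htx : t * x = x * t := by
      by_cases hqt : q = t
      · rw [← hqt]; exact hcomm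
      · have h := hsq q hq hq1 hqt
        rw [← h, mul_assoc, hcomm, ← mul_assoc, hcomm, mul_assoc]
    have h1 := hP x hx
    rw [htx, mul_inv_cancel_right] at h1
    have hx2 : x ^ 2 = 1 := by
      rw [pow_two]
      nth_rewrite 2 [h1]
      exact mul_inv_cancel x
    have hd2 : orderOf x ∣ 2 := orderOf_dvd_of_pow_eq_one hx2
    have hd9 : orderOf x ∣ 9 := orderOf_dvd_of_pow_eq_one (hpow9 P x hx)
    have hd1 : orderOf x ∣ Nat.gcd 2 9 := Nat.dvd_gcd hd2 hd9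
    have : orderOf x = 1 := Nat.dvd_one.mp (by simpa using hd1)
    exact orderOf_eq_one_iff.mp this
  have hconjP : ∀ (P : Sylow 3 G), Inverts t (P : Subgroup G) →
      ∀ x ∈ (P : Subgroup G), ∀ x' ∈ (P : Subgroup G), x ≠ 1 → x' ≠ 1 → IsConj x x' := by
    intro P hP x hx x' hx' h1 h1'
    obtain ⟨q, -, hqx⟩ := hReg G (P : Subgroup G) Q (card_syl3 hG P) hQ8 (hQN P hP) (hfpf P hP)
      x hx x' hx' h1 h1'
    exact isConj_iff.mpr ⟨q, hqx⟩
  obtain ⟨D⟩ := chars hG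
  obtain ⟨i, hi⟩ := hCol G hG D t ht
  have hc₁ := hCP G hG D i P₁ (hconjP P₁ hP₁)
  have hc₂ := hCP G hG D i P₂ (hconjP P₂ hP₂)
  have hχt := hCT G hG D i P₁ t ht hP₁ hc₁ hi
  obtain ⟨hR, hS₁⟩ := hCQ G hG D i P₁ t Q y ht hP₁ hQ8 htQ hN₁ hsq hy3 hyt hyQ hyfix hc₁ hχt
  obtain ⟨-, hS₂⟩ := hCQ G hG D i P₂ t Q y ht hP₂ hQ8 htQ hN₂ hsq hy3 hyt hyQ hyfix hc₂ hχt
  have hint : ∀ (P : Sylow 3 G), ∀ x : G, x ∈ (P : Subgroup G) → x ∈ Q → x = 1 := by
    intro P x hx hxQ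
    have hd8 : orderOf x ∣ 8 := orderOf_dvd_of_pow_eq_one (hpow8 x hxQ)
    have hd9 : orderOf x ∣ 9 := orderOf_dvd_of_pow_eq_one (hpow9 P x hx)
    have hd1 : orderOf x ∣ Nat.gcd 8 9 := Nat.dvd_gcd hd8 hd9
    have : orderOf x = 1 := Nat.dvd_one.mp (by simpa using hd1)
    exact orderOf_eq_one_iff.mp this
  have hcard₁ := (hSum G (P₁ : Subgroup G) Q hN₁ (hint P₁)).1
  have hcard₂ := (hSum G (P₂ : Subgroup G) Q hN₂ (hint P₂)).1
  rw [card_syl3 hG P₁, hQ8] at hcard₁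
  rw [card_syl3 hG P₂, hQ8] at hcard₂
  have hne_top := hFix G (D.a i : G → ℂ) (a_isChar D i) (a_sum D i)
    ((P₁ : Subgroup G) ⊔ Q) ((P₂ : Subgroup G) ⊔ Q) Q 2 2 3 le_sup_right le_sup_right
    (by rw [hS₁, hcard₁]; norm_num) (by rw [hS₂, hcard₂]; norm_num)
    (by rw [hR, hQ8]; norm_num) (by norm_num)
  have h720 := hOrd G hG P₁ P₂ Q (((P₁ : Subgroup G) ⊔ Q) ⊔ ((P₂ : Subgroup G) ⊔ Q)) hne hQ8 hN₁
    (le_sup_left.trans le_sup_left) (le_sup_left.trans le_sup_right)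
    (le_sup_right.trans le_sup_left) hne_top
  refine ⟨((P₁ : Subgroup G) ⊔ Q) ⊔ ((P₂ : Subgroup G) ⊔ Q), ?_⟩
  have := Subgroup.card_mul_index (((P₁ : Subgroup G) ⊔ Q) ⊔ ((P₂ : Subgroup G) ⊔ Q))
  rw [h720, hG] at this
  omega

/-- The automorphism group of a Steiner system `S(4, 5, 11)` has order 7920. -/
theorem card_aut11 {α : Type u} [Fintype α] [DecidableEq α] (hα : Fintype.card α = 11)
    {B : Set (Finset α)} (hB : IsSteinerSystem 4 5 B) : Nat.card (setSystemAut B) = 7920 := by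
  rw [(Cfsg.Agent.Lib.Helper86.St11.lbl hα hB).card_aut
    (Cfsg.Agent.Lib.Helper86.St11.rigid hα hB)]
  decide

/-- A simple group of order 7920 with a subgroup of index 11 is the concrete group. -/
theorem final_of (hFL : FixLe3.{u}) (hS4 : Sharp4.{u}) (hTh : Third.{u})
    (hSt : SteinerOfThird.{u})
    {G : Type u} [Group G] [Finite G] [IsSimpleGroup G] (hG : Nat.card G = 7920)
    (M : Subgroup G) (hM : M.index = 11)
    (d : Finset GolayPt) (hd : d ∈ dodecads) (p : GolayPt) (hp : p ∈ d) :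
    Nonempty (G ≃* ↥(MulAction.stabilizer M24 d ⊓ MulAction.stabilizer M24 p)) := by
  classical
  haveI : Finite (G ⧸ M) := inferInstance
  haveI : Fintype (G ⧸ M) := Fintype.ofFinite _
  have hΩ : Fintype.card (G ⧸ M) = 11 := by
    rw [← Nat.card_eq_fintype_card]
    exact hM
  have hfix := hFL G hG M hM
  have hsharp := hS4 G (G ⧸ M) hG hΩ hfix
  obtain ⟨e, he1, he2, he3⟩ := hTh G (G ⧸ M) hΩ hsharp
  obtain ⟨B, hB, hBinv⟩ := hSt G (G ⧸ M) e he1 he2 he3
  have hφmem : ∀ g : G, MulAction.toPermHom G (G ⧸ M) g ∈ setSystemAut B := by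
    intro g
    rw [Cfsg.Agent.Lib.Helper8.AutTransport.mem_aut_iff]
    apply Set.Subset.antisymm
    · rintro _ ⟨b, hb, rfl⟩
      exact hBinv g b hb
    · intro l hl
      refine ⟨l.image (fun x => g⁻¹ • x), hBinv g⁻¹ l hl, ?_⟩
      show (l.image (fun x => g⁻¹ • x)).image (fun x => g • x) = l
      rw [Finset.image_image]
      have h1 : (fun x : G ⧸ M => g • x) ∘ (fun x => g⁻¹ • x) = id := by
        funext x
        simp
      rw [h1, Finset.image_id]
  let ψ₀ : G →* setSystemAut B := (MulAction.toPermHom G (G ⧸ M)).codRestrict _ hφmem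
  have hinj : Function.Injective ψ₀ := by
    rw [← MonoidHom.ker_eq_bot_iff]
    rcases (MonoidHom.normal_ker ψ₀).eq_bot_or_eq_top with h | h
    · exact h
    · exfalso
      have hall : ∀ g : G, g ∈ M := by
        intro g
        have hg : g ∈ ψ₀.ker := by rw [h]; exact Subgroup.mem_top g
        have h1 : ψ₀ g = 1 := MonoidHom.mem_ker.mp hg
        have h2 : MulAction.toPermHom G (G ⧸ M) g = 1 := congrArg Subtype.val h1
        have h3 : g • ((1 : G) : G ⧸ M) = ((1 : G) : G ⧸ M) := by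
          have := congrArg (fun σ : Equiv.Perm (G ⧸ M) => σ ((1 : G) : G ⧸ M)) h2
          exact this
        rw [MulAction.Quotient.smul_coe, smul_eq_mul, mul_one] at h3
        have h4 := QuotientGroup.eq.mp h3
        simpa using h4
      have : M = ⊤ := by
        rw [eq_top_iff]
        intro g _
        exact hall g
      rw [this, Subgroup.index_top] at hM
      omega
  have hbij : Function.Bijective ψ₀ :=
    (Nat.bijective_iff_injective_and_card _).mpr ⟨hinj, by rw [hG, card_aut11 hΩ hB]⟩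
  obtain ⟨e', he'⟩ := (Cfsg.Agent.Lib.Helper86.St11.lbl hΩ hB).setSystemIso
    (Cfsg.Agent.Lib.Helper86.St11.lbl (Cfsg.Agent.Lib.Helper86.St11Simple.card_der hd hp)
      (Cfsg.Agent.Lib.Helper86.St11Simple.der_steiner hd hp))
  have hbij2 : Function.Bijective (Cfsg.Agent.Lib.Helper86.St11Simple.ψ hp) :=
    (Nat.bijective_iff_injective_and_card _).mpr
      ⟨Cfsg.Agent.Lib.Helper86.St11Simple.ψ_injective hd hp,
        by rw [Cfsg.Agent.S0387.result d hd p hp,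
          Cfsg.Agent.Lib.Helper86.St11Simple.aut_der_card hd hp]⟩
  exact ⟨((MulEquiv.ofBijective ψ₀ hbij).trans
    (Cfsg.Agent.Lib.Helper8.AutTransport.autCongr e' he')).trans
    (MulEquiv.ofBijective (Cfsg.Agent.Lib.Helper86.St11Simple.ψ hp) hbij2).symm⟩

/-- S0420 from the pieces. -/
theorem s0420_of (hThree : ThreeInv.{u}) (hKer : KerQ.{u}) (hUniq : UniqInv.{u})
    (hReg : RegQ.{u}) (hSum : SumProd.{u}) (hFix : FixVec.{u}) (hCol : Col2.{u})
    (hCP : CharP.{u}) (hCT : CharT.{u}) (hCQ : CharQ.{u}) (hOrd : Order720.{u})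
    (hFL : FixLe3.{u}) (hS4 : Sharp4.{u}) (hTh : Third.{u}) (hSt : SteinerOfThird.{u})
    {G : Type u} [Group G] [Finite G] [IsSimpleGroup G] (hG : Nat.card G = 7920)
    (d : Finset GolayPt) (hd : d ∈ dodecads) (p : GolayPt) (hp : p ∈ d) :
    Nonempty (G ≃* ↥(MulAction.stabilizer M24 d ⊓ MulAction.stabilizer M24 p)) := by
  obtain ⟨M, hM⟩ := exists_index11 hThree hKer hUniq hReg hSum hFix hCol hCP hCT hCQ hOrd hG
  exact final_of hFL hS4 hTh hSt hG M hM d hd p hp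

end Cfsg.Agent.Lib.Helper68.M11UAsm
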