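import Mathlib
import Cfsg.Agent.Lib.Helper68.M11Spor
import Cfsg.Agent.Lib.Helper68.M11Nse
import Cfsg.Agent.S2490
import Cfsg.Agent.S0420

/-!
# Recognising `Cfsg.Spor.M11` (helper68)

A group of order 7920 in which the elements of order divisible by 11 have order 11 is
isomorphic to `Cfsg.Spor.M11`: its prime graph is disconnected (S2490), so it is simple, and a
simple group of order 7920 is the Mathieu group (S0420).
-/

set_option autoImplicit false

namespace Cfsg.Agent.Lib.Helper68.M11Iso

open Cfsg Subgroup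

universe u

/-- A simple group of order 7920 is isomorphic to `Cfsg.Spor.M11`. -/
theorem iso_of_simple {G : Type u} [Group G] [Finite G] [hs : IsSimpleGroup G]
    (hG : Nat.card G = 7920) : Nonempty (G ≃* ↥Spor.M11) := by
  obtain ⟨e⟩ := Cfsg.Agent.S0420.result ⟨hs, hG⟩ _ Cfsg.Agent.Lib.Helper68.M11Spor.sq_mem _
    Cfsg.Agent.Lib.Helper68.M11Spor.zero_mem_sq
  exact ⟨e.trans Cfsg.Agent.Lib.Helper68.M11Spor.iso⟩

/-- A group of order 7920 in which 11 is an isolated vertex of the prime graph is isomorphic to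
`Cfsg.Spor.M11`. -/
theorem iso_of_disc {G : Type u} [Group G] [Finite G] (hG : Nat.card G = 7920)
    (h11 : ∀ g : G, 11 ∣ orderOf g → orderOf g = 11) : Nonempty (G ≃* ↥Spor.M11) := by
  have hs : IsSimpleGroup G := by
    refine Cfsg.Agent.S2490.result hG ⟨{11}, ⟨11, rfl, by norm_num, by rw [hG]; norm_num⟩,
      ⟨2, by simp, by norm_num, by rw [hG]; norm_num⟩, ?_⟩
    rintro a ha b hb hap hbp - - ⟨g, hg⟩
    rw [Set.mem_singleton_iff] at ha
    subst ha
    have h1 := h11 g (by rw [hg]; exact dvd_mul_right 11 b)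
    rw [hg] at h1
    have hb1 : b = 1 := by omega
    exact hbp.ne_one hb1
  exact iso_of_simple hG

end Cfsg.Agent.Lib.Helper68.M11Iso
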