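import Cfsg.Agent.Lib.Helper68.MixStmt
import Cfsg.Agent.S0071

/-!
# S4017 -- assembly of the pieces of `MixStmt`
-/

set_option autoImplicit false

namespace Cfsg.Agent.Lib.Helper68.MixAsm

open Cfsg.Agent.Lib.Helper68.MixStmt

universe u

/-- Arithmetic: `p` an odd prime, `p + 1 = q ^ a` with `q` prime forces `q = 2`, `a ≥ 2`. -/
theorem arith {p q a : ℕ} (hp : p.Prime) (hq : q.Prime) (hp2 : p ≠ 2) (h : p + 1 = q ^ a) :
    q = 2 ∧ 2 ≤ a := by
  have hodd : p % 2 = 1 := by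
    rcases hp.eq_two_or_odd with h2 | h2
    · exact absurd h2 hp2
    · exact h2
  have h2 : 2 ∣ q ^ a := by
    rw [← h]; omega
  have h3 : 2 ∣ q := Nat.Prime.dvd_of_dvd_pow Nat.prime_two h2
  have hq2 : q = 2 := ((Nat.prime_dvd_prime_iff_eq Nat.prime_two hq).mp h3).symm
  refine ⟨hq2, ?_⟩
  subst hq2
  by_contra hlt
  have ha : a ≤ 1 := by omega
  have hp3 : 2 ≤ p := hp.two_le
  interval_cases a <;> omega

/-- The boundary context is contradictory. -/
theorem boundary (hSIMPLE : SIMPLE.{u}) (hA1T : A1T.{u}) (hA1F3 : A1F3.{u}) (hA1F2 : A1F2.{u})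
    (hA2a : A2a.{u}) (hA2b : A2b.{u}) (hBV : BV.{u}) (hBP1 : BP1.{u}) (hBSTAR : BSTAR.{u})
    (hBSIG : BSIG.{u}) (hBFIN : BFIN.{u})
    (G : Type u) [Group G] [Finite G] (p a : ℕ) (Q : Subgroup G) (y : G)
    (h : BCtx G p a Q y) : False := by
  by_cases hA : CaseA Q
  · by_cases hC1 : ∀ x ∈ Subgroup.centralizer (Q : Set G), IsPElt p x → x = 1
    · obtain ⟨h3, hcard⟩ := hA1T G p a Q y h hA hC1
      rcases Nat.lt_or_ge a 3 with ha | ha
      · have ha2 : a = 2 := le_antisymm (by omega) h.ha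
        subst ha2
        exact hA1F2 G p Q y h h3 hcard
      · exact hA1F3 G p a Q y h h3 hcard ha
    · push_neg at hC1
      obtain ⟨x, hx, hpx, hx1⟩ := hC1
      exact hA2b G p a Q y h hA (hA2a G p a Q y h hA ⟨x, hx, hpx, hx1⟩)
  · unfold CaseA at hA
    push_neg at hA
    obtain ⟨t₀, ht₀, ht₀1, hnle⟩ := hA
    obtain ⟨V, hV⟩ := hBV G p a Q y h t₀ ht₀ ht₀1 hnle
    have hC1 := hBP1 G p a Q y h t₀ ht₀ ht₀1 V hV
    have hstar := hBSTAR G p a Q y h hC1
    obtain ⟨ha2, hcent, hinv⟩ := hBSIG G p a Q y h t₀ ht₀ ht₀1 V hV hstar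
    subst ha2
    exact hBFIN G p Q y h t₀ ht₀ ht₀1 V hV hstar hcent hinv (hSIMPLE G p 2 Q y h)

/-- The reduction to the boundary context, by strong induction on the order. -/
theorem reduce (hEVEN : EVEN.{u}) (hOP : OP.{u}) (hFROB1 : FROB1.{u}) (hFROB2 : FROB2.{u})
    (hORB : ORB.{u})
    (hB : ∀ (G : Type u) [Group G] [Finite G] (p a : ℕ) (Q : Subgroup G) (y : G),
      BCtx G p a Q y → False) :
    ∀ (n : ℕ) (G : Type u) [Group G] [Finite G] (p q : ℕ), Nat.card G = n → Hyp G p q →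
      PQNum p q (Nat.card G) := by
  intro n
  induction n using Nat.strong_induction_on with
  | _ n ih =>
    intro G _ _ p q hn hH
    have hIH : IH.{u} (Nat.card G) := by
      intro H _ _ p' q' hlt hH'
      exact ih (Nat.card H) (hn ▸ hlt) H p' q' rfl hH'
    have hE : EvenPQ G p q := hEVEN G p q hH hIH
    obtain ⟨hp, hq, hpq, hp2, hpG, hqG, hmix, hlarge⟩ := hH
    by_contra hnot
    haveI : Fact q.Prime := ⟨hq⟩
    obtain ⟨S⟩ : Nonempty (Sylow q G) := inferInstance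
    have hfrob := Cfsg.Agent.S0071.result S
    have hnc : ¬ ∃ N : Subgroup G, N.Normal ∧ N.IsComplement' (S : Subgroup G) := by
      rintro ⟨K, hK, hKc⟩
      exact hFROB1 G p q hp hq hpq hpG hqG hE hnot S K hK hKc
    rw [hfrob] at hnc
    push_neg at hnc
    obtain ⟨Q₁, hQ₁S, g, hg, hgc, hgn⟩ := hnc
    have hQ₁ : IsPGroup q Q₁ := S.2.to_le hQ₁S
    obtain ⟨y, hy, hyN, hyC⟩ := hFROB2 G p q hp hq hpq hpG hE Q₁ g hQ₁ hg hgc hgn
    obtain ⟨hle, htr⟩ := hORB G p Q₁ y hp hy hyN hyC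
    have hQ₁card : Nat.card Q₁ ∣ q ^ (Nat.card G).factorization q := by
      obtain ⟨k, hk⟩ := IsPGroup.iff_card.mp hQ₁
      rw [hk]
      apply pow_dvd_pow
      have hdvd : q ^ k ∣ Nat.card G := hk ▸ Subgroup.card_subgroup_dvd_card Q₁
      exact (Nat.Prime.pow_dvd_iff_le_factorization hq Nat.card_pos.ne').mp hdvd
    have hQ₁le : Nat.card Q₁ ≤ q ^ (Nat.card G).factorization q :=
      Nat.le_of_dvd (pow_pos hq.pos _) hQ₁card
    have hpos : 0 < q ^ (Nat.card G).factorization q := pow_pos hq.pos _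
    rcases hlarge with hl | ⟨hpeq, hab⟩
    · omega
    · have hpa : p + 1 = q ^ (Nat.card G).factorization q := by omega
      have hQc : Nat.card Q₁ = p + 1 := by omega
      obtain ⟨hq2, ha2⟩ := arith hp hq hp2 hpa
      subst hq2
      refine hB G p ((Nat.card G).factorization 2) Q₁ y
        { hp := hp
          hpa := hpa
          ha := ha2
          hQ := by rw [hQc, hpa]
          hfac := rfl
          hyQ := hyN
          htrans := htr hQc
          hy := hy
          hE := hE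
          hpG := hpG
          hab := hab
          hOp := hOP G p Q₁ y ⟨hp, hq, hpq, hp2, hpG, hqG, hmix, Or.inr ⟨hpeq, hab⟩⟩ hE hIH hnot
            hQ₁ hyN hy hyC
          hnot := hnot }

end Cfsg.Agent.Lib.Helper68.MixAsm
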