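import Cfsg.Agent.Lib.Helper68.MixStmt
import Cfsg.Agent.S0144
import Cfsg.Agent.S0044
import Cfsg.Agent.Lib.Helper78.Fitting
import Cfsg.Agent.H32.Cores

/-!
# S4017 piece FIT
-/

set_option autoImplicit false

namespace Cfsg.Agent.Lib.Helper68.MixFIT

open Cfsg.Agent.Lib.Helper68.MixStmt
open Cfsg.Agent.Lib.Helper78.Fitting

universe u

theorem main : FIT.{u} := by
  intro M _ _ p W hp hp2 hPQ hcomm hcent
  haveI : Fact p.Prime := ⟨hp⟩
  haveI : Fact (Nat.Prime 2) := ⟨Nat.prime_two⟩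
  haveI : Group.IsSolvable M :=
    Cfsg.Agent.S0144.main p 2 hp Nat.prime_two (Nat.card M) M rfl hPQ
  have hS := Cfsg.Agent.S0044.result (G := M)
  have hOpW : Cfsg.pCore p M ≤ (W : Subgroup M) := pCore_le_sylow W
  have hcore : ∀ ℓ : Nat.Primes,
      Cfsg.pCore (ℓ : ℕ) M ≤ Subgroup.centralizer ((W : Subgroup M) : Set M) := by
    intro ℓ
    haveI : Fact (ℓ : ℕ).Prime := ⟨ℓ.2⟩
    by_cases h2 : (ℓ : ℕ) = 2
    · intro o ho
      rw [Subgroup.mem_centralizer_iff]
      intro w hw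
      rw [h2] at ho
      exact hcent (Cfsg.pCore 2 M) (pCore_normal 2) (pCore_isPGroup 2) w hw o ho
    · by_cases hpl : (ℓ : ℕ) = p
      · intro o ho
        rw [Subgroup.mem_centralizer_iff]
        intro w hw
        rw [hpl] at ho
        have ho' : o ∈ (W : Subgroup M) := hOpW ho
        have hc := hcomm.is_comm.comm (⟨w, hw⟩ : W) ⟨o, ho'⟩
        exact congrArg Subtype.val hc
      · have hnd : ¬ (ℓ : ℕ) ∣ Nat.card M := by
          intro hd
          rcases hPQ ℓ ℓ.2 hd with h | h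
          · exact hpl h
          · exact h2 h
        rw [pCore_eq_bot_of_not_dvd _ hnd]
        exact bot_le
  have hF : Cfsg.fittingSubgroup M ≤ Subgroup.centralizer ((W : Subgroup M) : Set M) := by
    rw [fitting_eq_iSup_pCore]
    exact iSup_le hcore
  have hWF : (W : Subgroup M) ≤ Cfsg.fittingSubgroup M :=
    le_trans (Subgroup.le_centralizer_iff.mp hF) hS
  have hFle : Cfsg.fittingSubgroup M ≤ Cfsg.pCore 2 M ⊔ Cfsg.pCore p M := by
    rw [fitting_eq_iSup_pCore]
    apply iSup_le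
    intro ℓ
    haveI : Fact (ℓ : ℕ).Prime := ⟨ℓ.2⟩
    by_cases h2 : (ℓ : ℕ) = 2
    · rw [h2]; exact le_sup_left
    · by_cases hpl : (ℓ : ℕ) = p
      · rw [hpl]; exact le_sup_right
      · have hnd : ¬ (ℓ : ℕ) ∣ Nat.card M := by
          intro hd
          rcases hPQ ℓ ℓ.2 hd with h | h
          · exact hpl h
          · exact h2 h
        rw [pCore_eq_bot_of_not_dvd _ hnd]
        exact bot_le
  have hnorm : Cfsg.pCore 2 M ≤ Subgroup.normalizer ((Cfsg.pCore p M : Subgroup M) : Set M) := by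
    haveI := pCore_normal (G := M) p
    rw [Subgroup.normalizer_eq_top]
    exact le_top
  have hd1 : Nat.card (W : Subgroup M) ∣ Nat.card (Cfsg.pCore 2 M) * Nat.card (Cfsg.pCore p M) :=
    (Subgroup.card_dvd_of_le (hWF.trans hFle)).trans (Cfsg.Agent.H32.card_sup_dvd _ _ hnorm)
  obtain ⟨a, ha⟩ := IsPGroup.iff_card.mp W.isPGroup'
  obtain ⟨b, hb⟩ := IsPGroup.iff_card.mp (pCore_isPGroup (G := M) 2)
  have hcop : Nat.Coprime (Nat.card (W : Subgroup M)) (Nat.card (Cfsg.pCore 2 M)) := by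
    rw [ha, hb]
    apply Nat.Coprime.pow
    exact (Nat.coprime_primes hp Nat.prime_two).mpr hp2
  have hd2 : Nat.card (W : Subgroup M) ∣ Nat.card (Cfsg.pCore p M) :=
    hcop.dvd_of_dvd_mul_left hd1
  have heq : Cfsg.pCore p M = (W : Subgroup M) :=
    Subgroup.eq_of_le_of_card_ge hOpW (Nat.le_of_dvd Nat.card_pos hd2)
  rw [← heq]
  exact pCore_normal p

end Cfsg.Agent.Lib.Helper68.MixFIT
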