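import Cfsg.Agent.Lib.Helper68.MixStmt
import Cfsg.Agent.H32.Cores

/-!
# S4017 piece LEMM (from FIT, BURN, TRANS)
-/

set_option autoImplicit false

namespace Cfsg.Agent.Lib.Helper68.MixLEMM

open Cfsg.Agent.Lib.Helper68.MixStmt

universe u

theorem main (hFIT : FIT.{u}) (hBURN : BURN.{u}) (hTRANS : TRANS.{u}) : LEMM.{u} := by
  intro G _ _ p a Q y hB X hX hQX
  have hp := hB.hp
  haveI : Fact p.Prime := ⟨hp⟩
  have hp2 : p ≠ 2 := by
    intro h
    have hpa := hB.hpa
    have ha := hB.ha
    subst h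
    have h4 : 4 ∣ 2 ^ a := by
      obtain ⟨c, rfl⟩ := Nat.exists_eq_add_of_le ha
      exact ⟨2 ^ c, by ring⟩
    omega
  by_cases hcen : X ⊓ Subgroup.normalizer (Q : Set G) ≤ Subgroup.centralizer (Q : Set G)
  · exact Or.inr (hBURN G p a Q y hB X hX hQX hcen)
  have hex : ∃ n, n ∈ X ∧ n ∈ Subgroup.normalizer (Q : Set G) ∧
      n ∉ Subgroup.centralizer (Q : Set G) := by
    by_contra hcon
    push_neg at hcon
    exact hcen (fun n hn => hcon n hn.1 hn.2)
  obtain ⟨n, hnX, hnN, hnC⟩ := hex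
  have htr := hTRANS G p a Q y hB n hnN hnC
  have h2Q : 2 ∣ Nat.card Q := by
    rw [hB.hQ]
    exact dvd_pow_self 2 (by have := hB.ha; omega)
  have hQdvdX : Nat.card Q ∣ Nat.card X := Subgroup.card_dvd_of_le hQX
  have hPQX : PQNum p 2 (Nat.card X) := hB.hE X hX (h2Q.trans hQdvdX)
  obtain ⟨W⟩ : Nonempty (Sylow p X) := inferInstance
  have hcommW : IsMulCommutative W := by
    obtain ⟨P, hP⟩ := (W.isPGroup'.map X.subtype).exists_le_sylow
    have hPc := hB.hab P
    refine ⟨⟨fun w₁ w₂ => ?_⟩⟩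
    have h1 : ((w₁ : X) : G) ∈ (P : Subgroup G) := hP (Subgroup.mem_map_of_mem _ w₁.2)
    have h2 : ((w₂ : X) : G) ∈ (P : Subgroup G) := hP (Subgroup.mem_map_of_mem _ w₂.2)
    have hc := hPc.is_comm.comm (⟨_, h1⟩ : P) ⟨_, h2⟩
    have hc' := congrArg Subtype.val hc
    exact Subtype.ext (Subtype.ext hc')
  by_cases hW : ∀ O : Subgroup X, O.Normal → IsPGroup 2 O → ∀ w ∈ W, ∀ o ∈ O, w * o = o * w
  · right
    have hWn := hFIT X p W hp hp2 hPQX hcommW hW
    refine ⟨(W : Subgroup X).map X.subtype, Subgroup.map_subtype_le _, W.isPGroup'.map _, ?_, ?_⟩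
    · rintro g hg v ⟨w, hw, rfl⟩
      have := hWn.conj_mem w hw ⟨g, hg⟩
      exact ⟨_, this, by simp⟩
    · have hcardV : Nat.card ((W : Subgroup X).map X.subtype) = Nat.card (W : Subgroup X) :=
        Subgroup.card_map_of_injective X.subtype_injective
      rw [hcardV]
      have hidx := Subgroup.card_mul_index (W : Subgroup X)
      have hnd : ¬ p ∣ (W : Subgroup X).index := W.not_dvd_index
      have hidx2 : (W : Subgroup X).index
          = 2 ^ (W : Subgroup X).index.primeFactorsList.length := by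
        apply Nat.eq_prime_pow_of_unique_prime_dvd
        · exact Subgroup.index_ne_zero_of_finite
        · intro d hd hdi
          rcases hPQX d hd (hdi.trans (Dvd.intro_left _ hidx)) with h | h
          · exact absurd (h ▸ hdi) hnd
          · exact h
      obtain ⟨m, hm⟩ := IsPGroup.iff_card.mp W.isPGroup'
      have h1 : 2 ^ a ∣ p ^ m * 2 ^ (W : Subgroup X).index.primeFactorsList.length := by
        rw [← hm, ← hidx2, hidx, ← hB.hQ]
        exact hQdvdX
      have hcop : Nat.Coprime (2 ^ a) (p ^ m) :=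
        Nat.Coprime.pow _ _ ((Nat.coprime_primes Nat.prime_two hp).mpr (Ne.symm hp2))
      have h2 : 2 ^ a ∣ 2 ^ (W : Subgroup X).index.primeFactorsList.length :=
        hcop.dvd_of_dvd_mul_left h1
      have haj : a ≤ (W : Subgroup X).index.primeFactorsList.length :=
        (Nat.pow_dvd_pow_iff_le_right (by norm_num)).mp h2
      have h3 : 2 ^ (W : Subgroup X).index.primeFactorsList.length ∣ Nat.card G := by
        have h4 : 2 ^ (W : Subgroup X).index.primeFactorsList.length ∣ Nat.card X := by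
          rw [← hidx, ← hidx2]
          exact Dvd.intro_left _ rfl
        exact h4.trans (Subgroup.card_subgroup_dvd_card X)
      have hja : (W : Subgroup X).index.primeFactorsList.length ≤ a := by
        have h5 := (Nat.Prime.pow_dvd_iff_le_factorization Nat.prime_two Nat.card_pos.ne').mp h3
        rw [hB.hfac] at h5
        exact h5
      have hj : (W : Subgroup X).index.primeFactorsList.length = a := le_antisymm hja haj
      rw [← hidx, hidx2, hj, mul_comm]
  · left
    push_neg at hW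
    obtain ⟨O, hOn, hO2, w, hw, o, ho, hne⟩ := hW
    have hO'2 : IsPGroup 2 (O.map X.subtype) := hO2.map _
    have hXO' : ∀ x ∈ X, ∀ z ∈ O.map X.subtype, x * z * x⁻¹ ∈ O.map X.subtype := by
      rintro x hx z ⟨o₁, ho₁, rfl⟩
      exact ⟨_, hOn.conj_mem o₁ ho₁ ⟨x, hx⟩, by simp⟩
    have hXO'' : ∀ x ∈ X, ∀ z, x * z * x⁻¹ ∈ O.map X.subtype → z ∈ O.map X.subtype := by
      intro x hx z hz
      have h1 := hXO' x⁻¹ (X.inv_mem hx) _ hz
      have h2 : x⁻¹ * (x * z * x⁻¹) * x⁻¹⁻¹ = z := by group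
      rw [h2] at h1
      exact h1
    have hQN : Q ≤ Subgroup.normalizer ((O.map X.subtype : Subgroup G) : Set G) := by
      intro s hs
      rw [Subgroup.mem_normalizer_iff]
      intro z
      exact ⟨fun hz => hXO' s (hQX hs) z hz, fun hz => hXO'' s (hQX hs) z hz⟩
    have hdvd := Cfsg.Agent.H32.card_sup_dvd Q (O.map X.subtype) hQN
    obtain ⟨b, hb⟩ := IsPGroup.iff_card.mp hO'2
    rw [hB.hQ, hb, ← pow_add] at hdvd
    obtain ⟨c, hc, hceq⟩ := (Nat.dvd_prime_pow Nat.prime_two).mp hdvd
    have hcG : 2 ^ c ∣ Nat.card G := hceq ▸ Subgroup.card_subgroup_dvd_card (Q ⊔ O.map X.subtype)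
    have hca : c ≤ a := by
      have h5 := (Nat.Prime.pow_dvd_iff_le_factorization Nat.prime_two Nat.card_pos.ne').mp hcG
      rw [hB.hfac] at h5
      exact h5
    have hQeq : Q = Q ⊔ O.map X.subtype := by
      apply Subgroup.eq_of_le_of_card_ge le_sup_left
      rw [hceq, hB.hQ]
      exact Nat.pow_le_pow_right (by norm_num) hca
    have hO'Q : O.map X.subtype ≤ Q := by
      rw [hQeq]
      exact le_sup_right
    have ho' : (o : G) ∈ O.map X.subtype := Subgroup.mem_map_of_mem X.subtype ho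
    have ho1 : (o : G) ≠ 1 := by
      intro h1
      apply hne
      have h2 : o = 1 := Subtype.ext h1
      rw [h2]
      simp
    have hQO' : Q ≤ O.map X.subtype := by
      intro t ht
      by_cases ht1 : t = 1
      · rw [ht1]
        exact Subgroup.one_mem _
      · obtain ⟨k, hk⟩ := htr (o : G) (hO'Q ho') ho1 t ht ht1
        rw [← hk]
        exact hXO' _ (X.pow_mem hnX k) _ ho'
    have hQO : Q = O.map X.subtype := le_antisymm hQO' hO'Q
    intro x hx
    rw [Subgroup.mem_normalizer_iff]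
    intro z
    rw [hQO]
    exact ⟨fun hz => hXO' x hx z hz, fun hz => hXO'' x hx z hz⟩

end Cfsg.Agent.Lib.Helper68.MixLEMM
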