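import Mathlib
import Cfsg.Agent.Lib.Helper92.PGStmt

set_option autoImplicit false

/-! Piece CASEA of S2490 (helper68): the chief factor carrying 11 has order 11. -/

namespace Cfsg.Agent.Lib.Helper68.PGCASEA

open Cfsg.Agent.Lib.Helper92.PGStmt

universe u

theorem sylow_card_prime {G : Type u} [Group G] [Finite G] {p m : ℕ} [Fact p.Prime]
    (hN : Nat.card G = p * m) (hm : ¬ p ∣ m) (P : Sylow p G) :
    Nat.card (P : Subgroup G) = p := by
  have hp : p.Prime := Fact.out
  have hm0 : m ≠ 0 := by
    rintro rfl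
    exact hm (dvd_zero p)
  rw [Sylow.card_eq_multiplicity, hN, Nat.factorization_mul hp.ne_zero hm0]
  simp [hp.factorization_self, Nat.factorization_eq_zero_of_not_dvd hm]

theorem mem_normalizer_of_normal {G : Type u} [Group G] (H : Subgroup G) (hH : H.Normal)
    (y : G) : y ∈ Subgroup.normalizer (H : Set G) := by
  rw [Subgroup.mem_normalizer_iff]
  intro x
  constructor
  · intro hx
    exact hH.conj_mem x hx y
  · intro hx
    have := hH.conj_mem _ hx y⁻¹
    simpa [mul_assoc] using this

theorem conj_mem_centralizer {G : Type u} [Group G] (P : Subgroup G) (y : G)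
    (hy : y ∈ Subgroup.normalizer (P : Set G)) (x : G)
    (hx : x ∈ Subgroup.centralizer (P : Set G)) :
    y * x * y⁻¹ ∈ Subgroup.centralizer (P : Set G) := by
  rw [Subgroup.mem_centralizer_iff] at hx ⊢
  intro p hp
  have hp' : y⁻¹ * p * y ∈ (P : Set G) := (Subgroup.mem_normalizer_iff''.mp hy p).mp hp
  have h := hx _ hp'
  calc p * (y * x * y⁻¹) = y * ((y⁻¹ * p * y) * x) * y⁻¹ := by group
    _ = y * (x * (y⁻¹ * p * y)) * y⁻¹ := by rw [h]
    _ = y * x * y⁻¹ * p := by group

theorem mem_normalizer_centralizer {G : Type u} [Group G] (P : Subgroup G) (y : G)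
    (hy : y ∈ Subgroup.normalizer (P : Set G)) :
    y ∈ Subgroup.normalizer ((Subgroup.centralizer (P : Set G) : Subgroup G) : Set G) := by
  rw [Subgroup.mem_normalizer_iff]
  intro x
  constructor
  · intro hx
    exact conj_mem_centralizer P y hy x hx
  · intro hx
    have := conj_mem_centralizer P y⁻¹ (inv_mem hy) _ hx
    simpa [mul_assoc] using this

theorem main (hF : LemF.{u}) (hF11 : F11.{u}) (hFrat : Frat.{u}) (hCent : Cent.{u}) :
    CaseA.{u} := by
  intro G _ _ hG H K hH hK hHK hcard
  have hidx : Nat.card K * K.index = Nat.card G := Subgroup.card_mul_index K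
  have h720 : Nat.card H * K.index = 720 := by
    rw [hcard, hG] at hidx
    have e : 11 * (Nat.card H * K.index) = 11 * 720 := by
      rw [← mul_assoc, hidx]
    exact Nat.eq_of_mul_eq_mul_left (by norm_num) e
  have : Fact (Nat.Prime 11) := ⟨by norm_num⟩
  have : Fact (Nat.Prime 5) := ⟨by norm_num⟩
  obtain ⟨P⟩ : Nonempty (Sylow 11 G) := inferInstance
  have hP : Nat.card (P : Subgroup G) = 11 :=
    sylow_card_prime (m := 720) (by rw [hG]) (by norm_num) P
  have hCdvd : Nat.card (Subgroup.centralizer ((P : Subgroup G) : Set G)) ∣ 7920 := by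
    rw [← hG]; exact Subgroup.card_subgroup_dvd_card _
  generalize hh : Nat.card H = h at h720
  generalize hi : K.index = i at h720
  have hh720 : h ∣ 720 := Dvd.intro _ h720
  have hi720 : i ∣ 720 := Dvd.intro_left _ h720
  have h11i : ¬ 11 ∣ i := fun hd => (by norm_num : ¬ 11 ∣ 720) (hd.trans hi720)
  have h11h : ¬ 11 ∣ h := fun hd => (by norm_num : ¬ 11 ∣ 720) (hd.trans hh720)
  have hFP : i ∣ Nat.card (Subgroup.normalizer ((P : Subgroup G) : Set G)) := by
    rw [← hi]
    exact hFrat G K hK 11 P (by rw [hi]; exact h11i)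
  obtain ⟨hCP1, hCP2⟩ := hCent G 11 P hP
  have hiC : i ∣ 10 * Nat.card (Subgroup.centralizer ((P : Subgroup G) : Set G)) := by
    have := hFP.trans hCP1
    simpa using this
  generalize hc : Nat.card (Subgroup.centralizer ((P : Subgroup G) : Set G)) = c
    at hiC hCP2 hCdvd
  have h2i : ¬ 2 ∣ h → 16 ∣ i := by
    intro h2
    have hco : Nat.Coprime (2 ^ 4) h :=
      Nat.Coprime.pow_left 4 ((Nat.Prime.coprime_iff_not_dvd Nat.prime_two).mpr h2)
    have hd : 2 ^ 4 ∣ h * i := by rw [h720]; norm_num
    have := hco.dvd_of_dvd_mul_left hd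
    simpa using this
  have h3i : ¬ 3 ∣ h → 9 ∣ i := by
    intro h3
    have hco : Nat.Coprime (3 ^ 2) h :=
      Nat.Coprime.pow_left 2 ((Nat.Prime.coprime_iff_not_dvd Nat.prime_three).mpr h3)
    have hd : 3 ^ 2 ∣ h * i := by rw [h720]; norm_num
    have := hco.dvd_of_dvd_mul_left hd
    simpa using this
  have h5i : ¬ 5 ∣ h → 5 ∣ i := by
    intro h5
    have hd : 5 ∣ h * i := by rw [h720]; norm_num
    rcases (Nat.Prime.dvd_mul (by norm_num)).mp hd with h' | h'
    · exact absurd h' h5
    · exact h'
  refine ⟨?_, ?_, ?_⟩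
  · -- order 22
    by_cases h2 : 2 ∣ h
    · obtain ⟨g, hg⟩ := hF11 G hG H hH (by rw [hh]; exact h11h) 2 Nat.prime_two
        (by rw [hh]; exact h2)
      exact ⟨g, by rw [hg]⟩
    · have h16c : 16 ∣ 10 * c := (h2i h2).trans hiC
      have h2c : 2 ∣ c := by omega
      obtain ⟨g, hg⟩ := hCP2 2 Nat.prime_two (by norm_num) h2c
      exact ⟨g, by rw [hg]⟩
  · -- order 33
    by_cases h3 : 3 ∣ h
    · obtain ⟨g, hg⟩ := hF11 G hG H hH (by rw [hh]; exact h11h) 3 Nat.prime_three
        (by rw [hh]; exact h3)
      exact ⟨g, by rw [hg]⟩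
    · have h9c : 9 ∣ 10 * c := (h3i h3).trans hiC
      have h3c : 3 ∣ c := by omega
      obtain ⟨g, hg⟩ := hCP2 3 Nat.prime_three (by norm_num) h3c
      exact ⟨g, by rw [hg]⟩
  · -- order 55 or 15
    by_cases h5 : 5 ∣ h
    · obtain ⟨g, hg⟩ := hF11 G hG H hH (by rw [hh]; exact h11h) 5 (by norm_num)
        (by rw [hh]; exact h5)
      exact Or.inl ⟨g, by rw [hg]⟩
    · by_cases h5c : 5 ∣ c
      · obtain ⟨g, hg⟩ := hCP2 5 (by norm_num) (by norm_num) h5c
        exact Or.inl ⟨g, by rw [hg]⟩
      · right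
        by_cases h3 : 3 ∣ h
        · have h5G : 5 ∣ Nat.card G := by
            rw [hG]
            norm_num
          obtain ⟨y, hy⟩ := exists_prime_orderOf_dvd_card' 5 h5G
          have h27 : ¬ 27 ∣ h := fun hd => (by norm_num : ¬ 27 ∣ 720) (hd.trans hh720)
          by_cases h9 : 9 ∣ h
          · obtain ⟨m, hm⟩ := h9
            have hm3 : ¬ 3 ∣ m := by
              intro hd
              apply h27
              omega
            obtain ⟨g, hg⟩ := hF G H y 5 3 2 m (by norm_num) (by norm_num) hy
              (mem_normalizer_of_normal H hH y) (by rw [hh]; exact h5)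
              (by rw [hh, hm]; ring) hm3 (by decide)
            exact ⟨g, by rw [hg]⟩
          · obtain ⟨m, hm⟩ := h3
            have hm3 : ¬ 3 ∣ m := by
              intro hd
              apply h9
              omega
            obtain ⟨g, hg⟩ := hF G H y 5 3 1 m (by norm_num) (by norm_num) hy
              (mem_normalizer_of_normal H hH y) (by rw [hh]; exact h5)
              (by rw [hh, hm]; ring) hm3 (by decide)
            exact ⟨g, by rw [hg]⟩
        · have h9c' : 9 ∣ 10 * c := (h3i h3).trans hiC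
          have h9c : 9 ∣ c := by omega
          have h27 : ¬ 27 ∣ c := fun hd => (by norm_num : ¬ 27 ∣ 7920) (hd.trans hCdvd)
          obtain ⟨m, hm⟩ := h9c
          have hm3 : ¬ 3 ∣ m := by
            intro hd
            apply h27
            omega
          have h5N : 5 ∣ Nat.card (Subgroup.normalizer ((P : Subgroup G) : Set G)) :=
            (h5i h5).trans hFP
          obtain ⟨y', hy'⟩ := exists_prime_orderOf_dvd_card' 5 h5N
          have hy : orderOf (y' : G) = 5 := by
            rw [Subgroup.orderOf_coe]; exact hy'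
          obtain ⟨g, hg⟩ := hF G (Subgroup.centralizer ((P : Subgroup G) : Set G)) (y' : G)
            5 3 2 m (by norm_num) (by norm_num) hy
            (mem_normalizer_centralizer (P : Subgroup G) (y' : G) y'.2)
            (by rw [hc]; exact h5c)
            (by rw [hc, hm]; ring) hm3 (by decide)
          exact ⟨g, by rw [hg]⟩

end Cfsg.Agent.Lib.Helper68.PGCASEA
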