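import Mathlib
import Cfsg.Agent.Lib.Helper92.PGStmt

/-!
# S2490 piece LEMF (helper68)
-/

namespace Cfsg.Agent.Lib.Helper68.PGLEMF

open Cfsg.Agent.Lib.Helper92.PGStmt
open scoped Pointwise

universe u

/-- conjugation action of `zpowers y` on a subgroup `N` normalized by `y`. -/
@[reducible] def conjAct {G : Type u} [Group G] (N : Subgroup G) (y : G)
    (hZN : ∀ z ∈ Subgroup.zpowers y, ∀ x ∈ N, z * x * z⁻¹ ∈ N) :
    MulDistribMulAction (Subgroup.zpowers y) N where
  smul z x := ⟨z.1 * x.1 * z.1⁻¹, hZN z.1 z.2 x.1 x.2⟩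
  one_smul x := by
    apply Subtype.ext
    show ((1 : Subgroup.zpowers y) : G) * (x : G) * ((1 : Subgroup.zpowers y) : G)⁻¹ = (x : G)
    simp
  mul_smul a b x := by
    apply Subtype.ext
    show ((a * b : Subgroup.zpowers y) : G) * (x : G) * ((a * b : Subgroup.zpowers y) : G)⁻¹
      = (a : G) * ((b : G) * (x : G) * (b : G)⁻¹) * (a : G)⁻¹
    simp [mul_assoc]
  smul_mul a x1 x2 := by
    apply Subtype.ext
    show (a : G) * ((x1 * x2 : N) : G) * (a : G)⁻¹
      = ((a : G) * (x1 : G) * (a : G)⁻¹) * ((a : G) * (x2 : G) * (a : G)⁻¹)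
    simp [mul_assoc]
  smul_one a := by
    apply Subtype.ext
    show (a : G) * ((1 : N) : G) * (a : G)⁻¹ = ((1 : N) : G)
    simp

theorem main : LemF.{u} := by
  intro G _ _ N y s r k m hs hr hy hyN hsN hN hrm hmod
  haveI : Fact s.Prime := ⟨hs⟩
  haveI : Fact r.Prime := ⟨hr⟩
  have hZN : ∀ z ∈ Subgroup.zpowers y, ∀ x ∈ N, z * x * z⁻¹ ∈ N := by
    intro z hz x hx
    have : z ∈ Subgroup.normalizer (N : Set G) := (Subgroup.zpowers_le.mpr hyN) hz
    exact (Subgroup.mem_normalizer_iff.mp this x).mp hx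
  letI act : MulDistribMulAction (Subgroup.zpowers y) N := conjAct N y hZN
  have hZ : IsPGroup s (Subgroup.zpowers y) :=
    IsPGroup.of_card (n := 1) (by rw [Nat.card_zpowers, hy, pow_one])
  have hdvd : ¬ s ∣ Nat.card (Sylow r N) := by
    intro h
    obtain ⟨P⟩ : Nonempty (Sylow r N) := inferInstance
    exact hsN (h.trans ((Sylow.card_dvd_index P).trans (Subgroup.index_dvd_card _)))
  obtain ⟨R, hR⟩ := hZ.nonempty_fixed_point_of_prime_not_dvd_card (Sylow r N) hdvd
  have hR' : ∀ z : Subgroup.zpowers y, ∀ x : N, x ∈ (R : Subgroup N) →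
      z • x ∈ (R : Subgroup N) := by
    intro z x hx
    have h1 : z • R = R := hR z
    have h2 : z • x ∈ z • (R : Subgroup N) := Subgroup.smul_mem_pointwise_smul x z _ hx
    rw [← Sylow.pointwise_smul_def, h1] at h2
    exact h2
  letI act2 : MulAction (Subgroup.zpowers y) (R : Subgroup N) :=
    { smul := fun z x => ⟨z • x.1, hR' z x.1 x.2⟩
      one_smul := fun x => Subtype.ext (one_smul _ x.1)
      mul_smul := fun a b x => Subtype.ext (mul_smul a b x.1) }
  have hcard := hZ.card_modEq_card_fixedPoints (R : Subgroup N)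
  have hRcard : Nat.card (R : Subgroup N) = r ^ k := by
    rw [Sylow.card_eq_multiplicity, hN]
    congr 1
    have hm0 : m ≠ 0 := by rintro rfl; exact hrm (dvd_zero _)
    rw [Nat.factorization_mul (pow_ne_zero _ hr.ne_zero) hm0, Nat.Prime.factorization_pow hr]
    simp [Nat.factorization_eq_zero_of_not_dvd hrm]
  rw [hRcard] at hcard
  have hne1 : Nat.card (MulAction.fixedPoints (Subgroup.zpowers y) (R : Subgroup N)) ≠ 1 := by
    intro h; rw [h] at hcard; exact hmod hcard
  have hex : ∃ x : (R : Subgroup N),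
      x ∈ MulAction.fixedPoints (Subgroup.zpowers y) (R : Subgroup N) ∧ x ≠ 1 := by
    by_contra hcon
    push_neg at hcon
    apply hne1
    rw [Nat.card_eq_one_iff_unique]
    refine ⟨⟨fun a b => Subtype.ext ((hcon a.1 a.2).trans (hcon b.1 b.2).symm)⟩,
      ⟨⟨1, fun z => ?_⟩⟩⟩
    apply Subtype.ext
    exact smul_one z
  obtain ⟨x, hxfix, hx1⟩ := hex
  have hfix : y * (x.1.1 : G) * y⁻¹ = (x.1.1 : G) := by
    have h := hxfix ⟨y, Subgroup.mem_zpowers y⟩
    have h2 := congrArg (fun t : (R : Subgroup N) => (t.1.1 : G)) h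
    exact h2
  have hX1 : (x.1.1 : G) ≠ 1 := by
    intro h
    apply hx1
    apply Subtype.ext
    apply Subtype.ext
    exact h
  have hcomm : Commute (x.1.1 : G) y := by
    show (x.1.1 : G) * y = y * (x.1.1 : G)
    have := congrArg (fun t => t * y) hfix
    simp only [inv_mul_cancel_right] at this
    exact this.symm
  obtain ⟨j, hj⟩ := R.isPGroup' x
  have hXj : (x.1.1 : G) ^ (r ^ j) = 1 := by
    have h2 := congrArg (fun t : (R : Subgroup N) => (t.1.1 : G)) hj
    simpa using h2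
  obtain ⟨i, hij, hi⟩ := (Nat.dvd_prime_pow hr).mp (orderOf_dvd_of_pow_eq_one hXj)
  have hi0 : i ≠ 0 := by
    rintro rfl
    rw [pow_zero, orderOf_eq_one_iff] at hi
    exact hX1 hi
  have hord : orderOf ((x.1.1 : G) ^ (r ^ (i - 1))) = r := by
    rw [orderOf_pow_of_dvd (pow_ne_zero _ hr.ne_zero) (by rw [hi]; exact pow_dvd_pow r (Nat.sub_le _ _)),
      hi, Nat.pow_div (Nat.sub_le _ _) hr.pos]
    have : i - (i - 1) = 1 := by omega
    rw [this, pow_one]
  have hk0 : k ≠ 0 := by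
    rintro rfl
    exact hmod (by rw [pow_zero])
  have hrs : r ≠ s := by
    rintro rfl
    apply hsN
    rw [hN]
    exact Dvd.dvd.mul_right (dvd_pow_self _ hk0) _
  refine ⟨(x.1.1 : G) ^ (r ^ (i - 1)) * y, ?_⟩
  rw [Commute.orderOf_mul_eq_mul_orderOf_of_coprime (hcomm.pow_left _)
    (by rw [hord, hy]; exact (Nat.coprime_primes hr hs).mpr hrs), hord, hy]

end Cfsg.Agent.Lib.Helper68.PGLEMF
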