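import Cfsg.Agent.Lib.Helper68.RHKT

/-!
# Small Ree groups, piece KA2: numbers of elements of order `2 i`, `i ∣ (q+1)/4`, `i > 1`
-/

set_option autoImplicit false

namespace Cfsg.Agent.Lib.Helper68.RHKA2

open Cfsg.Agent.Lib.Helper42.ReeSpStmt Cfsg.Agent.Lib.Helper18.ReeHallStmt
open Cfsg.Agent.Lib.Helper68

universe u v

theorem qq_mod8 (m : ℕ) : qq m % 8 = 3 := by
  induction m with
  | zero =>
    show (3 : ℕ) ^ (2 * 0 + 1) % 8 = 3
    norm_num
  | succ k ih =>
    have h : qq (k + 1) = 9 * qq k := by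
      show 3 ^ (2 * (k + 1) + 1) = 9 * 3 ^ (2 * k + 1)
      ring
    omega

/-- fusion: `C(y) = C = C(g y g⁻¹)` forces `g ∈ N(C)` -/
theorem fusion' {G : Type u} [Group G] (C : Subgroup G) (g y : G)
    (h1 : Subgroup.centralizer ({y} : Set G) = C)
    (h2 : Subgroup.centralizer ({g * y * g⁻¹} : Set G) = C) :
    g ∈ Subgroup.normalizer (C : Set G) := by
  rw [Subgroup.mem_normalizer_iff]
  intro h
  constructor
  · intro hh
    have e1 : h ∈ Subgroup.centralizer ({y} : Set G) := by rw [h1]; exact hh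
    rw [Subgroup.mem_centralizer_singleton_iff] at e1
    have e2 : g * h * g⁻¹ ∈ Subgroup.centralizer ({g * y * g⁻¹} : Set G) := by
      rw [Subgroup.mem_centralizer_singleton_iff]
      calc g * h * g⁻¹ * (g * y * g⁻¹) = g * (h * y) * g⁻¹ := by group
        _ = g * (y * h) * g⁻¹ := by rw [e1]
        _ = g * y * g⁻¹ * (g * h * g⁻¹) := by group
    rw [h2] at e2
    exact e2
  · intro hh
    have e2 : g * h * g⁻¹ ∈ Subgroup.centralizer ({g * y * g⁻¹} : Set G) := by
      rw [h2]; exact hh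
    rw [Subgroup.mem_centralizer_singleton_iff] at e2
    have e1 : h ∈ Subgroup.centralizer ({y} : Set G) := by
      rw [Subgroup.mem_centralizer_singleton_iff]
      calc h * y = g⁻¹ * (g * h * g⁻¹ * (g * y * g⁻¹)) * g := by group
        _ = g⁻¹ * (g * y * g⁻¹ * (g * h * g⁻¹)) * g := by rw [e2]
        _ = y * h := by group
    rw [h1] at e1
    exact e1

/-- elements of square one in a commutative group, as a subgroup -/
def sqSub (Z : Type u) [Group Z] (hcomm : ∀ x y : Z, x * y = y * x) : Subgroup Z where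
  carrier := {s | s * s = 1}
  mul_mem' := by
    intro s t hs ht
    have hs' : s * s = 1 := hs
    have ht' : t * t = 1 := ht
    show s * t * (s * t) = 1
    calc s * t * (s * t) = s * (t * s) * t := by group
      _ = s * (s * t) * t := by rw [hcomm t s]
      _ = (s * s) * (t * t) := by group
      _ = 1 := by rw [hs', ht', one_mul]
  one_mem' := by
    show (1 : Z) * 1 = 1
    rw [one_mul]
  inv_mem' := by
    intro s hs
    have hs' : s * s = 1 := hs
    show s⁻¹ * s⁻¹ = 1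
    rw [← mul_inv_rev, hs', inv_one]

theorem mem_sqSub {Z : Type u} [Group Z] (hcomm : ∀ x y : Z, x * y = y * x) (s : Z) :
    s ∈ sqSub Z hcomm ↔ s * s = 1 := Iff.rfl

/-- a commutative group of order `4 a`, `a` odd, without elements of order 4 has exactly three
involutions -/
theorem card_involutions {Z : Type u} [Group Z] [Finite Z] (hcomm : ∀ x y : Z, x * y = y * x)
    (a : ℕ) (haodd : Odd a) (hcard : Nat.card Z = 4 * a) (hno4 : ∀ x : Z, orderOf x ≠ 4) :
    Nat.card {s : Z // orderOf s = 2} = 3 := by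
  classical
  have hEp : IsPGroup 2 (sqSub Z hcomm) := by
    intro g
    refine ⟨1, ?_⟩
    apply Subtype.ext
    have h1 : (g : Z) * (g : Z) = 1 := (mem_sqSub hcomm _).1 g.2
    rw [pow_one, pow_two]
    exact h1
  obtain ⟨n, hn⟩ := IsPGroup.iff_card.1 hEp
  have hdvd : Nat.card (sqSub Z hcomm) ∣ 4 * a := by
    rw [← hcard]; exact Subgroup.card_subgroup_dvd_card _
  have hd4 : 2 ^ n ∣ 4 := by
    rw [hn] at hdvd
    exact Nat.Coprime.dvd_of_dvd_mul_right
      (Nat.Coprime.pow_left n (Nat.coprime_two_left.2 haodd)) hdvd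
  obtain ⟨S, hS⟩ := Sylow.exists_subgroup_card_pow_prime 2
    (show 2 ^ 2 ∣ Nat.card Z by rw [hcard]; exact ⟨a, by norm_num⟩)
  have h9 : (2 : ℕ) ^ 2 = 4 := by norm_num
  rw [h9] at hS
  have hSE : S ≤ sqSub Z hcomm := by
    intro s hs
    rw [mem_sqSub]
    have h1 : orderOf s ∣ 4 := by
      have h2 : orderOf (⟨s, hs⟩ : S) ∣ Nat.card S := orderOf_dvd_natCard _
      rw [Subgroup.orderOf_mk, hS] at h2
      exact h2
    have h2 : orderOf s ≠ 4 := hno4 s
    have h3 : orderOf s ≤ 4 := Nat.le_of_dvd (by norm_num) h1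
    have h0 : 0 < orderOf s := orderOf_pos s
    have h4 : orderOf s ∣ 2 := by
      generalize orderOf s = k at *
      interval_cases k <;> omega
    rw [← pow_two]
    exact orderOf_dvd_iff_pow_eq_one.1 h4
  have h4le : 4 ≤ Nat.card (sqSub Z hcomm) := by
    have h5 := Subgroup.card_le_of_le hSE
    rw [hS] at h5
    exact h5
  have hE4 : Nat.card (sqSub Z hcomm) = 4 := by
    have h5 : Nat.card (sqSub Z hcomm) ≤ 4 := by
      rw [hn]; exact Nat.le_of_dvd (by norm_num) hd4
    omega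
  have hset : ((sqSub Z hcomm : Subgroup Z) : Set Z) = {1} ∪ {s : Z | orderOf s = 2} := by
    ext s
    simp only [SetLike.mem_coe, Set.mem_union, Set.mem_singleton_iff, Set.mem_setOf_eq]
    rw [mem_sqSub, orderOf_eq_prime_iff, ← pow_two]
    constructor
    · intro h
      by_cases h1 : s = 1
      · left; exact h1
      · right; exact ⟨h, h1⟩
    · rintro (h | h)
      · rw [h, one_pow]
      · exact h.1
  have hdisj : Disjoint ({1} : Set Z) {s : Z | orderOf s = 2} := by
    rw [Set.disjoint_singleton_left]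
    simp
  have h6 : Nat.card (sqSub Z hcomm) = (({1} : Set Z) ∪ {s : Z | orderOf s = 2}).ncard := by
    rw [← hset]; rfl
  rw [Set.ncard_union_eq hdisj, Set.ncard_singleton, hE4] at h6
  have h7 : Nat.card {s : Z // orderOf s = 2} = {s : Z | orderOf s = 2}.ncard := rfl
  omega

theorem gcd_lemma (i : ℕ) (hiodd : Odd i) : Nat.gcd (2 * i) (i + 1) = 2 := by
  obtain ⟨j, hj⟩ := hiodd
  have h1 : Nat.gcd (2 * j + 1) (j + 1) = 1 := by
    have h2 : Nat.gcd (2 * j + 1) (j + 1) ∣ 1 := by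
      have ha := Nat.gcd_dvd_left (2 * j + 1) (j + 1)
      have hb := Nat.gcd_dvd_right (2 * j + 1) (j + 1)
      have hc := Nat.dvd_sub (Dvd.dvd.mul_left hb 2) ha
      rwa [show 2 * (j + 1) - (2 * j + 1) = 1 by omega] at hc
    exact Nat.dvd_one.1 h2
  rw [hj, show 2 * j + 1 + 1 = 2 * (j + 1) by ring, Nat.gcd_mul_left, h1, mul_one]

theorem ka2_core {G : Type u} [Group G] [Finite G] (hCnt : Cnt.{u}) (A : Subgroup G) (a q : ℕ)
    (hq : q + 1 = 4 * a) (haodd : Odd a)
    (hcycA : IsCyclic A) (hcardA : Nat.card A = a)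
    (hcentA : ∀ x ∈ A, x ≠ 1 →
      Subgroup.centralizer ({x} : Set G) = Subgroup.centralizer (A : Set G))
    (hcardZ : Nat.card ↥(Subgroup.centralizer (A : Set G)) = q + 1)
    (hcomm : ∀ x ∈ Subgroup.centralizer (A : Set G), ∀ y ∈ Subgroup.centralizer (A : Set G),
      x * y = y * x)
    (hno4 : ∀ x ∈ Subgroup.centralizer (A : Set G), orderOf x ≠ 4)
    (hcov : ∀ (g : G) (p : ℕ), p.Prime → p ≠ 2 → p ∣ orderOf g → p ∣ q + 1 →
      ∃ x : G, x * g * x⁻¹ ∈ Subgroup.centralizer (A : Set G))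
    (hNA : Nat.card ↥(Subgroup.normalizer (A : Set G)) = 6 * (q + 1))
    (i : ℕ) (hi1 : 1 < i) (hia : i ∣ a) :
    Nat.card {g : G // orderOf g = 2 * i} * (6 * (q + 1)) =
      (Nat.totient i * 3) * Nat.card G := by
  classical
  obtain ⟨Z, hZ⟩ : ∃ Z : Subgroup G, Z = Subgroup.centralizer (A : Set G) := ⟨_, rfl⟩
  rw [← hZ] at hcentA hcardZ hcomm hno4 hcov
  have hapos : 0 < a := by
    obtain ⟨k, hk⟩ := haodd
    omega
  have hiodd : Odd i := haodd.of_dvd_nat hia
  have hipos : 0 < i := by omega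
  have hAcomm : ∀ x ∈ A, ∀ y ∈ A, x * y = y * x := by
    intro x hx y hy
    obtain ⟨g, hg⟩ := IsCyclic.exists_generator (α := A)
    obtain ⟨k, hk⟩ := Subgroup.mem_zpowers_iff.1 (hg ⟨x, hx⟩)
    obtain ⟨l, hl⟩ := Subgroup.mem_zpowers_iff.1 (hg ⟨y, hy⟩)
    have h1 : (⟨x, hx⟩ : A) * ⟨y, hy⟩ = ⟨y, hy⟩ * ⟨x, hx⟩ := by
      rw [← hk, ← hl, ← zpow_add, ← zpow_add, add_comm]
    exact congrArg Subtype.val h1
  have hAZ : A ≤ Z := by
    intro x hx
    rw [hZ, Subgroup.mem_centralizer_iff]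
    intro y hy
    exact hAcomm y hy x hx
  have hmemdvd : ∀ (C : Subgroup G) (y : G), y ∈ C → orderOf y ∣ Nat.card C := by
    intro C y hy
    have h5 : orderOf (⟨y, hy⟩ : C) ∣ Nat.card C := orderOf_dvd_natCard _
    rwa [Subgroup.orderOf_mk] at h5
  have hAodd : ∀ x ∈ A, Odd (orderOf x) := by
    intro x hx
    have h5 := hmemdvd A x hx
    rw [hcardA] at h5
    exact haodd.of_dvd_nat h5
  -- fourth powers of elements of `Z` lie in `A`
  have h4 : ∀ z ∈ Z, z ^ 4 ∈ A := by
    intro z hz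
    haveI : (A.subgroupOf Z).Normal := ⟨fun n hn g => by
      have h5 : g * n * g⁻¹ = n := by
        apply Subtype.ext
        have h6 : (g : G) * (n : G) = (n : G) * (g : G) := hcomm _ g.2 _ n.2
        show (g : G) * (n : G) * (g : G)⁻¹ = (n : G)
        rw [h6, mul_inv_cancel_right]
      rw [h5]; exact hn⟩
    have hidx : (A.subgroupOf Z).index = 4 := by
      have h5 := Subgroup.card_mul_index (A.subgroupOf Z)
      rw [Nat.card_congr (Subgroup.subgroupOfEquivOfLe hAZ).toEquiv, hcardA, hcardZ, hq] at h5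
      have h6 : a * (A.subgroupOf Z).index = a * 4 := by rw [h5, mul_comm]
      exact Nat.eq_of_mul_eq_mul_left hapos h6
    have h7 := Subgroup.pow_index_mem (A.subgroupOf Z) (⟨z, hz⟩ : Z)
    rw [hidx, Subgroup.mem_subgroupOf] at h7
    exact h7
  -- odd order elements of `Z` lie in `A`
  have hL1 : ∀ z ∈ Z, Odd (orderOf z) → z ∈ A := by
    intro z hz hodd
    obtain ⟨j, hj⟩ := hodd
    have e : (z ^ 4) ^ ((j + 1) ^ 2) = z := by
      rw [← pow_mul]
      have h5 : 4 * (j + 1) ^ 2 = orderOf z * (orderOf z + 2) + 1 := by rw [hj]; ring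
      rw [h5, pow_succ, pow_mul, pow_orderOf_eq_one, one_pow, one_mul]
    rw [← e]
    exact A.pow_mem (h4 z hz) _
  -- the involutions of `Z`
  have hinv3 : Nat.card {s : ↥Z // orderOf (s : G) = 2} = 3 := by
    have h5 := card_involutions (Z := ↥Z) (fun x y => Subtype.ext (hcomm _ x.2 _ y.2)) a haodd
      (by rw [hcardZ, hq]) (fun x => by rw [← Subgroup.orderOf_coe]; exact hno4 _ x.2)
    simp only [Subgroup.orderOf_coe]
    exact h5
  -- the elements of order `2 i` of `Z`
  have key_inj : ∀ x x' s s' : G, x ∈ A → x' ∈ A → s ∈ Z → s' ∈ Z → orderOf s = 2 →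
      orderOf s' = 2 → x * s = x' * s' → x = x' ∧ s = s' := by
    intro x x' s s' hx hx' hs hs' hso hso' h
    have e : x'⁻¹ * x = s' * s⁻¹ := by
      rw [inv_mul_eq_iff_eq_mul, ← mul_assoc, ← h, mul_inv_cancel_right]
    have hs2 : s ^ 2 = 1 := by rw [← hso]; exact pow_orderOf_eq_one s
    have hs2' : s' ^ 2 = 1 := by rw [← hso']; exact pow_orderOf_eq_one s'
    have hw2 : (x'⁻¹ * x) ^ 2 = 1 := by
      rw [e]
      have hc : Commute s' s⁻¹ := hcomm _ hs' _ (Z.inv_mem hs)
      rw [hc.mul_pow, hs2', inv_pow, hs2, inv_one, one_mul]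
    have hwA : x'⁻¹ * x ∈ A := A.mul_mem (A.inv_mem hx') hx
    have hwodd := hAodd _ hwA
    have hwd : orderOf (x'⁻¹ * x) ∣ 2 := orderOf_dvd_of_pow_eq_one hw2
    have hw1 : orderOf (x'⁻¹ * x) = 1 :=
      Nat.Coprime.eq_one_of_dvd (Nat.coprime_two_right.2 hwodd) hwd
    have hw : x'⁻¹ * x = 1 := orderOf_eq_one_iff.1 hw1
    have hxx : x' = x := inv_mul_eq_one.1 hw
    refine ⟨hxx.symm, ?_⟩
    rw [hxx] at h
    exact mul_left_cancel h
  have forder : ∀ p : {x : ↥A // orderOf (x : G) = i} × {s : ↥Z // orderOf (s : G) = 2},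
      orderOf ((p.1.1 : G) * (p.2.1 : G)) = 2 * i := by
    intro p
    have hc : Commute (p.1.1 : G) (p.2.1 : G) := hcomm _ (hAZ p.1.1.2) _ p.2.1.2
    rw [hc.orderOf_mul_eq_mul_orderOf_of_coprime
      (by rw [p.1.2, p.2.2]; exact Nat.coprime_two_right.2 hiodd), p.1.2, p.2.2, mul_comm]
  have hcount : Nat.card {y : ↥Z // orderOf (y : G) = 2 * i} = Nat.totient i * 3 := by
    have hA_i : Nat.card {x : ↥A // orderOf (x : G) = i} = Nat.totient i :=
      RHKT.card_order_cyclic A hcycA i (by rw [hcardA]; exact hia)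
    have hbij : Function.Bijective
        (fun p : {x : ↥A // orderOf (x : G) = i} × {s : ↥Z // orderOf (s : G) = 2} =>
          (⟨⟨(p.1.1 : G) * (p.2.1 : G), Z.mul_mem (hAZ p.1.1.2) p.2.1.2⟩, forder p⟩ :
            {y : ↥Z // orderOf (y : G) = 2 * i})) := by
      constructor
      · intro p p' h
        have h' : (p.1.1 : G) * (p.2.1 : G) = (p'.1.1 : G) * (p'.2.1 : G) :=
          congrArg (fun y : {y : ↥Z // orderOf (y : G) = 2 * i} => ((y.1 : ↥Z) : G)) h
        obtain ⟨h1, h2⟩ := key_inj _ _ _ _ p.1.1.2 p'.1.1.2 p.2.1.2 p'.2.1.2 p.2.2 p'.2.2 h'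
        exact Prod.ext (Subtype.ext (Subtype.ext h1)) (Subtype.ext (Subtype.ext h2))
      · rintro ⟨⟨g, hgZ⟩, hg⟩
        have hg' : orderOf g = 2 * i := hg
        have ho1 : orderOf (g ^ (i + 1)) = i := by
          rw [orderOf_pow' g (by omega), hg', gcd_lemma i hiodd,
            Nat.mul_div_cancel_left i (by norm_num)]
        have ho2 : orderOf (g ^ i) = 2 := by
          rw [orderOf_pow' g (by omega), hg', Nat.gcd_mul_left_left, Nat.mul_div_cancel _ hipos]
        have hmem1 : g ^ (i + 1) ∈ A := hL1 _ (Z.pow_mem hgZ _) (by rw [ho1]; exact hiodd)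
        refine ⟨(⟨⟨g ^ (i + 1), hmem1⟩, ho1⟩, ⟨⟨g ^ i, Z.pow_mem hgZ _⟩, ho2⟩), ?_⟩
        apply Subtype.ext
        apply Subtype.ext
        show g ^ (i + 1) * g ^ i = g
        rw [← pow_add, show i + 1 + i = 2 * i + 1 by ring, pow_succ, ← hg', pow_orderOf_eq_one,
          one_mul]
    calc Nat.card {y : ↥Z // orderOf (y : G) = 2 * i}
        = Nat.card ({x : ↥A // orderOf (x : G) = i} × {s : ↥Z // orderOf (s : G) = 2}) :=
          (Nat.card_congr (Equiv.ofBijective _ hbij)).symm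
      _ = Nat.card {x : ↥A // orderOf (x : G) = i} * Nat.card {s : ↥Z // orderOf (s : G) = 2} :=
          Nat.card_prod _ _
      _ = Nat.totient i * 3 := by rw [hA_i, hinv3]
  -- `N(Z) = N(A)`
  have hNZ : Subgroup.normalizer (Z : Set G) = Subgroup.normalizer (A : Set G) := by
    apply le_antisymm
    · intro g hg
      rw [Subgroup.mem_normalizer_iff] at hg ⊢
      intro h
      constructor
      · intro hh
        have h1 : g * h * g⁻¹ ∈ Z := (hg h).1 (hAZ hh)
        exact hL1 _ h1 (by rw [RHKT.orderOf_conj']; exact hAodd h hh)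
      · intro hh
        have h1 : h ∈ Z := (hg h).2 (hAZ hh)
        have h2 : Odd (orderOf h) := by
          have h3 := hAodd _ hh
          rwa [RHKT.orderOf_conj'] at h3
        exact hL1 h h1 h2
    · intro g hg
      rw [Subgroup.mem_normalizer_iff] at hg ⊢
      intro h
      rw [hZ]
      constructor
      · intro hh
        rw [Subgroup.mem_centralizer_iff] at hh ⊢
        intro x hx
        have h1 : g⁻¹ * x * g ∈ A := by
          rw [hg (g⁻¹ * x * g)]
          have h3 : g * (g⁻¹ * x * g) * g⁻¹ = x := by group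
          rw [h3]; exact hx
        have h2 := hh _ h1
        calc x * (g * h * g⁻¹) = g * (g⁻¹ * x * g * h) * g⁻¹ := by group
          _ = g * (h * (g⁻¹ * x * g)) * g⁻¹ := by rw [h2]
          _ = g * h * g⁻¹ * x := by group
      · intro hh
        rw [Subgroup.mem_centralizer_iff] at hh ⊢
        intro x hx
        have h1 : g * x * g⁻¹ ∈ A := (hg x).1 hx
        have h2 := hh _ h1
        calc x * h = g⁻¹ * (g * x * g⁻¹ * (g * h * g⁻¹)) * g := by group
          _ = g⁻¹ * (g * h * g⁻¹ * (g * x * g⁻¹)) * g := by rw [h2]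
          _ = h * x := by group
  have h : Nat.card {g : G // orderOf g = 2 * i} *
      Nat.card ↥(Subgroup.normalizer (Z : Set G)) =
      Nat.card {y : ↥Z // orderOf (y : G) = 2 * i} * Nat.card G := by
    refine hCnt G Z (fun g => orderOf g = 2 * i) ?_ ?_ ?_
    · intro g x hg
      rw [RHKT.orderOf_conj']; exact hg
    · intro g y hy hP hgy
      have hP' : orderOf y = 2 * i := hP
      have hy2o : orderOf (y ^ 2) = i := by
        rw [orderOf_pow' y (by norm_num), hP', Nat.gcd_mul_right_left,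
          Nat.mul_div_cancel_left i (by norm_num)]
      have hy2A : y ^ 2 ∈ A := hL1 _ (Z.pow_mem hy _) (by rw [hy2o]; exact hiodd)
      have hy2ne : y ^ 2 ≠ 1 := by
        intro h1
        rw [h1, orderOf_one] at hy2o
        omega
      have hc2 : g * y ^ 2 * g⁻¹ = (g * y * g⁻¹) ^ 2 := conj_pow.symm
      have hgy2Z : g * y ^ 2 * g⁻¹ ∈ Z := by rw [hc2]; exact Z.pow_mem hgy _
      have hgy2o : orderOf (g * y ^ 2 * g⁻¹) = i := by rw [RHKT.orderOf_conj']; exact hy2o
      have hgy2A : g * y ^ 2 * g⁻¹ ∈ A := hL1 _ hgy2Z (by rw [hgy2o]; exact hiodd)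
      have hgy2ne : g * y ^ 2 * g⁻¹ ≠ 1 := fun h1 => hy2ne (conj_eq_one_iff.1 h1)
      exact fusion' Z g (y ^ 2) (hcentA _ hy2A hy2ne) (hcentA _ hgy2A hgy2ne)
    · intro g hg
      have hg' : orderOf g = 2 * i := hg
      obtain ⟨p, hp, hpi⟩ := Nat.exists_prime_and_dvd (by omega : i ≠ 1)
      have hp2 : p ≠ 2 := by
        intro h2
        rw [h2] at hpi
        have h3 : 2 ∣ a := hpi.trans hia
        obtain ⟨k, hk⟩ := haodd
        omega
      exact hcov g p hp hp2 (by rw [hg']; exact Dvd.dvd.mul_left hpi 2)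
        (by rw [hq]; exact Dvd.dvd.mul_left (hpi.trans hia) 4)
  rw [hNZ, hNA, hcount] at h
  exact h

theorem main : KA2.{u, v} := by
  intro G _ _ U H A K _ _ m hax hCnt hOdd hNA i hi1 hidvd
  have hmod := qq_mod8 m
  have hq : qq m + 1 = 4 * ((qq m + 1) / 4) := by omega
  have haodd : Odd ((qq m + 1) / 4) := by
    rw [Nat.odd_iff]; omega
  have hc := ka2_core hCnt A ((qq m + 1) / 4) (qq m) hq haodd hax.cycA hax.cardA hax.centA
    hax.cardCA hax.commCA hax.no4 hOdd hNA i hi1 hidvd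
  rw [hax.card] at hc
  have hY : qq m ^ 2 - qq m + 1 + qq m = qq m ^ 2 + 1 := by
    have h5 : qq m ≤ qq m ^ 2 := Nat.le_self_pow (by norm_num) _
    omega
  have hg3 : qq m ^ 3 + 1 = (qq m + 1) * (qq m ^ 2 - qq m + 1) := by
    generalize qq m ^ 2 - qq m + 1 = Y at hY
    nlinarith [hY]
  have hpos : 0 < 3 * (qq m + 1) := by omega
  apply Nat.eq_of_mul_eq_mul_right hpos
  calc 2 * Nat.card {g : G // orderOf g = 2 * i} * (3 * (qq m + 1))
      = Nat.card {g : G // orderOf g = 2 * i} * (6 * (qq m + 1)) := by ring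
    _ = Nat.totient i * 3 * (qq m ^ 3 * (qq m - 1) * (qq m ^ 3 + 1)) := hc
    _ = Nat.totient i * qq m ^ 3 * (qq m - 1) * (qq m ^ 2 - qq m + 1) * (3 * (qq m + 1)) := by
        rw [hg3]; ring

end Cfsg.Agent.Lib.Helper68.RHKA2
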